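import Groth.Agent.Surf.K461.ProperForm
import Groth.Agent.S3635

/-!
# Serre duality for a smooth proper scheme over a field

`X` proper over a field `k`, smooth of relative dimension `n`, `W` an `n`-th exterior power of `Ω_{X/k}`.

* `exists_form`: `Hom_D(K, W[n]) = Hom_k(Hom_D(O_X, K), k)` for `K` in `D_QCoh(X)`, through a linear form `τ` on
  `Hom_D(O_X, W[n])`.
* `nonempty_dual_equiv`: for `L` with tensor inverse `L'`, `H^p(X, L)^* = H^m(X, W ⊗ L')` for `m + p = n`.
* `finrank_eq`: equality of dimensions.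
-/

set_option autoImplicit false

universe u

open CategoryTheory CategoryTheory.Limits AlgebraicGeometry

attribute [local instance] HasDerivedCategory.standard

namespace K461.SerreDual

open Groth.Agent Groth.Agent.CurvesC Groth.Agent.CurvesC.RepX Groth.Agent.CurvesC.DualLin

variable (k : Type u) [Field k] (X : Scheme.{u}) [X.Over (Spec (CommRingCat.of k))]

attribute [local instance] LinMod.linearModules

theorem exists_form [IsProper (X ↘ Spec (CommRingCat.of k))] (n : ℕ)
    [SmoothOfRelativeDimension n (X ↘ Spec (CommRingCat.of k))] (W : X.Modules)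
    (hW : ExtPow.IsExtPow n (Omega.sheaf (X ↘ Spec (CommRingCat.of k))) W) :
    ∃ τ : (P X ⟶ (DCoh.inD X W)⟦(n : ℤ)⟧) →ₗ[k] k,
      ∀ K : DCoh.D X, DCoh.IsQCohD K → Function.Bijective (pairing k X τ K) := by
  obtain ⟨hR, h, hs, OY, hOY⟩ := ProperForm.exists_data k X
  exact ProperForm.exists_form_of_adj k X h _ (DCoh.shriekAdj (X ↘ Spec (CommRingCat.of k)) h) OY hOY (n : ℤ)
    (S3635.result (Spec (CommRingCat.of k)) X n (X ↘ Spec (CommRingCat.of k)) h _
      (DCoh.shriekAdj (X ↘ Spec (CommRingCat.of k)) h) OY hOY W hW)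

variable {X}

section

variable [IsProper (X ↘ Spec (CommRingCat.of k))] (n : ℕ)
  [SmoothOfRelativeDimension n (X ↘ Spec (CommRingCat.of k))] {W : X.Modules}
  (hW : ExtPow.IsExtPow n (Omega.sheaf (X ↘ Spec (CommRingCat.of k))) W) {L L' : X.Modules}
  (e : Nonempty (CohB1.tensorMod L L' ≅ Coh.structureModule X))

include hW e

/-- **Serre duality** for an invertible module `L` with inverse `L'`: `H^p(X, L)^* = H^m(X, W ⊗ L')`, `m + p = n`. -/
theorem nonempty_dual_equiv (hL : Coh.IsQCoh L) (m p : ℕ) (h : m + p = n) :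
    Nonempty (Module.Dual k (Coh.HH X L p) ≃ₗ[k] Coh.HH X (CohB1.tensorMod W L') m) := by
  obtain ⟨τ, hτ⟩ := exists_form k X n W hW
  exact DualInv.nonempty_dual_equiv_of_form k e hL m p n h τ hτ

theorem finrank_eq (hL : Coh.IsQCoh L) (m p : ℕ) (h : m + p = n) :
    Module.finrank k (Coh.HH X L p) = Module.finrank k (Coh.HH X (CohB1.tensorMod W L') m) := by
  obtain ⟨τ, hτ⟩ := exists_form k X n W hW
  exact DualInv.finrank_eq_of_form k e hL m p n h τ hτ

end

end K461.SerreDual
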