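import Groth.Agent.Surf.K461.DualLF
import Groth.Agent.Surf.K461.SerreDual

/-!
# Serre duality for finite locally free modules on a smooth proper scheme over a field

`nonempty_dual_equiv`: `H^p(X, F)^* = H^m(X, Hom(F, W))`, `m + p = n`, `F` finite locally free, `X` proper and smooth
of relative dimension `n`, `W` an `n`-th exterior power of `Ω_{X/k}`.
-/

set_option autoImplicit false

universe u

open CategoryTheory CategoryTheory.Limits AlgebraicGeometry

namespace K461.SerreLF

open Groth.Agent

variable (k : Type u) [Field k] {X : Scheme.{u}} [X.Over (Spec (CommRingCat.of k))]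
  [IsProper (X ↘ Spec (CommRingCat.of k))] (n : ℕ)
  [SmoothOfRelativeDimension n (X ↘ Spec (CommRingCat.of k))] {W : X.Modules}
  (hW : ExtPow.IsExtPow n (Omega.sheaf (X ↘ Spec (CommRingCat.of k))) W) {F : X.Modules}
  (hF : FlatMod.IsFinLocFree F) [DCoh.HasSheafHom F]

include hW hF

theorem nonempty_dual_equiv (m p : ℕ) (h : m + p = n) :
    Nonempty (Module.Dual k (Coh.HH X F p) ≃ₗ[k] Coh.HH X ((DCoh.sheafHom F).obj W) m) := by
  obtain ⟨τ, hτ⟩ := SerreDual.exists_form k X n W hW
  exact DualLF.nonempty_dual_equiv_of_form k hF m p n h τ hτ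

theorem finrank_eq (m p : ℕ) (h : m + p = n) :
    Module.finrank k (Coh.HH X F p) = Module.finrank k (Coh.HH X ((DCoh.sheafHom F).obj W) m) := by
  obtain ⟨τ, hτ⟩ := SerreDual.exists_form k X n W hW
  exact DualLF.finrank_eq_of_form k hF m p n h τ hτ

end K461.SerreLF
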