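import Groth.Agent.S0494
import Groth.Agent.S0927
import Groth.Agent.S0036
import Groth.Agent.Ega3B.RpushAbCmp
import Groth.Agent.Ega3B.RpushAff
import Groth.Agent.Ega3B.SerreTwist
import Groth.Agent.CohqA.RelCoh2
import Groth.Agent.VarietyB.HHPush
import Groth.Agent.Ega2.QCohLocal
import Groth.Agent.Fga.PicMon
import Groth.Agent.Ega1.TensorRestrict
import Groth.Agent.CohqA.HOpen
import Groth.Agent.FormalA.PullbackQC

/-!
# Higher direct images and cohomology of twists by an ample module of the base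

`f : X ⟶ Y` proper, `Y` proper over a Noetherian ring with an ample module `A`, `M` coherent on `X`:

* `nonempty_equiv_sections`: `H^q(X, M) = Γ(Y, R^q f_* M)` if the `R^q f_* M` have no higher cohomology.
* `exists_sections`: for `n ≫ 0`, `H^q(X, f^*A^n ⊗ M) = Γ(Y, R^q f_* M ⊗ A^n)` for all `q`.
* `isZero_rpush_iff_eventually`: `R^q f_* M = 0` iff `H^q(X, f^*A^n ⊗ M) = 0` for `n ≫ 0`.
* `nonempty_leray`: `H^n(Y, f_* M) = H^n(X, M)` if `R^q f_* M = 0` for `q ≥ 1`; `nonempty_leray_twist` with a twist by a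
  finite locally free module of the base.
-/

set_option autoImplicit false
universe u
open CategoryTheory CategoryTheory.Limits AlgebraicGeometry TopologicalSpace Opposite

namespace K461.LerayAmp

open Groth.Agent

theorem subsingleton_H_of_iso {T : TopCat.{u}} {F G : CohTop.Ab T} (e : F ≅ G) (n : ℕ)
    (h : Subsingleton (CohTop.H F n)) : Subsingleton (CohTop.H G n) := by
  refine ⟨fun a b => ?_⟩
  have key : ∀ c : CohTop.H G n, c = 0 := by
    intro c
    have h1 : (Abelian.Ext.comp c (Abelian.Ext.mk₀ e.inv) (add_zero n)) = 0 :=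
      @Subsingleton.elim (CohTop.H F n) h _ _
    have h2 : Abelian.Ext.comp (Abelian.Ext.comp c (Abelian.Ext.mk₀ e.inv) (add_zero n)) (Abelian.Ext.mk₀ e.hom)
        (add_zero n) = c := by
      rw [Abelian.Ext.comp_assoc_of_third_deg_zero, Abelian.Ext.mk₀_comp_mk₀, e.inv_hom_id, Abelian.Ext.comp_mk₀_id]
    rw [← h2, h1, Abelian.Ext.zero_comp]
  rw [key a, key b]

variable {X Y : Scheme.{u}} (f : X ⟶ Y)

theorem subsingleton_HH_of_iso {F G : X.Modules} (e : F ≅ G) (n : ℕ) (h : Subsingleton (Coh.HH X F n)) :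
    Subsingleton (Coh.HH X G n) :=
  subsingleton_H_of_iso (T := X.toTopCat) ((SheafOfModules.toSheaf X.ringCatSheaf).mapIso e) n h

/-- Degenerate Leray, acyclic base. -/
theorem nonempty_equiv_sections [HasInjectiveResolutions X.Modules] (M : X.Modules)
    (h : ∀ p q : ℕ, Subsingleton (Coh.HH Y ((Coh.Rpush f q).obj M) (p + 1))) (q : ℕ) :
    Nonempty (Coh.HH X M q ≃ Γ((Coh.Rpush f q).obj M, ⊤)) := by
  obtain ⟨e⟩ := Groth.Agent.S0494.result (X := X.toTopCat) (Y := Y.toTopCat) f.base (Coh.toAb M) (fun p q => by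
    obtain ⟨e⟩ := Ega3B.RpushAbCmp.nonempty_toAb_Rpush_iso f M q
    exact subsingleton_H_of_iso (T := Y.toTopCat) e (p + 1) (h p q)) q
  obtain ⟨e'⟩ := Ega3B.RpushAbCmp.nonempty_toAb_Rpush_iso f M q
  have e1 : Coh.HH X M q ≃ ((Coh.RpushAb f q).obj (Coh.toAb M)).obj.obj (op ⊤) := e.toEquiv
  let i : (Coh.toAb ((Coh.Rpush f q).obj M)).obj.obj (op ⊤) ≅ ((Coh.RpushAb f q).obj (Coh.toAb M)).obj.obj (op ⊤) :=
    ((sheafToPresheaf _ _).mapIso e').app (op ⊤)
  exact ⟨e1.trans (i.addCommGroupIsoToAddEquiv.symm.toEquiv)⟩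

theorem subsingleton_HH_of_isZero {F : X.Modules} (h : IsZero F) (n : ℕ) : Subsingleton (Coh.HH X F n) := by
  have h1 : IsZero (Coh.toAb F) := Functor.map_isZero (SheafOfModules.toSheaf X.ringCatSheaf) h
  refine ⟨fun a b => ?_⟩
  have key : ∀ c : CohTop.H (X := X.toTopCat) (Coh.toAb F) n, c = 0 := by
    intro c
    have h2 : (Abelian.Ext.comp c (Abelian.Ext.mk₀ (𝟙 (Coh.toAb F))) (add_zero n)) = c :=
      Abelian.Ext.comp_mk₀_id _
    rw [← h2, h1.eq_of_src (𝟙 _) 0, Abelian.Ext.mk₀_zero, Abelian.Ext.comp_zero]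
  exact (key a).trans (key b).symm

theorem isFinLocFree_of_isInvertible {E : Y.Modules} (hE : PicF.IsInvertible E) : FlatMod.IsFinLocFree E := by
  intro x
  obtain ⟨U, hx, e⟩ := (Ega2.QCohLocal.isFinLocFreeOfRank_one_iff.mpr hE) x
  exact ⟨U, 1, hx, e⟩

section Ample

variable {A : Type u} [CommRing A] [IsNoetherianRing A] (p : Y ⟶ Spec (CommRingCat.of A)) [IsProper p]
  [IsProper f] {L : Y.Modules} (hL : CohB1.IsAmple L) {M : X.Modules} (hM : Coh.IsCoh M)
  [HasInjectiveResolutions X.Modules]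

include p hL hM

/-- For `n ≫ 0` the `R^q f_*(f^*L^n ⊗ M) = R^q f_* M ⊗ L^n` are acyclic and
`H^q(X, f^*L^n ⊗ M) = Γ(Y, R^q f_* M ⊗ L^n)`, for all `q`. -/
theorem exists_sections : ∃ n₀ : ℕ, ∀ n, n₀ ≤ n → ∀ q : ℕ,
    (∀ s, 0 < s → Subsingleton (Coh.HH Y (CohB1.tensorMod ((Coh.Rpush f q).obj M) (CohB1.tensorPow L n)) s)) ∧
    Nonempty (Coh.HH X (CohB1.tensorMod ((Scheme.Modules.pullback f).obj (CohB1.tensorPow L n)) M) q ≃
      Γ(CohB1.tensorMod ((Coh.Rpush f q).obj M) (CohB1.tensorPow L n), ⊤)) := by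
  have hY : IsLocallyNoetherian Y := LocallyOfFiniteType.isLocallyNoetherian p
  have hYc : CompactSpace Y := QuasiCompact.compactSpace_of_compactSpace p
  obtain ⟨d, hd⟩ := CohqA.RelCoh.exists_bound_Rpush f
  choose N hN using fun q => Ega3B.SerreTwist.exists_serre p hL (S0036.result f M hM q)
  refine ⟨(Finset.range d).sup N, fun n hn => ?_⟩
  have key : ∀ q s, 0 < s → Subsingleton (Coh.HH Y (CohB1.tensorMod ((Coh.Rpush f q).obj M)
      (CohB1.tensorPow L n)) s) := by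
    intro q s hs
    by_cases hq : q < d
    · exact (hN q n ((Finset.le_sup (Finset.mem_range.mpr hq)).trans hn)).1 s hs
    · refine subsingleton_HH_of_isZero ?_ s
      exact Functor.map_isZero (DCoh.tensorRightMod (CohB1.tensorPow L n)) (hd M hM.1 q (not_lt.1 hq))
  have hpf : ∀ q, Nonempty ((Coh.Rpush f q).obj
      (CohB1.tensorMod ((Scheme.Modules.pullback f).obj (CohB1.tensorPow L n)) M) ≅
        CohB1.tensorMod ((Coh.Rpush f q).obj M) (CohB1.tensorPow L n)) := fun q => by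
    obtain ⟨e⟩ := S0927.result f M (CohB1.tensorPow L n)
      (isFinLocFree_of_isInvertible (Fdesc.LocGen.isInvertible_tensorPow hL.1 n)) q
    exact ⟨e.symm ≪≫ Ega2.Tens.swap _ _⟩
  refine fun q => ⟨key q, ?_⟩
  obtain ⟨e⟩ := nonempty_equiv_sections f
    (CohB1.tensorMod ((Scheme.Modules.pullback f).obj (CohB1.tensorPow L n)) M) (fun s q' => by
      obtain ⟨e⟩ := hpf q'
      exact subsingleton_HH_of_iso e.symm (s + 1) (key q' (s + 1) (Nat.succ_pos s))) q
  obtain ⟨e'⟩ := hpf q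
  have e'' : Γ((Coh.Rpush f q).obj (CohB1.tensorMod ((Scheme.Modules.pullback f).obj (CohB1.tensorPow L n)) M), ⊤) ≃
      Γ(CohB1.tensorMod ((Coh.Rpush f q).obj M) (CohB1.tensorPow L n), ⊤) :=
    { toFun := e'.hom.app ⊤
      invFun := e'.inv.app ⊤
      left_inv := fun x => by
        have h := congr((($(e'.hom_inv_id)).app ⊤) x)
        exact h
      right_inv := fun x => by
        have h := congr((($(e'.inv_hom_id)).app ⊤) x)
        exact h }
  exact ⟨e.trans e''⟩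

theorem isZero_rpush_of_eventually (q : ℕ) (h : ∃ n₀ : ℕ, ∀ n, n₀ ≤ n →
    Subsingleton (Coh.HH X (CohB1.tensorMod ((Scheme.Modules.pullback f).obj (CohB1.tensorPow L n)) M) q)) :
    IsZero ((Coh.Rpush f q).obj M) := by
  have hY : IsLocallyNoetherian Y := LocallyOfFiniteType.isLocallyNoetherian p
  by_contra h0
  obtain ⟨n₁, h₁⟩ := exists_sections f p hL hM
  obtain ⟨n₂, h₂⟩ := Ega3B.SerreTwist.exists_serre_nontrivial p hL (S0036.result f M hM q) h0
  obtain ⟨n₃, h₃⟩ := h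
  let n := max n₁ (max n₂ n₃)
  obtain ⟨e⟩ := (h₁ n (le_max_left _ _) q).2
  have h4 := (h₂ n ((le_max_left _ _).trans (le_max_right _ _))).2.2.2
  have h5 := h₃ n ((le_max_right _ _).trans (le_max_right _ _))
  have h6 := e.symm.subsingleton
  exact not_subsingleton _ h6

theorem eventually_of_isZero_rpush (q : ℕ) (h : IsZero ((Coh.Rpush f q).obj M)) : ∃ n₀ : ℕ, ∀ n, n₀ ≤ n →
    Subsingleton (Coh.HH X (CohB1.tensorMod ((Scheme.Modules.pullback f).obj (CohB1.tensorPow L n)) M) q) := by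
  obtain ⟨n₁, h₁⟩ := exists_sections f p hL hM
  refine ⟨n₁, fun n hn => ?_⟩
  obtain ⟨e⟩ := (h₁ n hn q).2
  have h2 : IsZero (CohB1.tensorMod ((Coh.Rpush f q).obj M) (CohB1.tensorPow L n)) :=
    Functor.map_isZero (DCoh.tensorRightMod (CohB1.tensorPow L n)) h
  have := Ega3B.SerreTwist.subsingleton_sections_of_isZero h2 ⊤
  exact e.subsingleton

end Ample

/-! ### Acyclic direct images -/

section Leray

open VarietyB.HHPush VarietyB.HHLes

variable (k : Type u) [CommRing k] [X.Over (Spec (CommRingCat.of k))] [Y.Over (Spec (CommRingCat.of k))]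
  (hf : f ≫ (Y ↘ Spec (CommRingCat.of k)) = X ↘ Spec (CommRingCat.of k)) [HasInjectiveResolutions X.Modules]
  [QuasiCompact f] [QuasiSeparated f]

omit [X.Over (Spec (CommRingCat.of k))] [Y.Over (Spec (CommRingCat.of k))] in
theorem acyc_of_isZero {M : X.Modules} (hM : Coh.IsQCoh M) (h : ∀ q : ℕ, 1 ≤ q → IsZero ((Coh.Rpush f q).obj M)) :
    Acyc f M := by
  intro V hV n x
  have h1 : Subsingleton (Coh.HHon X M (f ⁻¹ᵁ V) (n + 1)) :=
    Ega3B.RpushAff.subsingleton_HHon_of_isZero f M hM hV (n + 1) (h (n + 1) (by omega))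
  have h2 := (CohqA.HOpen.HHonEquiv M (f ⁻¹ᵁ V) (n + 1)).injective
  exact h2 (h1.elim _ _)

include hf in
theorem nonempty_leray {M : X.Modules} (hM : Coh.IsQCoh M) (h : ∀ q : ℕ, 1 ≤ q → IsZero ((Coh.Rpush f q).obj M))
    (n : ℕ) : Nonempty (Coh.HH Y ((Coh.push f).obj M) n ≃ₗ[k] Coh.HH X M n) := by
  obtain ⟨e⟩ := exists_equiv f k hf n M (acyc_of_isZero f hM h)
  exact ⟨(toHH k _ n).symm.trans (e.trans (toHH k M n))⟩

include hf in
/-- Projection formula on cohomology. -/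
theorem nonempty_leray_twist {M : X.Modules} (hM : Coh.IsQCoh M)
    (h : ∀ q : ℕ, 1 ≤ q → IsZero ((Coh.Rpush f q).obj M)) {E : Y.Modules} (hE : FlatMod.IsFinLocFree E) (n : ℕ) :
    Nonempty (Coh.HH Y (CohB1.tensorMod E ((Coh.push f).obj M)) n ≃ₗ[k]
      Coh.HH X (CohB1.tensorMod ((Scheme.Modules.pullback f).obj E) M) n) := by
  have hE' : Coh.IsQCoh ((Scheme.Modules.pullback f).obj E) :=
    FormalA.PullbackQC.isQCoh_pullback f E (Ega2.QCohLocal.isQCoh_of_isFinLocFree hE)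
  have h0 : ∀ q : ℕ, 1 ≤ q → IsZero ((Coh.Rpush f q).obj
      (CohB1.tensorMod ((Scheme.Modules.pullback f).obj E) M)) := by
    intro q hq
    obtain ⟨e⟩ := S0927.result f M E hE q
    have h2 : IsZero (CohB1.tensorMod E ((Coh.Rpush f q).obj M)) :=
      Functor.map_isZero (DCoh.tensorBi.obj E) (h q hq)
    exact h2.of_iso e.symm
  obtain ⟨e⟩ := S0927.result f M E hE 0
  let e1 : CohB1.tensorMod E ((Coh.push f).obj M) ≅
      (Coh.push f).obj (CohB1.tensorMod ((Scheme.Modules.pullback f).obj E) M) :=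
    Ega2.Tens.mapTIso (Iso.refl E) ((Scheme.Modules.pushforward f).rightDerivedZeroIsoSelf.symm.app M) ≪≫ e ≪≫
      (Scheme.Modules.pushforward f).rightDerivedZeroIsoSelf.app _
  obtain ⟨e2⟩ := nonempty_leray f k hf (Ega1.TensorRestrict.isQCoh_tensorMod _ _ hE' hM) h0 n
  exact ⟨(Fga.PicMon.hmapEquiv k Y e1 n).trans e2⟩

end Leray

end K461.LerayAmp
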