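import Groth.Agent.Surf.K461.BlowPts
import Groth.Agent.Vancyc.H175.Leray
import Groth.Agent.VarietyB.HHPush
import Groth.Agent.VarietyA.EulerLES
import Groth.Agent.VarietyA.EulerAdd

/-!
# Euler characteristics of pull-backs under morphisms with `R b_* O = O`

* `euler_pull`: `χ(X, b^*E) = χ(P, E)` for `E` finite locally free if `R^q b_* O_X = 0` for `q ≥ 1` and `O_P = b_* O_X`.
* `euler_pull_points`: the case of the blow-up of a regular integral `P` along a reduced finite set of closed points.
-/

set_option autoImplicit false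
universe u
open CategoryTheory CategoryTheory.Limits AlgebraicGeometry TopologicalSpace Opposite

namespace K461.BlowChi

open Groth.Agent Groth.Agent.VarietyA.EulerLES

theorem subsingleton_of_isZero {X : Scheme.{u}} {F : X.Modules} (h : IsZero F) (i : ℕ) :
    Subsingleton (Coh.HH X F i) := by
  refine ⟨fun x y => ?_⟩
  have h2 : ∀ x : Coh.HH X F i, x = 0 := by
    intro x
    have h3 : mapΓ (𝟙 F) i x = x := by rw [mapΓ_id]; rfl
    rw [← h3, (IsZero.iff_id_eq_zero F).1 h, mapΓ_zero]
    rfl
  exact (h2 x).trans (h2 y).symm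

theorem euler_of_isZero (k : Type u) [Field k] {X : Scheme.{u}} [X.Over (Spec (CommRingCat.of k))] {F : X.Modules}
    (h : IsZero F) : Curv2.euler k X F = 0 := by
  unfold Curv2.euler
  rw [show (0 : ℤ) = ∑ᶠ _ : ℕ, (0 : ℤ) from finsum_zero.symm]
  refine finsum_congr fun i => ?_
  have := subsingleton_of_isZero h i
  rw [Module.finrank_zero_of_subsingleton]
  simp

theorem isZero_tensorMod_left {X : Scheme.{u}} {F : X.Modules} (h : IsZero F) (E : X.Modules) :
    IsZero (CohB1.tensorMod F E) := by
  have h1 : IsZero ((DCoh.tensorRightMod E).obj F) := Functor.map_isZero _ h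
  exact h1

theorem hasInjectiveResolutions (X : Scheme.{u}) : HasInjectiveResolutions X.Modules := by
  have := VarietyB.HHPush.enoughInjectives X
  infer_instance

variable (k : Type u) [Field k] {P X : Scheme.{u}} [P.Over (Spec (CommRingCat.of k))]
  [X.Over (Spec (CommRingCat.of k))] [IsProper (P ↘ (Spec (CommRingCat.of k)))]
  [IsProper (X ↘ (Spec (CommRingCat.of k)))] (b : X ⟶ P)
  (hb' : b ≫ (P ↘ (Spec (CommRingCat.of k))) = X ↘ (Spec (CommRingCat.of k)))

include hb' in
theorem euler_pull
    (h1 : IsIso ((Scheme.Modules.pullbackPushforwardAdjunction b).unit.app (Coh.structureModule P)))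
    (h2 : ∀ q : ℕ, 1 ≤ q → IsZero ((Coh.RpushAb b q).obj (Coh.toAb (Coh.structureModule X))))
    {E : P.Modules} (hE : FlatMod.IsFinLocFree E) :
    Curv2.euler k X ((Scheme.Modules.pullback b).obj E) = Curv2.euler k P E := by
  have := hasInjectiveResolutions X
  obtain ⟨N, hN⟩ := Vancyc.H175.Leray.exists_euler_pull k b hb' (CurvesC.UnitCoh.isCoh_unit X)
  have h3 := hN E hE
  rw [Finset.sum_eq_single_of_mem 0 (Finset.mem_range.mpr (Nat.succ_pos N))] at h3
  · rw [VarietyA.EulerAdd.euler_congr k (Ega2.Tens.lunit ((Scheme.Modules.pullback b).obj E)), pow_zero,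
      one_mul] at h3
    rw [h3]
    let e0 : (Coh.Rpush b 0).obj (Coh.structureModule X) ≅ Coh.structureModule P :=
      (Scheme.Modules.pushforward b).rightDerivedZeroIsoSelf.app (Coh.structureModule X) ≪≫
      (Scheme.Modules.pushforward b).mapIso (Fga.UnitRestrict.pullbackUnitIso b).symm ≪≫
      (@asIso _ _ _ _ _ h1).symm
    exact VarietyA.EulerAdd.euler_congr k
      (Ega2.Tens.mapTIso e0 (Iso.refl E) ≪≫ Ega2.Tens.lunit E)
  · intro q _ hq
    have h4 : IsZero ((Coh.Rpush b q).obj (Coh.structureModule X)) :=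
      (Ega4B.RpushCompare.isZero_rpush_iff b _ q).mpr (h2 q (by omega))
    rw [euler_of_isZero k (isZero_tensorMod_left h4 E), mul_zero]

include hb' in
/-- The blow-up of a regular integral scheme along a reduced finite set of closed points. -/
theorem euler_pull_points [IsIntegral P] [IsIntegral X] (hreg : ∀ x : P, IsRegularLocalRing (P.presheaf.stalk x))
    (T : Closeds P) (hcl : ∀ x ∈ (T : Set P), IsClosed ({x} : Set P)) (hne : (T : Set P) ≠ Set.univ)
    (hb : BlowUp.IsBlowUp b (Scheme.IdealSheafData.vanishingIdeal T)) {E : P.Modules}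
    (hE : FlatMod.IsFinLocFree E) :
    Curv2.euler k X ((Scheme.Modules.pullback b).obj E) = Curv2.euler k P E := by
  have : IsLocallyNoetherian P := LocallyOfFiniteType.isLocallyNoetherian (P ↘ Spec (CommRingCat.of k))
  have hi := BlowPts.isRegularClosedImmersion T hcl hreg
  have hr : Set.range (Scheme.IdealSheafData.vanishingIdeal T).subschemeι ≠ Set.univ := by
    rw [BlowPts.range_vanishing]; exact hne
  have hb2 : BlowUp.IsBlowUp b (Scheme.IdealSheafData.vanishingIdeal T).subschemeι.ker := by
    rw [Scheme.IdealSheafData.ker_subschemeι]; exact hb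
  exact euler_pull k b hb' (BlowPts.isIso_unit _ hi hr b hb2)
    (fun q hq => BlowPts.isZero_RpushAb _ hi hr b hb2 q hq) hE

end K461.BlowChi
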