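import Groth.Agent.Krr.H495.Rank
import Groth.Agent.Ega2.QCohLocal
import Groth.Agent.Sga67.LocBasis
import Groth.Agent.Dual.H339.OmegaRank
import Groth.Agent.Picfga.CurveRelDim

/-!
# The canonical module of a smooth morphism is invertible
-/

set_option autoImplicit false
universe u
open CategoryTheory CategoryTheory.Limits AlgebraicGeometry

namespace K461.Canon

open Groth.Agent

/-- The top exterior power of a finite locally free module is invertible. -/
theorem isInvertible_extPow {X : Scheme.{u}} {m : ℕ} {E L : X.Modules} (hE : FlatMod.IsFinLocFreeOfRank m E)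
    (hL : ExtPow.IsExtPow m E L) : PicF.IsInvertible L := by
  rw [← Ega2.QCohLocal.isFinLocFreeOfRank_one_iff, Krr.H495.Rank.isFinLocFreeOfRank_iff]
  have hE' := Krr.H495.Rank.isFinLocFree_of_rank hE
  refine ⟨Sga67.LocBasis.isFinLocFree_of_isExtPow hE' hL, fun x => ?_⟩
  rw [Krr.H495.Rank.rk_extPow hE' hL, Krr.H495.Rank.rk_of_rank hE, Nat.choose_self]

theorem isInvertible_of_smooth {X S : Scheme.{u}} (n : ℕ) (f : X ⟶ S) [QuasiSeparated f]
    [SmoothOfRelativeDimension n f] {W : X.Modules} (hW : ExtPow.IsExtPow n (Omega.sheaf f) W) :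
    PicF.IsInvertible W :=
  isInvertible_extPow (Dual.H339.OmegaRank.isFinLocFreeOfRank_omega n f) hW

/-- `X` integral, smooth and separated over a field, `dim X = n`: the `n`-th exterior power of `Ω` is invertible. -/
theorem isInvertible_of_dim (k : Type u) [Field k] {X : Scheme.{u}} (f : X ⟶ Spec (CommRingCat.of k))
    [QuasiSeparated f] [Smooth f] [IsIntegral X] (n : ℕ) (h : topologicalKrullDim X = n) {W : X.Modules}
    (hW : ExtPow.IsExtPow n (Omega.sheaf f) W) : PicF.IsInvertible W := by
  have := Picfga.CurveRelDim.smoothOfRelativeDimension_of_topologicalKrullDim_eq k X f n h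
  exact isInvertible_of_smooth n f hW

end K461.Canon
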