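import Groth.Agent.Surf.K461.DualAbs
import Groth.Agent.Sga2.LefPow644
import Groth.Agent.Ega3B.TensorAUnit
import Groth.Agent.PerfA.QCohD
import Groth.Agent.Fga.PicMon

/-!
# Duality for invertible modules from the duality pairing

`nonempty_dual_equiv_of_form`: `H^p(X, L)^* = H^m(X, W ⊗ L')` for `L ⊗ L' = O_X`, `m + p = n`, from a perfect form
on `Hom_D(O_X, W[n])`.
-/

set_option autoImplicit false

universe u

open CategoryTheory CategoryTheory.Limits AlgebraicGeometry

attribute [local instance] HasDerivedCategory.standard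

namespace K461.DualInv

open Groth.Agent Groth.Agent.CurvesC Groth.Agent.CurvesC.RepX Groth.Agent.CurvesC.DualLin

variable (k : Type u) [Field k] (X : Scheme.{u}) [X.Over (Spec (CommRingCat.of k))]

attribute [local instance] LinMod.linearModules

theorem linear_tensorRightMod (F : X.Modules) : (DCoh.tensorRightMod F).Linear k where
  map_smul {M N} φ a := by
    rw [LinMod.smul_def, LinMod.smul_def, Functor.map_comp, Ega3B.TensorAUnit.tensorRightMod_map_smul]

variable {X}

theorem nonempty_dual_equiv_of_form {W L L' : X.Modules} (e : Nonempty (CohB1.tensorMod L L' ≅ Coh.structureModule X))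
    (hL : Coh.IsQCoh L) (m p n : ℕ) (h : m + p = n)
    (τ : (P X ⟶ (DCoh.inD X W)⟦(n : ℤ)⟧) →ₗ[k] k)
    (hτ : ∀ K : DCoh.D X, DCoh.IsQCohD K → Function.Bijective (pairing k X τ K)) :
    Nonempty (Module.Dual k (Coh.HH X L p) ≃ₗ[k] Coh.HH X (CohB1.tensorMod W L') m) := by
  obtain ⟨e⟩ := e
  let T := DCoh.tensorRightMod L'
  have hT : T.IsEquivalence := Sga2.LefPow644.isEquivalence_of_inv (Ega2.Tens.swap L' L ≪≫ e)
  have hlin : T.Linear k := linear_tensorRightMod k X L'
  obtain ⟨E1⟩ := DualAbs.equiv_of_equivalence k T (F := L) (W := W) e m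
  obtain ⟨E2⟩ := DualAbs.dual_equiv_hom k m p n h τ
    (hτ _ (PerfA.QCohD.isQCohD_shift (PerfA.QCohD.isQCohD_inD L hL) (p : ℤ)))
  exact ⟨((HV.equiv k L p).dualMap).trans (E2.symm.trans (E1.trans (HV.equiv k (T.obj W) m)))⟩

theorem finrank_eq_of_form {W L L' : X.Modules} (e : Nonempty (CohB1.tensorMod L L' ≅ Coh.structureModule X))
    (hL : Coh.IsQCoh L) (m p n : ℕ) (h : m + p = n)
    (τ : (P X ⟶ (DCoh.inD X W)⟦(n : ℤ)⟧) →ₗ[k] k)
    (hτ : ∀ K : DCoh.D X, DCoh.IsQCohD K → Function.Bijective (pairing k X τ K)) :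
    Module.finrank k (Coh.HH X L p) = Module.finrank k (Coh.HH X (CohB1.tensorMod W L') m) := by
  obtain ⟨E⟩ := nonempty_dual_equiv_of_form k e hL m p n h τ hτ
  rw [← E.finrank_eq, Subspace.dual_finrank_eq]

end K461.DualInv
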