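import Groth.Agent.Sga2.PnHomAdj
import Groth.Agent.Sga2.PnHomExact
import Groth.Agent.Ega2.BasSec
import Groth.Agent.PerfB.TensExact
import Groth.Agent.PerfB.ModExact
import Groth.Agent.Ega3B.TensorAUnit
import Groth.Agent.CurvesC.LinMod
import Groth.Agent.Ega2.Tens
import Groth.Agent.Dcoh.Spread
import Groth.Agent.Dcoh.StalkT

/-!
# The internal Hom from a finite locally free module is exact

`F` finite locally free: `N ↦ Hom(F, N)` preserves epimorphisms (`epi_homMapRight`), hence is exact
(`preservesFiniteColimits_sheafHom`), and is linear (`linear_sheafHom`).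
-/

set_option autoImplicit false

universe u

open CategoryTheory CategoryTheory.Limits AlgebraicGeometry

namespace K461.LFHom

open Groth.Agent Groth.Agent.CohqB.HomSheaf Groth.Agent.Sga2.PnHomAdj Groth.Agent.Ega2.BasSec

variable {X : Scheme.{u}}

/-- A section of the internal Hom with given values on a basis. -/
theorem exists_sec {F N : X.Modules} {U : X.Opens} {n : ℕ} {e : Fin n → Γ(F, U)} (he : IsBas e)
    (t : Fin n → Γ(N, U)) : ∃ s : Γ(homSheaf F N, U), ∀ i, comp s U le_rfl (e i) = t i := by
  have hc : ∀ (V : X.Opens) (hV : V ≤ U) (i : Fin n),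
      comb (fun j => Fdesc.LocGen.res F hV (e j)) (Pi.single i 1) = Fdesc.LocGen.res F hV (e i) := by
    intro V hV i
    unfold comb
    rw [Finset.sum_eq_single i]
    · rw [Pi.single_eq_same, one_smul]
    · intro j _ hj
      rw [Pi.single_eq_of_ne hj, zero_smul]
    · intro h
      exact absurd (Finset.mem_univ i) h
  let cL : ∀ (V : X.Opens) (_ : V ≤ U), (Fin n → Γ(X, V)) →ₗ[Γ(X, V)] Γ(F, V) := fun V hV =>
    { toFun := comb (fun j => Fdesc.LocGen.res F hV (e j))
      map_add' := fun a b => by
        simp only [comb, Pi.add_apply, add_smul, Finset.sum_add_distrib]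
      map_smul' := fun r a => by
        simp only [comb, Pi.smul_apply, smul_eq_mul, mul_smul, Finset.smul_sum, RingHom.id_apply] }
  let E : ∀ (V : X.Opens) (_ : V ≤ U), (Fin n → Γ(X, V)) ≃ₗ[Γ(X, V)] Γ(F, V) := fun V hV =>
    LinearEquiv.ofBijective (cL V hV) (he V hV)
  let dL : ∀ (V : X.Opens) (_ : V ≤ U), (Fin n → Γ(X, V)) →ₗ[Γ(X, V)] Γ(N, V) := fun V hV =>
    { toFun := comb (fun j => Fdesc.LocGen.res N hV (t j))
      map_add' := fun a b => by
        simp only [comb, Pi.add_apply, add_smul, Finset.sum_add_distrib]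
      map_smul' := fun r a => by
        simp only [comb, Pi.smul_apply, smul_eq_mul, mul_smul, Finset.smul_sum, RingHom.id_apply] }
  have hE : ∀ V hV a, E V hV a = comb (fun j => Fdesc.LocGen.res F hV (e j)) a := fun V hV a => rfl
  have hd : ∀ V hV a, dL V hV a = comb (fun j => Fdesc.LocGen.res N hV (t j)) a := fun V hV a => rfl
  refine ⟨mkSec (fun V hV => dL V hV ∘ₗ (E V hV).symm.toLinearMap) ?_, fun i => ?_⟩
  · intro V W hV h m
    obtain ⟨a, rfl⟩ := (E V hV).surjective m
    have h1 : F.presheaf.map (homOfLE h).op (E V hV a) =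
        E W (h.trans hV) (fun i => Fdesc.LocGen.ores h (a i)) := by
      rw [hE, hE]
      change Fdesc.LocGen.res F h _ = _
      rw [res_comb]
      simp only [Fdesc.LocGen.res_res]
    simp only [LinearMap.comp_apply, LinearEquiv.coe_coe]
    rw [h1, LinearEquiv.symm_apply_apply, LinearEquiv.symm_apply_apply, hd, hd]
    change _ = Fdesc.LocGen.res N h _
    rw [res_comb]
    simp only [Fdesc.LocGen.res_res]
  · rw [comp_mkSec]
    have h2 : e i = E U le_rfl (Pi.single i 1) := by
      rw [hE, hc U le_rfl i, Fdesc.LocGen.res_refl]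
    simp only [LinearMap.comp_apply, LinearEquiv.coe_coe]
    rw [h2, LinearEquiv.symm_apply_apply, hd]
    unfold comb
    rw [Finset.sum_eq_single i]
    · rw [Pi.single_eq_same, one_smul]
      exact Fdesc.LocGen.res_refl N (t i)
    · intro j _ hj
      rw [Pi.single_eq_of_ne hj, zero_smul]
    · intro h
      exact absurd (Finset.mem_univ i) h

/-- Two sections of the internal Hom with the same values on a basis are equal. -/
theorem sec_eq {F N : X.Modules} {U : X.Opens} {n : ℕ} {e : Fin n → Γ(F, U)} (he : IsBas e)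
    {s s' : Γ(homSheaf F N, U)} (h : ∀ i, comp s U le_rfl (e i) = comp s' U le_rfl (e i)) : s = s' := by
  refine sec_ext fun V hV m => ?_
  obtain ⟨a, rfl⟩ := (he V hV).2 m
  unfold comb
  rw [map_sum, map_sum]
  refine Finset.sum_congr rfl fun i _ => ?_
  rw [map_smul, map_smul]
  congr 1
  have h1 := comp_map s le_rfl hV (e i)
  have h2 := comp_map s' le_rfl hV (e i)
  refine h1.trans (Eq.trans ?_ h2.symm)
  rw [h i]

theorem epi_homMapRight {F N N' : X.Modules} (hF : FlatMod.IsFinLocFree F) (g : N ⟶ N') [Epi g] :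
    Epi (homMapRight F g) := by
  refine PerfB.ModExact.epi_of_locally_surjective _ fun U y x hx => ?_
  obtain ⟨W, n, hxW, hW⟩ := hF x
  obtain ⟨e, he⟩ := (nonempty_restrict_iso_freeMod_iff F n W).mp hW
  have hV0 : W ⊓ U ≤ W := inf_le_left
  have hVU : W ⊓ U ≤ U := inf_le_right
  have hloc : ∀ i : Fin n, ∃ (V : X.Opens) (hV : V ≤ W ⊓ U) (t : Γ(N, V)), x ∈ V ∧
      g.app V t = N'.presheaf.map (homOfLE hV).op
        (comp y (W ⊓ U) hVU (Fdesc.LocGen.res F hV0 (e i))) := fun i =>
    Dcoh.Restrict.exists_local_preimage g (W ⊓ U) _ x ⟨hxW, hx⟩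
  choose V hV t hxV ht using hloc
  obtain ⟨V', hV', hxV', hV'W⟩ : ∃ (V' : X.Opens), (∀ i, V' ≤ V i) ∧ x ∈ V' ∧ V' ≤ W ⊓ U := by
    refine ⟨(Finset.univ.inf V) ⊓ (W ⊓ U), fun i => inf_le_left.trans (Finset.inf_le (Finset.mem_univ i)), ?_,
      inf_le_right⟩
    refine ⟨?_, hxW, hx⟩
    have : ∀ s : Finset (Fin n), x ∈ s.inf V := by
      intro s
      induction s using Finset.cons_induction with
      | empty => exact TopologicalSpace.Opens.mem_top x
      | cons a s ha ih =>
        rw [Finset.inf_cons]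
        exact ⟨hxV a, ih⟩
    exact this _
  have heV : IsBas (fun i => Fdesc.LocGen.res F (hV'W.trans hV0) (e i)) := he.res _
  obtain ⟨s, hs⟩ := exists_sec (N := N) heV (fun i => Fdesc.LocGen.res N (hV' i) (t i))
  refine ⟨V', hV'W.trans hVU, hxV', s, ?_⟩
  refine sec_eq heV fun i => ?_
  rw [comp_homMapRight, hs, comp_res, Fdesc.LocGen.app_res, ht]
  have h1 := comp_map y hVU hV'W (Fdesc.LocGen.res F hV0 (e i))
  have h2 : F.presheaf.map (homOfLE hV'W).op (Fdesc.LocGen.res F hV0 (e i)) =
      Fdesc.LocGen.res F (hV'W.trans hV0) (e i) := Fdesc.LocGen.res_res F hV0 hV'W (e i)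
  rw [h2] at h1
  refine Eq.trans ?_ h1.symm
  exact Fdesc.LocGen.res_res N' (hV i) (hV' i) _

theorem homMapRight_add (F : X.Modules) {N N' : X.Modules} (f g : N ⟶ N') :
    homMapRight F (f + g) = homMapRight F f + homMapRight F g := by
  ext U s
  apply sec_ext
  intro V hV m
  rfl

instance additive_homF (F : X.Modules) : (homF F).Additive where
  map_add {_ _} f g := homMapRight_add F f g

instance additive_sheafHom (F : X.Modules) [DCoh.HasSheafHom F] : (DCoh.sheafHom F).Additive :=
  Functor.additive_of_iso (sheafHomIso F).symm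

instance preservesFiniteLimits_sheafHom (F : X.Modules) [DCoh.HasSheafHom F] :
    PreservesFiniteLimits (DCoh.sheafHom F) := by
  have := (DCoh.sheafHomAdj F).rightAdjoint_preservesLimits.{0, 0}
  exact PreservesLimitsOfSize.preservesFiniteLimits.{0, 0} _

theorem preservesFiniteColimits_sheafHom {F : X.Modules} (hF : FlatMod.IsFinLocFree F) [DCoh.HasSheafHom F] :
    PreservesFiniteColimits (DCoh.sheafHom F) := by
  have ht := (DCoh.sheafHom F).preservesFiniteColimits_tfae
  have ht' := (DCoh.sheafHom F).preservesFiniteLimits_tfae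
  refine (ht.out 0 3 :).mp fun S hS => ?_
  have h1 := (ht'.out 0 3 :).mpr inferInstance S hS
  refine ⟨h1.1, ?_⟩
  have := hS.epi_g
  have h2 : Epi ((homF F).map S.g) := epi_homMapRight hF S.g
  have h3 : (DCoh.sheafHom F).map S.g =
      (sheafHomIso F).hom.app _ ≫ (homF F).map S.g ≫ (sheafHomIso F).inv.app _ := by
    rw [← NatTrans.naturality_assoc, Iso.hom_inv_id_app, Category.comp_id]
  rw [h3]
  infer_instance

section Linear

variable (k : Type u) [Field k] [X.Over (Spec (CommRingCat.of k))]

attribute [local instance] CurvesC.LinMod.linearModules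

theorem homMapRight_smulMod (F N : X.Modules) (a : k) :
    homMapRight F (Formal.smulMod k N a) = Formal.smulMod k (homSheaf F N) a := by
  ext U s
  apply sec_ext
  intro V hV m
  rw [comp_homMapRight, FormalB.ModPow.smulMod_app, FormalB.ModPow.smulMod_app]
  rw [comp_smul, LinearMap.smul_apply]
  congr 1
  change (X.presheaf.map _).hom _ = (X.presheaf.map _).hom ((X.presheaf.map _).hom _)
  rw [← CommRingCat.comp_apply, ← Functor.map_comp]
  rfl

theorem linear_sheafHom (F : X.Modules) [DCoh.HasSheafHom F] : (DCoh.sheafHom F).Linear k := by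
  have : (homF F).Linear k :=
    { map_smul := fun {M N} φ a => by
        rw [CurvesC.LinMod.smul_def, CurvesC.LinMod.smul_def, Functor.map_comp]
        congr 1
        exact homMapRight_smulMod k F N a }
  exact Functor.linear_of_iso k (sheafHomIso F).symm

end Linear

/-- `F ⊗ -` is exact for `F` finite locally free. -/
theorem preservesFiniteLimits_tensorBi {F : X.Modules} (hF : FlatMod.IsFinLocFree F) :
    PreservesFiniteLimits ((DCoh.tensorBi (X := X)).obj F) :=
  Dcoh.Stalk.preservesFiniteLimits_tensorBi_obj F (Dcoh.Spread.isFlat_of_isFinLocFree hF)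

end K461.LFHom
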