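import Groth.Agent.Surf.K461.DualInv
import Groth.Agent.CurvesB.UnitCoh
import Groth.Agent.Dcoh.DerSch
import Groth.Agent.S0998
import Groth.Agent.S1766

/-!
# The duality pairing of a proper scheme over a field whose dualizing complex is one sheaf

`X` proper over a field `k`, `W` a module with `f^! O = W[n]`. `exists_form`: `Hom_D(K, W[n]) = Hom_k(Hom_D(O_X, K), k)`
for `K` in `D_QCoh(X)`, through a linear form `τ` on `Hom_D(O_X, W[n])`. `exists_form_of_adj`: the same with the value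
at `O` of any right adjoint of `Rf_*`.
-/

set_option autoImplicit false

universe u

open CategoryTheory CategoryTheory.Limits AlgebraicGeometry

attribute [local instance] HasDerivedCategory.standard

namespace K461.ProperForm

open Groth.Agent Groth.Agent.CurvesC Groth.Agent.CurvesC.RepX Groth.Agent.CurvesC.DualLin Groth.Agent.PerfA

variable (k : Type u) [Field k] (X : Scheme.{u}) [X.Over (Spec (CommRingCat.of k))]

attribute [local instance] LinMod.linearModules

/-- The data of duality exist for `X` proper over a field: `Rf_*` and `f^!` exist, `Rf_*` preserves `D_QCoh`, and `O` is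
in `D_QCoh(k)`. -/
theorem exists_data [IsProper (X ↘ Spec (CommRingCat.of k))] :
    ∃ (_ : DCoh.HasRpush (X ↘ Spec (CommRingCat.of k)))
      (h : DCoh.RpushPreservesQCoh (X ↘ Spec (CommRingCat.of k)))
      (_ : DCoh.HasShriek (X ↘ Spec (CommRingCat.of k)) h) (OY : DCoh.DQCoh (Spec (CommRingCat.of k))),
      Nonempty (OY.obj ≅ DCoh.inD (Spec (CommRingCat.of k))
        (Coh.structureModule (Spec (CommRingCat.of k)))) := by
  have hR := Dcoh.DerSch.hasRpush (X ↘ Spec (CommRingCat.of k))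
  have h : DCoh.RpushPreservesQCoh (X ↘ Spec (CommRingCat.of k)) := fun K hK =>
    S0998.result (X ↘ Spec (CommRingCat.of k)) K hK
  have hc : CompactSpace X := by
    have := QuasiCompact.compactSpace_of_compactSpace (X ↘ Spec (CommRingCat.of k))
    exact this
  have hq : QuasiSeparatedSpace X :=
    quasiSeparatedSpace_of_quasiSeparated (X ↘ Spec (CommRingCat.of k))
  have hN : IsLocallyNoetherian X := LocallyOfFiniteType.isLocallyNoetherian (X ↘ Spec (CommRingCat.of k))
  have hN' : IsNoetherian X := ⟨⟩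
  have hs : DCoh.HasShriek (X ↘ Spec (CommRingCat.of k)) h :=
    S1766.result X (Spec (CommRingCat.of k)) (X ↘ Spec (CommRingCat.of k)) h
  have hO : Coh.IsCoh (Coh.structureModule (Spec (CommRingCat.of k))) :=
    CurvesB.UnitCoh.isCoh_structureModule _
  exact ⟨hR, h, hs, ⟨DCoh.inD _ (Coh.structureModule (Spec (CommRingCat.of k))), QCohD.isQCohD_inD _ hO.1⟩,
    ⟨Iso.refl _⟩⟩

/-- The duality pairing for one sheaf `W` with `f^! O = W[n]` (hypothesis `H`). -/
theorem exists_form [IsProper (X ↘ Spec (CommRingCat.of k))] {W : X.Modules} (n : ℤ)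
    (H : ∀ (_ : DCoh.HasRpush (X ↘ Spec (CommRingCat.of k)))
      (h : DCoh.RpushPreservesQCoh (X ↘ Spec (CommRingCat.of k)))
      (_ : DCoh.HasShriek (X ↘ Spec (CommRingCat.of k)) h) (OY : DCoh.DQCoh (Spec (CommRingCat.of k))),
      Nonempty (OY.obj ≅ DCoh.inD (Spec (CommRingCat.of k))
        (Coh.structureModule (Spec (CommRingCat.of k)))) →
      Nonempty (((DCoh.shriek (X ↘ Spec (CommRingCat.of k)) h).obj OY).obj ≅ (DCoh.inD X W)⟦n⟧)) :
    ∃ τ : (P X ⟶ (DCoh.inD X W)⟦n⟧) →ₗ[k] k,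
      ∀ K : DCoh.D X, DCoh.IsQCohD K → Function.Bijective (pairing k X τ K) := by
  obtain ⟨hR, h, hs, OY, hOY⟩ := exists_data k X
  obtain ⟨τ, hτ⟩ := DualLin.exists_form k X h OY hOY
  obtain ⟨e⟩ := H hR h hs OY hOY
  exact DualAbs.exists_form_of_iso k e τ hτ

/-- The duality pairing for one sheaf `W` with `a(O) = W[n]` for some right adjoint `a` of `Rf_*`. -/
theorem exists_form_of_adj [IsProper (X ↘ Spec (CommRingCat.of k))]
    [DCoh.HasRpush (X ↘ Spec (CommRingCat.of k))]
    (h : DCoh.RpushPreservesQCoh (X ↘ Spec (CommRingCat.of k)))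
    (a : DCoh.DQCoh (Spec (CommRingCat.of k)) ⥤ DCoh.DQCoh X)
    (adj : DCoh.RpushQ (X ↘ Spec (CommRingCat.of k)) h ⊣ a) (OY : DCoh.DQCoh (Spec (CommRingCat.of k)))
    (hOY : Nonempty (OY.obj ≅ DCoh.inD (Spec (CommRingCat.of k))
      (Coh.structureModule (Spec (CommRingCat.of k))))) {W : X.Modules} (n : ℤ)
    (H : Nonempty ((a.obj OY).obj ≅ (DCoh.inD X W)⟦n⟧)) :
    ∃ τ : (P X ⟶ (DCoh.inD X W)⟦n⟧) →ₗ[k] k,
      ∀ K : DCoh.D X, DCoh.IsQCohD K → Function.Bijective (pairing k X τ K) := by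
  have hs : DCoh.HasShriek (X ↘ Spec (CommRingCat.of k)) h := ⟨a, ⟨adj⟩⟩
  obtain ⟨τ, hτ⟩ := DualLin.exists_form k X h OY hOY
  obtain ⟨e⟩ := H
  have e' : DCoh.dualizingCx (X ↘ Spec (CommRingCat.of k)) h OY ≅ (DCoh.inD X W)⟦n⟧ :=
    (ObjectProperty.ι _).mapIso (((DCoh.shriekAdj (X ↘ Spec (CommRingCat.of k)) h).rightAdjointUniq adj).app OY) ≪≫ e
  exact DualAbs.exists_form_of_iso k e' τ hτ

end K461.ProperForm
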