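import Groth.Agent.CurvesC.DualLin
import Groth.Agent.Fdesc.SubDer
import Mathlib.Algebra.Homology.DerivedCategory.ExactFunctor
import Mathlib.CategoryTheory.Linear.LinearFunctor
import Mathlib.LinearAlgebra.Dual.Defs

/-!
# From the duality pairing on `D(X)` to duality for cohomology groups

`X` over a field `k`, `τ` a linear form on `Hom_D(O_X, w[n])` such that `Hom_D(K, w[n]) = Hom_k(Hom_D(O_X, K), k)`
for all `K` in `D_QCoh(X)`.

* `dual_equiv_hom`: `H^p(X, F)^* = Hom_D(F, w[m])` for `F` quasi-coherent, `p + m = n`.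
* `equiv_of_equivalence`: `Hom_D(F, w[m]) = H^m(X, T w)` if `T` is an exact linear equivalence with `T F = O_X`.
-/

set_option autoImplicit false

universe u

open CategoryTheory CategoryTheory.Limits AlgebraicGeometry

attribute [local instance] HasDerivedCategory.standard

namespace K461.DualAbs

open Groth.Agent Groth.Agent.CurvesC Groth.Agent.CurvesC.RepX Groth.Agent.CurvesC.DualLin

variable (k : Type u) [Field k] (X : Scheme.{u}) [X.Over (Spec (CommRingCat.of k))]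

attribute [local instance] LinMod.linearModules

section Form

variable {X}

/-- transport of the form along an isomorphism -/
theorem exists_form_of_iso {W W' : DCoh.D X} (e : W ≅ W') (τ : (P X ⟶ W) →ₗ[k] k)
    (hτ : ∀ K : DCoh.D X, DCoh.IsQCohD K → Function.Bijective (pairing k X τ K)) :
    ∃ τ' : (P X ⟶ W') →ₗ[k] k, ∀ K : DCoh.D X, DCoh.IsQCohD K → Function.Bijective (pairing k X τ' K) := by
  refine ⟨τ ∘ₗ Linear.rightComp k (P X) e.inv, fun K hK => ?_⟩
  have h1 : Function.Bijective (fun φ : K ⟶ W' => φ ≫ e.inv) := e.symm.homToEquiv.bijective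
  convert (hτ K hK).comp h1 using 1
  funext φ
  ext s
  change τ ((s ≫ φ) ≫ e.inv) = τ (s ≫ φ ≫ e.inv)
  rw [Category.assoc]

/-- shifting is a linear equivalence on morphisms -/
noncomputable def shiftE (K L : DCoh.D X) (n : ℤ) : (K ⟶ L) ≃ₗ[k] (K⟦n⟧ ⟶ L⟦n⟧) :=
  LinearEquiv.ofBijective (Functor.mapLinearMap k (shiftFunctor (DCoh.D X) n))
    ⟨(shiftFunctor (DCoh.D X) n).map_injective, (shiftFunctor (DCoh.D X) n).map_surjective⟩

/-- `Hom_D(F, w[m]) = Hom_D(F[p], w[n])` for `m + p = n` -/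
noncomputable def homShiftE (F W : X.Modules) (m p n : ℤ) (h : m + p = n) :
    (DCoh.inD X F ⟶ (DCoh.inD X W)⟦m⟧) ≃ₗ[k] ((DCoh.inD X F)⟦p⟧ ⟶ (DCoh.inD X W)⟦n⟧) :=
  (shiftE k _ _ p).trans (Linear.homCongr k (Iso.refl _) ((shiftFunctorAdd' (DCoh.D X) m p n h).symm.app _))

/-- `H^p(X, F)^* = Hom_D(F, w[m])`, `m + p = n`. -/
theorem dual_equiv_hom {W F : X.Modules} (m p n : ℕ) (h : m + p = n)
    (τ : (P X ⟶ (DCoh.inD X W)⟦(n : ℤ)⟧) →ₗ[k] k)
    (hF : Function.Bijective (pairing k X τ ((DCoh.inD X F)⟦(p : ℤ)⟧))) :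
    Nonempty ((DCoh.inD X F ⟶ (DCoh.inD X W)⟦(m : ℤ)⟧) ≃ₗ[k] Module.Dual k (HV X F p)) :=
  ⟨(homShiftE k F W m p n (by lia)).trans ((LinearEquiv.ofBijective _ hF).trans
    (homHVₗ k X F p).symm.dualMap)⟩

section Equivalence

variable (T : X.Modules ⥤ X.Modules) [T.Additive] [T.Linear k] [PreservesFiniteLimits T]
  [PreservesFiniteColimits T] [T.IsEquivalence]

/-- `Hom_D(F, w[m]) = H^m(X, T w)` for an exact linear equivalence `T` with `T F = O_X`. -/
theorem equiv_of_equivalence {F W : X.Modules} (e : T.obj F ≅ Coh.structureModule X) (m : ℕ) :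
    Nonempty ((DCoh.inD X F ⟶ (DCoh.inD X W)⟦(m : ℤ)⟧) ≃ₗ[k] HV X (T.obj W) m) := by
  have := Fdesc.SubDer.isEquivalence_mapDerivedCategory T
  let E1 : (DCoh.inD X F ⟶ (DCoh.inD X W)⟦(m : ℤ)⟧) ≃ₗ[k]
      (T.mapDerivedCategory.obj (DCoh.inD X F) ⟶ T.mapDerivedCategory.obj ((DCoh.inD X W)⟦(m : ℤ)⟧)) :=
    LinearEquiv.ofBijective (Functor.mapLinearMap k T.mapDerivedCategory)
      ⟨T.mapDerivedCategory.map_injective, T.mapDerivedCategory.map_surjective⟩
  let i1 : T.mapDerivedCategory.obj (DCoh.inD X F) ≅ P X :=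
    (T.mapDerivedCategorySingleFunctor 0).app F ≪≫ (DerivedCategory.singleFunctor X.Modules 0).mapIso e
  let i2 : T.mapDerivedCategory.obj ((DCoh.inD X W)⟦(m : ℤ)⟧) ≅ (DCoh.inD X (T.obj W))⟦(m : ℤ)⟧ :=
    (T.mapDerivedCategory.commShiftIso (m : ℤ)).app _ ≪≫
      (shiftFunctor (DCoh.D X) (m : ℤ)).mapIso ((T.mapDerivedCategorySingleFunctor 0).app W)
  exact ⟨E1.trans ((Linear.homCongr k i1 i2).trans (homHVₗ k X (T.obj W) m))⟩

end Equivalence

end Form

end K461.DualAbs
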