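import Groth.Agent.Pic13.H11.Cls
import Groth.Agent.Fga.HodgeForm
import Groth.Agent.CurvesB.TwistIdeal
import Groth.Agent.CurvesC.CurveNum
import Groth.Agent.VarietyB.ProjForm
import Groth.Agent.CohqB.FinAmple
import Groth.Agent.S1564
import Groth.Agent.S1522

/-!
# Curves of negative degree on a surface, in the class monoid

`X` proper over a field `k`; classes of modules live in `MC X` (`Groth.Agent.Pic13.H11.Cls`), classes of invertible
modules are the units `u : (MC X)ˣ`.

* `ses_ideal C`: `0 → I_C → O → O_C → 0`; `ses_twist C u`.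
* `dg k C u = χ(u ⊗ O_C) − χ(O_C)`; `dg_eq_neg_form`: `dg k C u = -(u · I_C)`; `dg_mul`, `dg_inv`, `dg_pow`.
* `restr_equiv`, `deg_restr`: comparison with the restriction to `C`.
* `V_zero_of_dg_neg`: `C` integral of dimension one, `dg k C u < 0` implies `H^0(u ⊗ O_C) = 0`;
  `h_zero_eq_of_dg_neg`: then `h^0(u ⊗ I_C) = h^0(u)`.
-/

set_option autoImplicit false
universe u
open CategoryTheory CategoryTheory.Limits AlgebraicGeometry TopologicalSpace

namespace K461.Neg

open Groth.Agent Groth.Agent.Fga.PicMon Groth.Agent.Fga Groth.Agent.Pic13.H11 Groth.Agent.Pic13.H11.Cls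
  Groth.Agent.Fga.HodgeIneq
open Groth.Agent.Fga.HodgeForm

variable {X : Scheme.{u}}

/-- `0 → I_C → O → O_C → 0`. -/
theorem ses_ideal [IsLocallyNoetherian X] (C : X.IdealSheafData) :
    Ses (mc (ClSub.idealMod C)) 1 (mc (ClSub.quotMod C)) :=
  Ses.mk (VarietyB.DegCartier.idealSeq C) (VarietyB.DegCartier.idealSeq_shortExact C)
    (VarietyB.DegCartier.isCoh_idealMod C) (CurvesC.UnitCoh.isCoh_unit X) (VarietyB.DegCartier.isCoh_quotMod C)

theorem ses_twist [IsLocallyNoetherian X] (C : X.IdealSheafData) (u : (MC X)ˣ) :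
    Ses (u • mc (ClSub.idealMod C)) (u : MC X) (u • mc (ClSub.quotMod C)) := by
  have h := (ses_ideal C).smul u
  rwa [smul_one'] at h

theorem ses_twist_unit [IsLocallyNoetherian X] (C : X.IdealSheafData) {x : (MC X)ˣ}
    (hx : (x : MC X) = mc (ClSub.idealMod C)) (u : (MC X)ˣ) :
    Ses ((u * x : (MC X)ˣ) : MC X) (u : MC X) (u • mc (ClSub.quotMod C)) := by
  have h := ses_twist C u
  rwa [← hx, smul_val] at h

theorem eq_unit {u : (MC X)ˣ} {L : X.Modules} (hL : PicF.IsInvertible L) (h : mc L = (u : MC X)) : u = unit hL :=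
  Units.ext (by rw [unit_val, h])

theorem exists_unit (u : (MC X)ˣ) : ∃ (L : X.Modules) (hL : PicF.IsInvertible L), u = unit hL := by
  obtain ⟨L, hL, h⟩ := Cls.exists_invertible u
  exact ⟨L, hL, eq_unit hL h⟩

theorem dim_subscheme (C : X.IdealSheafData) :
    topologicalKrullDim C.subscheme = topologicalKrullDim (C.support : Set X) := by
  have h := C.subschemeι.isClosedEmbedding.isEmbedding.toHomeomorph
  have h1 := h.isHomeomorph.topologicalKrullDim_eq
  rw [h1, C.range_subschemeι]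

theorem dim_supp_quot_le (C : X.IdealSheafData) {d : WithBot ℕ∞}
    (hC : topologicalKrullDim (C.support : Set X) ≤ d) (u : (MC X)ˣ) :
    topologicalKrullDim (supp (u • mc (ClSub.quotMod C))) ≤ d := by
  rw [supp_smul, supp_mc]
  refine le_trans ?_ hC
  exact (Topology.IsInducing.subtypeVal.of_comp_iff
    (f := Set.inclusion (VarietyB.DegCartier.support_quotMod_subset C))
    |>.mp Topology.IsInducing.subtypeVal).topologicalKrullDim_le

section
variable (k : Type u) [Field k] [X.Over (Spec (CommRingCat.of k))]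

/-- `(u·C) = χ(u ⊗ O_C) − χ(O_C)`. -/
noncomputable def dg (C : X.IdealSheafData) (u : (MC X)ˣ) : ℤ :=
  chi k (u • mc (ClSub.quotMod C)) - chi k (mc (ClSub.quotMod C))

theorem dg_unit (C : X.IdealSheafData) {L : X.Modules} (hL : PicF.IsInvertible L) :
    dg k C (unit hL) = Curv2.euler k X (CohB1.tensorMod (ClSub.quotMod C) L) - Curv2.euler k X (ClSub.quotMod C) := by
  unfold dg
  rw [unit_smul, mc_tensor, mul_comm, ← mc_tensor, chi_mc, chi_mc]

theorem dg_one (C : X.IdealSheafData) : dg k C 1 = 0 := by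
  unfold dg
  rw [one_smul, sub_self]

/-- `H^n(C, L|_C) = H^n(X, L ⊗ O_C)`. -/
theorem restr_equiv (C : X.IdealSheafData) {L : X.Modules} (hL : PicF.IsInvertible L) (n : ℕ) :
    letI : C.subscheme.Over (Spec (CommRingCat.of k)) := ⟨C.subschemeι ≫ (X ↘ Spec (CommRingCat.of k))⟩
    Nonempty (Coh.HH C.subscheme ((Scheme.Modules.pullback C.subschemeι).obj L) n ≃ₗ[k]
      Coh.HH X (CohB1.tensorMod L (ClSub.quotMod C)) n) := by
  letI : C.subscheme.Over (Spec (CommRingCat.of k)) := ⟨C.subschemeι ≫ (X ↘ Spec (CommRingCat.of k))⟩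
  exact ⟨(CurvesC.CurveNum.hhPushₗ k C.subschemeι rfl _ n).trans
    (hmapEquiv k X (VarietyB.ProjForm.projIsoUnit C.subschemeι (CohqB.FinAmple.hasBases_of_isInvertible hL)).symm n)⟩

theorem restr_equiv_unit (C : X.IdealSheafData) (n : ℕ) :
    letI : C.subscheme.Over (Spec (CommRingCat.of k)) := ⟨C.subschemeι ≫ (X ↘ Spec (CommRingCat.of k))⟩
    Nonempty (Coh.HH C.subscheme (Coh.structureModule C.subscheme) n ≃ₗ[k] Coh.HH X (ClSub.quotMod C) n) := by
  letI : C.subscheme.Over (Spec (CommRingCat.of k)) := ⟨C.subschemeι ≫ (X ↘ Spec (CommRingCat.of k))⟩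
  exact ⟨CurvesC.CurveNum.hhPushₗ k C.subschemeι rfl _ n⟩

include k in
theorem V_restr (C : X.IdealSheafData) {L : X.Modules} (hL : PicF.IsInvertible L) (n : ℕ) :
    V n (unit hL • mc (ClSub.quotMod C)) ↔
      Subsingleton (Coh.HH C.subscheme ((Scheme.Modules.pullback C.subschemeι).obj L) n) := by
  let _ : C.subscheme.Over (Spec (CommRingCat.of k)) := ⟨C.subschemeι ≫ (X ↘ Spec (CommRingCat.of k))⟩
  rw [unit_smul, V_mc]
  obtain ⟨e⟩ := restr_equiv k C hL n
  exact e.toEquiv.symm.subsingleton_congr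

include k in
theorem V_restr_unit (C : X.IdealSheafData) (n : ℕ) :
    V n (mc (ClSub.quotMod C)) ↔ Subsingleton (Coh.HH C.subscheme (Coh.structureModule C.subscheme) n) := by
  let _ : C.subscheme.Over (Spec (CommRingCat.of k)) := ⟨C.subschemeι ≫ (X ↘ Spec (CommRingCat.of k))⟩
  rw [V_mc]
  obtain ⟨e⟩ := restr_equiv_unit k C n
  exact e.toEquiv.symm.subsingleton_congr

theorem euler_restr (C : X.IdealSheafData) {L : X.Modules} (hL : PicF.IsInvertible L) :
    @Curv2.euler k _ C.subscheme ⟨C.subschemeι ≫ (X ↘ Spec (CommRingCat.of k))⟩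
      ((Scheme.Modules.pullback C.subschemeι).obj L) = chi k (unit hL • mc (ClSub.quotMod C)) := by
  let _ : C.subscheme.Over (Spec (CommRingCat.of k)) := ⟨C.subschemeι ≫ (X ↘ Spec (CommRingCat.of k))⟩
  rw [unit_smul, chi_mc]
  unfold Curv2.euler
  refine finsum_congr fun n => ?_
  obtain ⟨e⟩ := restr_equiv k C hL n
  rw [e.finrank_eq]

theorem euler_restr_unit (C : X.IdealSheafData) :
    @Curv2.euler k _ C.subscheme ⟨C.subschemeι ≫ (X ↘ Spec (CommRingCat.of k))⟩
      (Coh.structureModule C.subscheme) = chi k (mc (ClSub.quotMod C)) := by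
  let _ : C.subscheme.Over (Spec (CommRingCat.of k)) := ⟨C.subschemeι ≫ (X ↘ Spec (CommRingCat.of k))⟩
  rw [chi_mc]
  unfold Curv2.euler
  refine finsum_congr fun n => ?_
  obtain ⟨e⟩ := restr_equiv_unit k C n
  rw [e.finrank_eq]

theorem deg_restr (C : X.IdealSheafData) {L : X.Modules} (hL : PicF.IsInvertible L) :
    @Curv2.deg k _ C.subscheme ⟨C.subschemeι ≫ (X ↘ Spec (CommRingCat.of k))⟩
      ((Scheme.Modules.pullback C.subschemeι).obj L) 1 = dg k C (unit hL) := by
  unfold Curv2.deg dg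
  rw [euler_restr k C hL, euler_restr_unit k C, Nat.cast_one, one_mul]

section Proper

variable [IsProper (X ↘ Spec (CommRingCat.of k))]

include k in
theorem isNoetherian : IsNoetherian X := IntAdd.isNoetherian k X

theorem chi_eq_χCl (hd : topologicalKrullDim X ≤ (2 : ℕ)) (c : MC X) : chi k c = χCl X k c := by
  induction c using MC.ind with | h L => ?_
  rw [chi_unit_eq k 2 hd L]
  unfold χCl
  rw [chiCl_mc]
  exact (euler_iso k X (Ega2.Tens.runit L) 2).symm

theorem form_eq (hd : topologicalKrullDim X ≤ (2 : ℕ)) (x y : (MC X)ˣ) :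
    form k X x y = chi k (1 : MC X) - chi k (x : MC X) - chi k (y : MC X) + chi k ((x * y : (MC X)ˣ) : MC X) := by
  unfold form
  rw [dSum_two, chi_eq_χCl k hd, chi_eq_χCl k hd, chi_eq_χCl k hd, chi_eq_χCl k hd, Units.val_mul]

omit [IsProper (X ↘ Spec (CommRingCat.of k))] in
theorem intNum_eq_form {A B : X.Modules} (hA : PicF.IsInvertible A) (hB : PicF.IsInvertible B) :
    FGA.intNum k X 2 ![A, B] (Coh.structureModule X) = form k X (unit hA) (unit hB) := by
  unfold form
  rw [HodgeIneq.intNum_two, unit_val, unit_val]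

/-- `dg` in terms of the intersection form. -/
theorem dg_eq_neg_form (hd : topologicalKrullDim X ≤ (2 : ℕ)) (C : X.IdealSheafData) {x : (MC X)ˣ}
    (hx : (x : MC X) = mc (ClSub.idealMod C)) (u : (MC X)ˣ) : dg k C u = - form k X u x := by
  have := isNoetherian (X := X) k
  have h1 := (ses_twist_unit C hx u).chi_eq k
  have h2 := (ses_ideal C).chi_eq k
  rw [← hx] at h2
  rw [form_eq k hd]
  unfold dg
  linarith

theorem dg_mul (hd : topologicalKrullDim X ≤ (2 : ℕ)) (C : X.IdealSheafData) {x : (MC X)ˣ}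
    (hx : (x : MC X) = mc (ClSub.idealMod C)) (u v : (MC X)ˣ) : dg k C (u * v) = dg k C u + dg k C v := by
  rw [dg_eq_neg_form k hd C hx, dg_eq_neg_form k hd C hx, dg_eq_neg_form k hd C hx, form_mul_left k X hd]
  ring

theorem dg_zpow (hd : topologicalKrullDim X ≤ (2 : ℕ)) (C : X.IdealSheafData) {x : (MC X)ˣ}
    (hx : (x : MC X) = mc (ClSub.idealMod C)) (u : (MC X)ˣ) (n : ℤ) : dg k C (u ^ n) = n * dg k C u := by
  rw [dg_eq_neg_form k hd C hx, dg_eq_neg_form k hd C hx, form_zpow_left k X hd]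
  ring

theorem dg_inv (hd : topologicalKrullDim X ≤ (2 : ℕ)) (C : X.IdealSheafData) {x : (MC X)ˣ}
    (hx : (x : MC X) = mc (ClSub.idealMod C)) (u : (MC X)ˣ) : dg k C u⁻¹ = - dg k C u := by
  have h := dg_zpow k hd C hx u (-1)
  rw [zpow_neg_one] at h
  rw [h]
  ring

theorem dg_pow (hd : topologicalKrullDim X ≤ (2 : ℕ)) (C : X.IdealSheafData) {x : (MC X)ˣ}
    (hx : (x : MC X) = mc (ClSub.idealMod C)) (u : (MC X)ˣ) (n : ℕ) : dg k C (u ^ n) = n * dg k C u := by
  have h := dg_zpow k hd C hx u n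
  rwa [zpow_natCast] at h

/-! ### Integral curves over an algebraically closed field -/

section Curve

variable [IsAlgClosed k] (C : X.IdealSheafData) (hCi : IsIntegral C.subscheme)
  (hC1 : topologicalKrullDim (C.support : Set X) = 1)

include hCi hC1

theorem V_zero_of_dg_neg (u : (MC X)ˣ) (h : dg k C u < 0) : V 0 (u • mc (ClSub.quotMod C)) := by
  obtain ⟨L, hL, rfl⟩ := exists_unit u
  rw [V_restr k C hL]
  letI : C.subscheme.Over (Spec (CommRingCat.of k)) := ⟨C.subschemeι ≫ (X ↘ Spec (CommRingCat.of k))⟩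
  have hp : IsProper (C.subscheme ↘ Spec (CommRingCat.of k)) :=
    inferInstanceAs (IsProper (C.subschemeι ≫ (X ↘ Spec (CommRingCat.of k))))
  have hL' : PicF.IsInvertible ((Scheme.Modules.pullback C.subschemeι).obj L) :=
    Fdesc.LocGen.isInvertible_pullback C.subschemeι hL
  by_contra hne
  rw [not_subsingleton_iff_nontrivial] at hne
  have h1 := (S1564.result k C.subscheme ((dim_subscheme C).trans hC1)
    (VarietyA.CurveFin.finrank_h0_structure k C.subscheme) _ hL' hne).1
  have hfin := HodgeSec.finite_HH k hL' 0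
  have h2 : 0 < Module.finrank k (Coh.HH C.subscheme ((Scheme.Modules.pullback C.subschemeι).obj L) 0) :=
    Module.finrank_pos
  have h3 := deg_restr k C hL
  have h4 : Curv2.deg k C.subscheme ((Scheme.Modules.pullback C.subschemeι).obj L) 1 = dg k C (unit hL) := h3
  omega

/-- Sections vanish along a curve of negative degree. -/
theorem h_zero_eq_of_dg_neg (u : (MC X)ˣ) (h : dg k C u < 0) :
    Cls.h k 0 (u • mc (ClSub.idealMod C)) = Cls.h k 0 (u : MC X) := by
  have := isNoetherian (X := X) k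
  have hs := ses_twist C u
  have h1 := V_zero_of_dg_neg k C hCi hC1 u h
  refine le_antisymm (hs.h_zero_le k) ?_
  have h2 := hs.h_le k 0
  rw [h_eq_zero k h1] at h2
  exact h2

theorem V_zero_of_dg_neg_of_V (u : (MC X)ˣ) (h : dg k C u < 0) (hV : V 0 (u • mc (ClSub.idealMod C))) :
    V 0 (u : MC X) := by
  have := isNoetherian (X := X) k
  exact (ses_twist C u).V_mid hV (V_zero_of_dg_neg k C hCi hC1 u h)

omit [IsAlgClosed k] hCi in
include k in
/-- `H^i(u ⊗ O_C) = 0` for `i ≥ 2`. -/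
theorem V_of_two_le (u : (MC X)ˣ) {i : ℕ} (hi : 2 ≤ i) : V i (u • mc (ClSub.quotMod C)) := by
  have := isNoetherian (X := X) k
  exact V_of_dim k ((ses_ideal C).co₃.smul u) (d := 1) (dim_supp_quot_le C (by rw [hC1]; rfl) u) (by omega)

/-- `H^1(u ⊗ O_C) = 0` if `(u·C) ≥ 2g-1`. -/
theorem V_one_of_dg (u : (MC X)ˣ) (h : 2 * (Module.finrank k (Coh.HH X (ClSub.quotMod C) 1) : ℤ) - 1 ≤ dg k C u) :
    V 1 (u • mc (ClSub.quotMod C)) := by
  obtain ⟨L, hL, rfl⟩ := exists_unit u
  rw [V_restr k C hL]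
  letI : C.subscheme.Over (Spec (CommRingCat.of k)) := ⟨C.subschemeι ≫ (X ↘ Spec (CommRingCat.of k))⟩
  have hp : IsProper (C.subscheme ↘ Spec (CommRingCat.of k)) :=
    inferInstanceAs (IsProper (C.subschemeι ≫ (X ↘ Spec (CommRingCat.of k))))
  have hL' : PicF.IsInvertible ((Scheme.Modules.pullback C.subschemeι).obj L) :=
    Fdesc.LocGen.isInvertible_pullback C.subschemeι hL
  refine S1522.result k C.subscheme ((dim_subscheme C).trans hC1) _ hL' ?_
  have h3 := deg_restr k C hL
  have h4 : Curv2.deg k C.subscheme ((Scheme.Modules.pullback C.subschemeι).obj L) 1 = dg k C (unit hL) := h3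
  obtain ⟨e⟩ := restr_equiv_unit k C 1
  have h5 : (Curv2.genus k C.subscheme : ℤ) = Module.finrank k (Coh.HH X (ClSub.quotMod C) 1) := by
    unfold Curv2.genus
    rw [e.finrank_eq]
  rw [h4, h5]
  exact h

omit hC1 in
theorem h_zero_quot : Cls.h k 0 (mc (ClSub.quotMod C)) = 1 := by
  letI : C.subscheme.Over (Spec (CommRingCat.of k)) := ⟨C.subschemeι ≫ (X ↘ Spec (CommRingCat.of k))⟩
  have hp : IsProper (C.subscheme ↘ Spec (CommRingCat.of k)) :=
    inferInstanceAs (IsProper (C.subschemeι ≫ (X ↘ Spec (CommRingCat.of k))))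
  obtain ⟨e⟩ := restr_equiv_unit k C 0
  rw [h_mc, ← e.finrank_eq]
  exact VarietyA.CurveFin.finrank_h0_structure k C.subscheme

/-- `χ(O_C) = 1 - h^1(O_C)`. -/
theorem chi_quot : chi k (mc (ClSub.quotMod C)) = 1 - (Cls.h k 1 (mc (ClSub.quotMod C)) : ℤ) := by
  have h1 := chi_eq_sum k (mc (ClSub.quotMod C)) 1 fun i hi => by
    have := V_of_two_le k C hC1 1 (i := i) (by omega)
    rwa [one_smul] at this
  rw [h1, Finset.sum_range_succ, Finset.sum_range_one, h_zero_quot k C hCi]
  push_cast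
  ring

end Curve

end Proper

end

end K461.Neg
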