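import Groth.Agent.Ega2.FiniteSet
import Groth.Agent.Ega2.SecCalc
import Groth.Agent.CurvesC.LinMod
import Groth.Agent.Fga.HypSec
import Groth.Agent.Surf.K461.Neg
import Mathlib.GroupTheory.CosetCover

/-!
# Base point free invertible modules over an infinite field

`BPF M`: at every point some section of `M` generates.

* `exists_section`: a section generating at finitely many given points.
* `exists_cut`: `0 → F → M ⊗ F → Q → 0` with `dim Supp Q ≤ dim Supp F - 1`.
* `chi_le_of_dim_le_one`: `χ(F) ≤ χ(M ⊗ F)` if `dim Supp F ≤ 1`.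
* `exists_sub`: an invertible module with a section contains `O_X`.
* `form_nonneg`: on an integral surface `(u·M) ≥ 0` if `h^0(u) > 0`; `V_zero_of_form_neg`.
* `bpf_pullback`.
-/

set_option autoImplicit false
universe u
open CategoryTheory CategoryTheory.Limits AlgebraicGeometry TopologicalSpace

namespace K461.GG

open Groth.Agent Groth.Agent.Fga.PicMon Groth.Agent.Fga Groth.Agent.Pic13.H11 Groth.Agent.Pic13.H11.Cls
  Groth.Agent.Fga.HodgeIneq
open Groth.Agent.Fga.HodgeForm Groth.Agent.Fga.RegSec K461.Neg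

variable {X : Scheme.{u}}

/-- generated by global sections at every point -/
def BPF (M : X.Modules) : Prop := ∀ x : X, ∃ s : Coh.structureModule X ⟶ M, x ∈ CohB1.genLocus M s

section
variable (k : Type u) [Field k] [X.Over (Spec (CommRingCat.of k))]

attribute [local instance] CurvesC.LinMod.linearModules

theorem isIso_smulMod (M : X.Modules) (a : k) (ha : a ≠ 0) : IsIso (Formal.smulMod k M a) :=
  ⟨Formal.smulMod k M a⁻¹, by
    rw [← FormalB.ModPow.smulMod_mul, inv_mul_cancel₀ ha, FormalB.ModPow.smulMod_one], by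
    rw [← FormalB.ModPow.smulMod_mul, mul_inv_cancel₀ ha, FormalB.ModPow.smulMod_one]⟩

/-- Sections not generating at `x`. -/
noncomputable def vanSub {M : X.Modules} (hM : PicF.IsInvertible M) (x : X) :
    Submodule k (Coh.structureModule X ⟶ M) where
  carrier := {s | x ∉ CohB1.genLocus M s}
  add_mem' {s t} hs ht h := by
    rcases Ega2.FiniteSet.genLocus_add_le hM s t h with h | h
    · exact hs h
    · exact ht h
  zero_mem' h := by
    rw [Ega2.FiniteSet.genLocus_zero] at h
    exact h
  smul_mem' a s hs := by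
    by_cases ha : a = 0
    · subst ha
      rw [zero_smul]
      change x ∉ CohB1.genLocus M (0 : Coh.structureModule X ⟶ M)
      rw [Ega2.FiniteSet.genLocus_zero]
      exact fun h => h
    · change x ∉ CohB1.genLocus M (a • s)
      have := isIso_smulMod k M a ha
      rw [CurvesC.LinMod.smul_def, Ega2.SecCalc.genLocus_comp]
      exact hs

include k in
theorem exists_section [Infinite k] {M : X.Modules} (hM : PicF.IsInvertible M) (hB : BPF M) {Z : Set X}
    (hZ : Z.Finite) : ∃ s : Coh.structureModule X ⟶ M, Z ⊆ CohB1.genLocus M s := by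
  by_contra hcon
  push Not at hcon
  have : Finite Z := hZ
  have hcov : ⋃ z : Z, ((vanSub k hM (z : X) : Submodule k (Coh.structureModule X ⟶ M)) :
      Set (Coh.structureModule X ⟶ M)) = Set.univ := by
    rw [Set.eq_univ_iff_forall]
    intro s
    obtain ⟨z, hz, hzs⟩ := Set.not_subset.1 (hcon s)
    exact Set.mem_iUnion.2 ⟨⟨z, hz⟩, hzs⟩
  obtain ⟨z, hz⟩ := Subspace.exists_eq_top_of_iUnion_eq_univ hcov
  obtain ⟨s, hs⟩ := hB z
  have h1 : s ∈ vanSub k hM (z : X) := by rw [hz]; trivial
  exact h1 hs

variable [IsProper (X ↘ Spec (CommRingCat.of k))]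

include k in
theorem exists_cut [Infinite k] {M : X.Modules} (hM : PicF.IsInvertible M) (hB : BPF M) {F : X.Modules}
    (hF : Coh.IsCoh F) (r : ℕ) (hr : topologicalKrullDim (CohB1.support F) ≤ ((r + 1 : ℕ) : WithBot ℕ∞)) :
    ∃ s : Coh.structureModule X ⟶ M, Mono (mulS s F) ∧
      topologicalKrullDim (CohB1.support (cokernel (mulS s F))) ≤ r := by
  have := Neg.isNoetherian (X := X) k
  set T : Set X := CohB1.support F with hTdef
  have hT : IsClosed T := Groth.Agent.S0020.result X F hF.2
  have hTn : NoetherianSpace T := inferInstance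
  have hcomp : (irreducibleComponents T).Finite := NoetherianSpace.finite_irreducibleComponents
  have hfc : Finite (irreducibleComponents T) := hcomp
  have hch : ∀ Z : irreducibleComponents T, ∃ z : T, z ∈ Z.1 := fun Z => Z.2.1.nonempty
  choose z hz using hch
  obtain ⟨s, hZ⟩ := exists_section k hM hB
    ((Fdesc.SubFilt.finite_ass hF).union (Set.finite_range fun Z => (z Z : X)))
  have hNF : Coh.IsCoh (CohB1.tensorMod M F) :=
    Sga67.CohBasic.isCoh_of_iso (Ega2.Tens.swap F _) (TwistCoh.isCoh_tensor hF hM)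
  refine ⟨s, mulS_mono s F hF ?_ (fun x hx => hZ (Or.inl hx)), ?_⟩
  · exact (Sga67.CohBasic.isCoh_kernel _ hF hNF.1).1
  · rw [support_cokernel_mulS s F hM hF.2]
    let D : Set T := Subtype.val ⁻¹' (T \ (CohB1.genLocus M s : Set X))
    have hDc : IsClosed D := (hT.sdiff (CohB1.genLocus M s).isOpen).preimage continuous_subtype_val
    have h1 : topologicalKrullDim D ≤ r := by
      refine Fga.DimCut.dim_le_of_forall_not_subset D hDc (fun Z hZc hsub => ?_) r hr
      exact (hsub (hz ⟨Z, hZc⟩)).2 (hZ (Or.inr ⟨⟨Z, hZc⟩, rfl⟩))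
    refine le_trans ?_ h1
    let g : (T \ (CohB1.genLocus M s : Set X) : Set X) → D := fun b => ⟨⟨b.1, b.2.1⟩, b.2⟩
    have hg : Topology.IsInducing g := by
      refine Topology.IsInducing.of_comp (g := fun b : D => (b.1.1 : X)) ?_ ?_ ?_
      · exact Continuous.subtype_mk (Continuous.subtype_mk continuous_subtype_val _) _
      · exact continuous_subtype_val.comp continuous_subtype_val
      · exact Topology.IsInducing.subtypeVal
    exact hg.topologicalKrullDim_le

include k in
theorem exists_ses [Infinite k] {M : X.Modules} (hM : PicF.IsInvertible M) (hB : BPF M) {c : MC X}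
    (hc : Co c) (r : ℕ) (hr : topologicalKrullDim (supp c) ≤ ((r + 1 : ℕ) : WithBot ℕ∞)) :
    ∃ t : MC X, Ses c (unit hM • c) t ∧ topologicalKrullDim (supp t) ≤ r := by
  have := Neg.isNoetherian (X := X) k
  induction c using MC.ind with | h F => ?_
  obtain ⟨s, hs, hd⟩ := exists_cut k hM hB (F := F) hc r hr
  refine ⟨mc (cokernel (mulS s F)), ?_, hd⟩
  have h1 := Ses.of_mono (mulS s F) hc (SnapperTwist.isCoh_tensor' hM hc)
  rwa [← unit_smul hM] at h1

/-- `χ(F) ≤ χ(M ⊗ F)` for `dim Supp F ≤ 1`. -/
theorem chi_le_of_dim_le_one [Infinite k] {M : X.Modules} (hM : PicF.IsInvertible M) (hB : BPF M) {c : MC X}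
    (hc : Co c) (hr : topologicalKrullDim (supp c) ≤ (1 : ℕ)) : chi k c ≤ chi k (unit hM • c) := by
  obtain ⟨t, hs, ht⟩ := exists_ses k hM hB hc 0 hr
  have h1 := hs.chi_eq k
  have h2 : chi k t = h k 0 t := chi_eq_h_zero k fun i hi => V_of_dim k hs.co₃ (d := 0) ht (by omega)
  have h3 : (0 : ℤ) ≤ (h k 0 t : ℤ) := by positivity
  linarith

/-- An invertible module with a nonzero section contains the structure sheaf. -/
theorem exists_sub [IsIntegral X] {u : (MC X)ˣ} (h0 : 0 < h k 0 (u : MC X)) :
    ∃ t : MC X, Ses 1 (u : MC X) t ∧ genericPoint X ∉ supp t := by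
  have := Neg.isNoetherian (X := X) k
  obtain ⟨L, hL, hu⟩ := Cls.exists_invertible u
  rw [← hu] at h0 ⊢
  obtain ⟨s, hs⟩ := HodgeSec.exists_section k (L := L) h0
  have hO : PicF.IsInvertible (Coh.structureModule X) := Fdesc.LocGen.isInvertible_structureModule
  have hm := HodgeSec.mono_mulS hL hO s hs
  have h1 := Ses.of_mono (mulS s (Coh.structureModule X)) (CurvesC.UnitCoh.isCoh_unit X)
    (HodgeSec.isCoh_of_isInvertible (Fdesc.LocGen.isInvertible_tensorMod hL hO))
  rw [mc_tensor, mc_one, mul_one] at h1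
  exact ⟨_, h1, HodgeSec.genericPoint_notMem_support hL (CurvesC.UnitCoh.isCoh_unit X) s hs⟩

omit [X.Over (Spec (CommRingCat.of k))] [IsProper (X ↘ Spec (CommRingCat.of k))] in
theorem dim_le_of_generic [IsIntegral X] {c : MC X} (hc : Co c) (hη : genericPoint X ∉ supp c)
    {d : ℕ} (hd : topologicalKrullDim X ≤ ((d + 1 : ℕ) : WithBot ℕ∞)) : topologicalKrullDim (supp c) ≤ d := by
  have hcl : IsClosed (supp c) := by
    induction c using MC.ind with | h F => ?_
    exact Groth.Agent.S0020.result X _ hc.2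
  refine Fga.DimCut.dim_le_of_forall_not_subset (supp c) hcl (fun Z hZ hsub => hη ?_) d hd
  apply hsub
  rw [irreducibleComponents_eq_singleton] at hZ
  rw [Set.mem_singleton_iff.1 hZ]
  trivial

/-- On an integral surface over an infinite field an effective divisor has nonnegative intersection number with a
base point free invertible module. -/
theorem form_nonneg [Infinite k] [IsIntegral X] (hd : topologicalKrullDim X ≤ (2 : ℕ)) {M : X.Modules}
    (hM : PicF.IsInvertible M) (hB : BPF M) {u : (MC X)ˣ} (h0 : 0 < h k 0 (u : MC X)) :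
    0 ≤ form k X u (unit hM) := by
  obtain ⟨t, hs, ht⟩ := exists_sub k h0
  have hdt := dim_le_of_generic hs.co₃ ht (d := 1) hd
  have h1 := chi_le_of_dim_le_one k hM hB hs.co₃ hdt
  have h2 := hs.chi_eq k
  have h3 := (hs.smul (unit hM)).chi_eq k
  rw [smul_one', smul_val, mul_comm (unit hM) u] at h3
  rw [form_eq k hd]
  linarith

theorem V_zero_of_form_neg [Infinite k] [IsIntegral X] (hd : topologicalKrullDim X ≤ (2 : ℕ)) {M : X.Modules}
    (hM : PicF.IsInvertible M) (hB : BPF M) {u : (MC X)ˣ} (h0 : form k X u (unit hM) < 0) : V 0 (u : MC X) := by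
  obtain ⟨L, hL, rfl⟩ := exists_unit u
  by_contra hne
  rw [unit_val, V_mc, not_subsingleton_iff_nontrivial] at hne
  have := HodgeSec.finite_HH k hL 0
  have h1 : 0 < h k 0 ((unit hL : (MC X)ˣ) : MC X) := by
    rw [unit_val, h_mc]
    exact Module.finrank_pos
  have := form_nonneg k hd hM hB h1
  omega

end

end K461.GG
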