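import Groth.Agent.Surf.K461.Curve
import Groth.Agent.Surf.K461.GG

/-!
# Sections along (-1)-curves

* `h_zero_pow`: `(u·E) = -s`, `E² = -1` imply `h^0(u ⊗ I_E^n) = h^0(u)` for `n ≤ s`.
* `V_zero_of_lt_neg_one`: `(u·E) < -1`, `(u·H) < 2 (E·H)`, `H` base point free, imply `H^0(u) = 0`.
-/

set_option autoImplicit false
universe u
open CategoryTheory CategoryTheory.Limits AlgebraicGeometry TopologicalSpace

namespace K461.NegCurve

open Groth.Agent Groth.Agent.Fga.PicMon Groth.Agent.Fga Groth.Agent.Pic13.H11 Groth.Agent.Pic13.H11.Cls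
  Groth.Agent.Fga.HodgeIneq
open Groth.Agent.Fga.HodgeForm K461.Neg K461.GG K461.Curve

variable {X : Scheme.{u}} (k : Type u) [Field k] [IsAlgClosed k] [X.Over (Spec (CommRingCat.of k))]
  [IsProper (X ↘ Spec (CommRingCat.of k))] (hd : topologicalKrullDim X ≤ (2 : ℕ))
  (E : X.IdealSheafData) (hEi : IsIntegral E.subscheme) (hE1 : topologicalKrullDim (E.support : Set X) = 1)
  {x : (MC X)ˣ} (hx : (x : MC X) = mc (ClSub.idealMod E)) (hEE : form k X x x = -1)

include hd hEi hE1 hx hEE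

theorem dg_mul_pow (u : (MC X)ˣ) (n : ℕ) : dg k E (u * x ^ n) = dg k E u + n := by
  rw [dg_mul k hd E hx, dg_pow k hd E hx, dg_eq_neg_form k hd E hx x, hEE]
  ring

theorem h_zero_succ (u : (MC X)ˣ) (n : ℕ) (hn : dg k E u + n < 0) :
    h k 0 ((u * x ^ (n + 1) : (MC X)ˣ) : MC X) = h k 0 ((u * x ^ n : (MC X)ˣ) : MC X) := by
  have h1 := h_zero_eq_of_dg_neg k E hEi hE1 (u * x ^ n) (by
    rw [dg_mul_pow k hd E hEi hE1 hx hEE]; exact hn)
  rw [← hx, smul_val, mul_assoc, ← pow_succ] at h1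
  exact h1

theorem h_zero_pow (u : (MC X)ˣ) (n : ℕ) (hn : dg k E u + n ≤ 0) :
    h k 0 ((u * x ^ n : (MC X)ˣ) : MC X) = h k 0 (u : MC X) := by
  induction n with
  | zero => rw [pow_zero, mul_one]
  | succ n ih =>
    push_cast at hn
    rw [h_zero_succ k hd E hEi hE1 hx hEE u n (by omega), ih (by omega)]

theorem V_zero_of_lt_neg_one [IsIntegral X] {H : X.Modules} (hH : PicF.IsInvertible H) (hB : BPF H) (u : (MC X)ˣ)
    (h1 : dg k E u < -1) (h2 : form k X u (unit hH) < 2 * dg k E (unit hH)) : V 0 (u : MC X) := by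
  have := Neg.isNoetherian (X := X) k
  have e1 : dg k E (unit hH) = - form k X (unit hH) x := dg_eq_neg_form k hd E hx _
  have h3 : form k X (u * x ^ 2) (unit hH) < 0 := by
    rw [form_mul_left k X hd, pow_two, form_mul_left k X hd, form_comm k X x (unit hH)]
    omega
  have h4 : V 0 ((u * x ^ 2 : (MC X)ˣ) : MC X) := V_zero_of_form_neg k hd hH hB h3
  have h5 : V 0 ((u * x ^ 1 : (MC X)ˣ) : MC X) := by
    refine V_zero_of_dg_neg_of_V k E hEi hE1 _ ?_ ?_
    · rw [dg_mul_pow k hd E hEi hE1 hx hEE]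
      push_cast
      omega
    · rw [← hx, smul_val, mul_assoc, ← pow_succ]
      exact h4
  refine V_zero_of_dg_neg_of_V k E hEi hE1 _ (by omega) ?_
  rw [← hx, smul_val]
  rwa [pow_one] at h5

end K461.NegCurve
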