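import Groth.Agent.Surf.K461.Plane
import Groth.Agent.Surf.K461.NegCurve
import Groth.Agent.Ega2.QCohLocal

/-!
# Blow-ups of the projective plane: vanishing of `H²`, `(-1)`-curves
-/

set_option autoImplicit false
universe u
open CategoryTheory CategoryTheory.Limits AlgebraicGeometry TopologicalSpace

namespace K461.PlaneMain

open Groth.Agent Groth.Agent.Fga.PicMon Groth.Agent.Fga Groth.Agent.Pic13.H11 Groth.Agent.Pic13.H11.Cls
  Groth.Agent.Fga.HodgeIneq
open Groth.Agent.Fga.HodgeForm K461.Neg K461.GG K461.PlaneH K461.SerreCl K461.Plane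

variable (k : Type u) [Field k] [IsAlgClosed k] {r : ℕ} {P : Fin r → ↥(CohB1.ProjSpace 2 k)}
  (hPc : ∀ i, IsClosed ({P i} : Set ↥(CohB1.ProjSpace 2 k))) (hZ : IsClosed (Set.range P))
  {X : Scheme.{u}} [X.Over (Spec (CommRingCat.of k))] (σ : X ⟶ CohB1.ProjSpace 2 k)
  (hσk : σ ≫ CohB1.ProjSpace.toSpec 2 k = X ↘ (Spec (CommRingCat.of k)))
  (hσ : BlowUp.IsBlowUp σ (Scheme.IdealSheafData.vanishingIdeal ⟨Set.range P, hZ⟩))
  [IsIntegral X] [IsProper (X ↘ (Spec (CommRingCat.of k)))] [Smooth (X ↘ (Spec (CommRingCat.of k)))]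
  (hdim : topologicalKrullDim X = 2)

omit [IsAlgClosed k] in
include hdim in
/-- There is a canonical module. -/
theorem exists_canonical : ∃ (_ : SmoothOfRelativeDimension 2 (X ↘ Spec (CommRingCat.of k))) (W : X.Modules)
    (w : (MC X)ˣ), ExtPow.IsExtPow 2 (Omega.sheaf (X ↘ Spec (CommRingCat.of k))) W ∧ (w : MC X) = mc W := by
  have hr : SmoothOfRelativeDimension 2 (X ↘ Spec (CommRingCat.of k)) :=
    Picfga.CurveRelDim.smoothOfRelativeDimension_of_topologicalKrullDim_eq k X _ 2 hdim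
  have hf := Dual.H339.OmegaRank.isFinLocFreeOfRank_omega 2 (X ↘ Spec (CommRingCat.of k))
  have hq : Coh.IsQCoh (Omega.sheaf (X ↘ Spec (CommRingCat.of k))) :=
    Ega2.QCohLocal.isQCoh_of_isFinLocFree (Krr.H495.Rank.isFinLocFree_of_rank hf)
  obtain ⟨W, hW⟩ := Dual.H366.ExtQCoh.exists_isExtPow 2 hq
  exact ⟨hr, W, unit (Canon.isInvertible_of_smooth 2 _ hW), hW, unit_val _⟩

include hPc hZ hσk hσ hdim

theorem V_two_unit (u : (MC X)ˣ) (h : -2 ≤ form k X u (hcl k σ)) : V 2 (u : MC X) := by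
  obtain ⟨hr, W, w, hW, hw⟩ := exists_canonical k hdim
  exact V_two_of_ge k hPc hZ σ hσk hσ hdim.le hW w hw u h

theorem V_two {L : X.Modules} (hL : PicF.IsInvertible L)
    (h : -2 ≤ FGA.intNum k X 2 ![L, ((Scheme.Modules.pullback σ).obj (Twist.twistProjSpace 2 k 1))]
      (Coh.structureModule X)) : V 2 ((unit hL : (MC X)ˣ) : MC X) := by
  refine V_two_unit k hPc hZ σ hσk hσ hdim _ ?_
  rw [hcl, ← intNum_eq_form k hL (isInvertible_pull σ 1)]
  exact h

variable (E : X.IdealSheafData) (hEi : IsIntegral E.subscheme) (hE1 : topologicalKrullDim (E.support : Set X) = 1)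
  {x : (MC X)ˣ} (hx : (x : MC X) = mc (ClSub.idealMod E))

include hEi hE1 hx

/-- `h^1(u) = χ⁻ = max(-χ(u), 0)` and `(H·E) ≤ (u·H) + 2`, `H^1(O_E) = 0` imply `(u·E) ≥ -1 - χ⁻`. -/
theorem dg_ge (hEg : V 1 (mc (ClSub.quotMod E))) (u : (MC X)ˣ)
    (hEH : dg k E (hcl k σ) ≤ form k X u (hcl k σ) + 2) (m : ℤ) (h1 : (Cls.h k 1 (u : MC X) : ℤ) = m) :
    -1 - m ≤ dg k E u := by
  have := Neg.isNoetherian (X := X) k
  have hs := ses_twist_unit E hx u
  have h2 : V 2 ((u * x : (MC X)ˣ) : MC X) := by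
    refine V_two_unit k hPc hZ σ hσk hσ hdim _ ?_
    have e1 := dg_eq_neg_form k hdim.le E hx (hcl k σ)
    rw [form_mul_left k X hdim.le, form_comm k X x]
    omega
  have h3 := hs.h_right_le k 1
  rw [h_eq_zero k h2] at h3
  have h4 : chi k (u • mc (ClSub.quotMod E)) = (Cls.h k 0 (u • mc (ClSub.quotMod E)) : ℤ) -
      Cls.h k 1 (u • mc (ClSub.quotMod E)) := by
    rw [chi_eq_sum k _ 1 fun i hi => V_of_two_le k E hE1 u (i := i) (by omega)]
    rw [Finset.sum_range_succ, Finset.sum_range_one]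
    ring
  have h5 := chi_quot k E hEi hE1
  rw [h_eq_zero k hEg] at h5
  have h6 : dg k E u = chi k (u • mc (ClSub.quotMod E)) - chi k (mc (ClSub.quotMod E)) := rfl
  have h7 : (0 : ℤ) ≤ (Cls.h k 0 (u • mc (ClSub.quotMod E)) : ℤ) := by positivity
  omega

end K461.PlaneMain
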