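import Groth.Agent.Surf.K461.PlaneMain
import Groth.Agent.Surf.K464.Curves

/-!
# Distinct integral curves on a smooth surface, in the class monoid; `(C·C)` from `χ(O(C))`

* `isCurve`, `dg_ideal_nonpos`: `dg k E [I_C] ≤ 0` for `E ≠ C`; `dg_inv_nonneg`.
* `h_zero_one`: `h^0(O_X) = 1`; `one_le_h_zero_inv`: `h^0(O(C)) ≥ 1`.
* `chi_inv`: `χ(O(C)) = χ(O_X) + (C·C) + χ(O_C)`.
-/

set_option autoImplicit false
universe u
open CategoryTheory CategoryTheory.Limits AlgebraicGeometry TopologicalSpace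

namespace K461.NegTwo

open Groth.Agent Groth.Agent.Fga.PicMon Groth.Agent.Fga Groth.Agent.Pic13.H11 Groth.Agent.Pic13.H11.Cls
  Groth.Agent.Fga.HodgeIneq
open Groth.Agent.Fga.HodgeForm K461.Neg K461.GG K461.Curve

variable {X : Scheme.{u}} (k : Type u) [Field k] [X.Over (Spec (CommRingCat.of k))]
  [IsProper (X ↘ Spec (CommRingCat.of k))]

/-- `(C·E) ≥ 0`, i.e. `dg k E [I_C] ≤ 0`, for distinct integral curves on a smooth surface. -/
theorem dg_ideal_nonpos [IsAlgClosed k] [IsIntegral X] [Smooth (X ↘ Spec (CommRingCat.of k))]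
    (hdim : topologicalKrullDim X = 2) {C E : X.IdealSheafData} (hCi : IsIntegral C.subscheme)
    (hC1 : topologicalKrullDim (C.support : Set X) = 1) (hEi : IsIntegral E.subscheme)
    (hE1 : topologicalKrullDim (E.support : Set X) = 1) (hne : E ≠ C)
    (hI : PicF.IsInvertible (ClSub.idealMod C)) : dg k E (unit hI) ≤ 0 := by
  have hCc : K464.Curves.IsCurve C := ⟨hCi, hC1⟩
  have hEc : K464.Curves.IsCurve E := ⟨hEi, hE1⟩
  have h1 := K464.Curves.degOn_ic_nonpos k hEc (Curve.isEff k hdim hCi hC1)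
    (K464.Curves.gp_notMem hEc hCc hne)
  rw [dg_unit]
  exact h1

theorem h_zero_one [IsAlgClosed k] [IsIntegral X] : Cls.h k 0 (1 : MC X) = 1 := by
  rw [← mc_one, h_mc]
  exact VarietyA.CurveFin.finrank_h0_structure k X

section

variable (C : X.IdealSheafData) {x : (MC X)ˣ} (hx : (x : MC X) = mc (ClSub.idealMod C))

include k hx

/-- `0 → O → O(C) → O_C(C) → 0` -/
theorem ses_inv : Ses (1 : MC X) ((x⁻¹ : (MC X)ˣ) : MC X) (x⁻¹ • mc (ClSub.quotMod C)) := by
  have := Neg.isNoetherian (X := X) k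
  have h := ses_twist_unit C hx x⁻¹
  rwa [inv_mul_cancel, Units.val_one] at h

theorem one_le_h_zero_inv [IsAlgClosed k] [IsIntegral X] : 1 ≤ Cls.h k 0 ((x⁻¹ : (MC X)ˣ) : MC X) := by
  rw [← h_zero_one k (X := X)]
  exact (ses_inv k C hx).h_zero_le k

theorem chi_inv (hd : topologicalKrullDim X ≤ (2 : ℕ)) :
    chi k ((x⁻¹ : (MC X)ˣ) : MC X) = chi k (1 : MC X) + form k X x x + chi k (mc (ClSub.quotMod C)) := by
  have h1 := (ses_inv k C hx).chi_eq k
  have h2 := dg_inv k hd C hx x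
  rw [dg_eq_neg_form k hd C hx x] at h2
  unfold dg at h2
  linarith

end

end K461.NegTwo
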