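import Groth.Agent.Surf.K461.BasePt
import Groth.Agent.Surf.K460.DPGlob
import Groth.Agent.Surf.K461.NegTwo

/-!
# The base point of the anticanonical system of a del Pezzo surface of degree one
-/

set_option autoImplicit false
universe u
open CategoryTheory CategoryTheory.Limits AlgebraicGeometry TopologicalSpace Opposite

namespace K461.DPone

open Groth.Agent Groth.Agent.Grpsch.PicGrp K464.Base K464.Curves Groth.Agent.Surf.K460
  Groth.Agent.Surf.K460.SurfKit Groth.Agent.Surf.K460.DelPezzo Groth.Agent.Surf.K460.DPGlob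
open Groth.Agent.Fdesc.LocGen hiding pullHom
open Groth.Agent.Ega2.Weight (pullHom genLocus_pullHom genLocus_comp)

variable {k : Type u} [Field k] [IsAlgClosed k] {X : Scheme.{u}} [X.Over (Spec (CommRingCat.of k))]
  {W D : X.Modules} (P : DP k X W D)
  [IsIntegral X] [IsProper (X ↘ Spec (CommRingCat.of k))] [Smooth (X ↘ Spec (CommRingCat.of k))]

include P

/-- An integral anticanonical curve. -/
theorem exists_curve_one (hK : Kod k X) (hd : dot k X (mk W P.hWi) (mk W P.hWi) = 1) :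
    ∃ (E : X.IdealSheafData) (_ : IsCurve E) (hEe : BlowUp.IsEffCartierIdeal E),
      mk D P.hamp.1 = (ic E hEe)⁻¹ := by
  have h0 : 0 < h k X 0 (mk D P.hamp.1) := by
    have h1 := (P.h0_anticanonical hK).1
    rw [← P.mk_D, hd] at h1
    omega
  obtain ⟨F, hF, hδ⟩ := exists_eff_of_h0_pos k h0
  have hne : F ≠ ⊤ := by
    rintro rfl
    rw [show ic (⊤ : X.IdealSheafData) hF = 1 from ic_top, inv_one, P.mk_D, inv_eq_one] at hδ
    rw [hδ, dot_one_left] at hd
    exact zero_ne_one hd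
  have hne' : (F.support : Set X).Nonempty := by
    by_contra hne'
    apply hne
    rw [← Scheme.IdealSheafData.support_eq_bot_iff]
    apply TopologicalSpace.Closeds.ext
    rw [Set.not_nonempty_iff_eq_empty.1 hne']
    rfl
  obtain ⟨x, hx⟩ := hne'
  obtain ⟨E, J, hE, hEe, hJ, hxE, hic⟩ := exists_curve_mul k P.hdim hF hx
  have hsum : dot k X (ic E hEe)⁻¹ (mk D P.hamp.1) + dot k X (ic J hJ)⁻¹ (mk D P.hamp.1) = 1 := by
    rw [← dot_mul_left k X P.hdim.le, ← mul_inv, ← hic, ← hδ, P.mk_D, dot_inv_inv k X P.hdim.le, hd]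
  have h1 := dot_eff k P.hdim P.hamp hEe
  have h2 := dot_eff k P.hdim P.hamp hJ
  have h3 : dot k X (ic E hEe)⁻¹ (mk D P.hamp.1) ≠ 0 := fun h0 => curve_ne_top hE (h1.2 h0)
  have h1' := h1.1
  have h2' := h2.1
  have h4 : J = ⊤ := h2.2 (by omega)
  subst h4
  refine ⟨E, hE, hEe, ?_⟩
  rw [hδ, hic, show ic (⊤ : X.IdealSheafData) hJ = 1 from ic_top, mul_one]

/-- **The base point.** -/
theorem exists_base (hK : Kod k X) (hd : dot k X (mk W P.hWi) (mk W P.hWi) = 1) :
    ∃ x₀ : X, IsClosed ({x₀} : Set X) ∧ (∀ t : Coh.structureModule X ⟶ D, x₀ ∉ CohB1.genLocus D t) ∧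
      ∀ x, x ≠ x₀ → ∃ t : Coh.structureModule X ⟶ D, x ∈ CohB1.genLocus D t := by
  obtain ⟨E, hE, hEe, hDE⟩ := exists_curve_one P hK hd
  letI := overC k X E
  have hdimE : topologicalKrullDim E.subscheme = 1 := (dim_sub X E).trans hE.dim
  have := isProper_sub k X E
  have := hE.integral
  have hD' : PicF.IsInvertible ((Scheme.Modules.pullback E.subschemeι).obj D) :=
    isInvertible_pullback _ P.hamp.1
  -- degree one
  have hdeg : Curv2.deg k E.subscheme ((Scheme.Modules.pullback E.subschemeι).obj D) 1 = 1 := by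
    rw [← degOn_eq_deg k X E P.hamp.1, degOn_eq_neg_dot k X hEe]
    have h1 : ic E hEe = (mk D P.hamp.1)⁻¹ := by rw [hDE, inv_inv]
    rw [h1, dot_inv_left k X P.hdim.le, neg_neg, P.mk_D, dot_inv_inv k X P.hdim.le, hd]
  -- vanishing
  have hinv := Dix.IdealModCartier.isInvertible_idealMod hEe
  have hprod : mk (CohB1.tensorMod (ClSub.idealMod E) D) (isInvertible_tensorMod hinv P.hamp.1) = 1 := by
    rw [← mk_mul_mk hinv P.hamp.1, hDE]
    exact mul_inv_cancel _
  have hM' : Subsingleton (Coh.HH X (CohB1.tensorMod (ClSub.idealMod E) D) 1) :=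
    subsingleton_of_h_eq_zero k X (isInvertible_tensorMod hinv P.hamp.1) (by rw [hprod]; exact P.h1_one hK)
  -- `h⁰(E, D|_E) = 1`
  have hN := Fga.IntAdd.isNoetherian k X
  have hS := Dix.Cast1.restrictSeq_shortExact E.subschemeι P.hamp.1
  have hM1 : Subsingleton (Coh.HH X (CohB1.tensorMod (ClSub.idealMod E.subschemeι.ker) D) 1) := by
    rw [E.ker_subschemeι]; exact hM'
  let S := Dix.Cast1.restrictSeq E.subschemeι D
  have hfinD : Module.Finite k (Coh.HH X D 0) := Fga.HodgeSec.finite_HH k P.hamp.1 0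
  have hfinE : Module.Finite k (Coh.HH E.subscheme ((Scheme.Modules.pullback E.subschemeι).obj D) 0) :=
    Fga.HodgeSec.finite_HH k hD' 0
  have hh0 : Module.finrank k (Coh.HH E.subscheme ((Scheme.Modules.pullback E.subschemeι).obj D) 0) = 1 := by
    obtain ⟨e3⟩ := Neg.restr_equiv k E P.hamp.1 0
    have hs := Neg.ses_twist_unit E (x := Pic13.H11.Cls.unit hinv) (Pic13.H11.Cls.unit_val hinv)
      (Pic13.H11.Cls.unit P.hamp.1)
    have hone : Pic13.H11.Cls.unit P.hamp.1 * Pic13.H11.Cls.unit hinv = 1 := by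
      apply Units.ext
      rw [Units.val_mul, Pic13.H11.Cls.unit_val, Pic13.H11.Cls.unit_val, ← Fga.PicMon.mc_tensor, Units.val_one,
        ← Fga.PicMon.mc_one, Fga.PicMon.mc_eq_iff]
      have h1 : mk D P.hamp.1 * mk (ClSub.idealMod E) hinv = 1 := by rw [hDE]; exact inv_mul_cancel _
      rw [mk_mul_mk, Grpsch.PicGrp.one_def, mk_eq_iff] at h1
      exact h1
    rw [hone, Units.val_one] at hs
    obtain ⟨a0, a1, a2⟩ := P.h0_anticanonical hK
    rw [← P.mk_D, hd] at a0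
    rw [← P.mk_D] at a1 a2
    have b0 := h0_one k X
    have b1 := P.h1_one hK
    have b2 := P.h2_one
    have c0 : Pic13.H11.Cls.h k 0 ((Pic13.H11.Cls.unit P.hamp.1 : (Fga.PicMon.MC X)ˣ) : Fga.PicMon.MC X) = 2 := by
      rw [Pic13.H11.Cls.unit_val, Pic13.H11.Cls.h_mc]
      have h5 : (Module.finrank k (Coh.HH X D 0) : ℤ) = 1 + 1 := a0
      exact_mod_cast h5
    have c1 : Pic13.H11.Cls.V 1 ((Pic13.H11.Cls.unit P.hamp.1 : (Fga.PicMon.MC X)ˣ) : Fga.PicMon.MC X) := by
      rw [Pic13.H11.Cls.unit_val, Pic13.H11.Cls.V_mc]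
      exact subsingleton_of_h_eq_zero k X P.hamp.1 a1
    have c2 : Pic13.H11.Cls.V 2 ((Pic13.H11.Cls.unit P.hamp.1 : (Fga.PicMon.MC X)ˣ) : Fga.PicMon.MC X) := by
      rw [Pic13.H11.Cls.unit_val, Pic13.H11.Cls.V_mc]
      exact subsingleton_of_h_eq_zero k X P.hamp.1 a2
    have hO : PicF.IsInvertible (Coh.structureModule X) := isInvertible_structureModule
    have d0 : Pic13.H11.Cls.h k 0 (((1 : (Fga.PicMon.MC X)ˣ)) : Fga.PicMon.MC X) = 1 := by
      rw [Units.val_one, ← Fga.PicMon.mc_one, Pic13.H11.Cls.h_mc]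
      exact b0
    have d1 : Pic13.H11.Cls.V 1 (((1 : (Fga.PicMon.MC X)ˣ)) : Fga.PicMon.MC X) := by
      rw [Units.val_one, ← Fga.PicMon.mc_one, Pic13.H11.Cls.V_mc]
      exact subsingleton_of_h_eq_zero k X hO b1
    have d2 : Pic13.H11.Cls.V 2 (((1 : (Fga.PicMon.MC X)ˣ)) : Fga.PicMon.MC X) := by
      rw [Units.val_one, ← Fga.PicMon.mc_one, Pic13.H11.Cls.V_mc]
      exact subsingleton_of_h_eq_zero k X hO b2
    have e1 := SerreCl.chi_eq_three k P.hdim.le (Pic13.H11.Cls.unit P.hamp.1)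
    have e2 := SerreCl.chi_eq_three k P.hdim.le (1 : (Fga.PicMon.MC X)ˣ)
    rw [c0, Pic13.H11.Cls.h_eq_zero k c1, Pic13.H11.Cls.h_eq_zero k c2] at e1
    rw [d0, Pic13.H11.Cls.h_eq_zero k d1, Pic13.H11.Cls.h_eq_zero k d2] at e2
    have e4 := hs.chi_eq k
    rw [Units.val_one] at d2 e2
    have e5 := hs.V_right c1 d2
    have e6 := Pic13.H11.Cls.chi_eq_sum k (Pic13.H11.Cls.unit P.hamp.1 • Fga.PicMon.mc (ClSub.quotMod E)) 1
      fun i hi => Neg.V_of_two_le k E hE.dim _ (i := i) (by omega)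
    rw [Finset.sum_range_succ, Finset.sum_range_one, Pic13.H11.Cls.h_eq_zero k e5] at e6
    have e7 : (Pic13.H11.Cls.h k 0 (Pic13.H11.Cls.unit P.hamp.1 • Fga.PicMon.mc (ClSub.quotMod E)) : ℤ) = 1 := by
      rw [e1, e2, e6] at e4
      push_cast at e4
      linarith
    have e8 : Pic13.H11.Cls.h k 0 (Pic13.H11.Cls.unit P.hamp.1 • Fga.PicMon.mc (ClSub.quotMod E)) = 1 := by
      exact_mod_cast e7
    rw [Pic13.H11.Cls.unit_smul, Pic13.H11.Cls.h_mc] at e8
    rw [e3.finrank_eq]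
    exact e8
  obtain ⟨y₀, hy₀, h1, h2⟩ := BasePt.unique_zero k E.subscheme hdimE hD' hh0 hdeg
  refine ⟨E.subschemeι y₀, ?_, fun t ht => ?_, fun x hx => ?_⟩
  · have h3 := E.subschemeι.isClosedEmbedding.isClosedMap _ hy₀
    rwa [Set.image_singleton] at h3
  · refine h1 (pullHom E.subschemeι t) ?_
    rw [genLocus_pullHom E.subschemeι P.hamp.1]
    exact ht
  · by_cases hxE : x ∈ E.support
    · obtain ⟨y, rfl⟩ : x ∈ Set.range E.subschemeι := by
        rw [E.range_subschemeι]; exact hxE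
      obtain ⟨σ, hσ⟩ := h2 y fun h => hx (by rw [h])
      obtain ⟨t, ht⟩ := Dix.Cast1.wp1_lift E.subschemeι D P.hamp.1 hM1 (sec σ ⊤)
      refine ⟨homOf t, ?_⟩
      have h4 := genLocus_pullHom E.subschemeι P.hamp.1 (homOf t)
      have h5 : pullHom E.subschemeι (homOf t) = σ := by
        unfold pullHom
        rw [sec_homOf, res_refl]
        change homOf (pullTop E.subschemeι t) = σ
        rw [ht, homOf_sec]
      rw [h5] at h4
      have h6 : y ∈ E.subschemeι ⁻¹ᵁ CohB1.genLocus D (homOf t) := h4 ▸ hσ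
      exact h6
    · obtain ⟨s, hs⟩ := BasePt.exists_canSec hEe P.hamp.1 hDE
      exact ⟨s, (hs x).2 hxE⟩

end K461.DPone
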