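import Groth.Agent.Surf.K461.SerreDual
import Groth.Agent.Surf.K461.Canon
import Groth.Agent.Surf.K461.Neg

/-!
# Serre duality for invertible modules, in the class monoid

`X` proper over a field `k`, smooth of relative dimension `n`, `W = Λ^n Ω`, `w = [W]`:
* `h_dual`: `h^p(u) = h^m(w u⁻¹)`, `m + p = n`; `V_dual`.
* `chi_dual`: `χ(u) = (-1)^n χ(w u⁻¹)`.
* `two_chi` (surfaces): `2 χ(u) = (u·u) - (u·w) + 2 χ(O)`.
-/

set_option autoImplicit false
universe u
open CategoryTheory CategoryTheory.Limits AlgebraicGeometry TopologicalSpace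

namespace K461.SerreCl

open Groth.Agent Groth.Agent.Fga.PicMon Groth.Agent.Fga Groth.Agent.Pic13.H11 Groth.Agent.Pic13.H11.Cls
  Groth.Agent.Fga.HodgeIneq
open Groth.Agent.Fga.HodgeForm K461.Neg

variable (k : Type u) [Field k] {X : Scheme.{u}} [X.Over (Spec (CommRingCat.of k))]
  [IsProper (X ↘ Spec (CommRingCat.of k))]

section Rel

variable (n : ℕ) [SmoothOfRelativeDimension n (X ↘ Spec (CommRingCat.of k))] {W : X.Modules}
  (hW : ExtPow.IsExtPow n (Omega.sheaf (X ↘ Spec (CommRingCat.of k))) W)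

include hW

theorem h_dual (w : (MC X)ˣ) (hw : (w : MC X) = mc W) (u : (MC X)ˣ) (m p : ℕ) (hmp : m + p = n) :
    h k p (u : MC X) = h k m ((w * u⁻¹ : (MC X)ˣ) : MC X) := by
  obtain ⟨L, hL, hu⟩ := Cls.exists_invertible u
  obtain ⟨L', hL', hu'⟩ := Cls.exists_invertible u⁻¹
  have e : Nonempty (CohB1.tensorMod L L' ≅ Coh.structureModule X) := by
    rw [← mc_eq_iff, mc_tensor, hu, hu', Units.mul_inv, mc_one]
  have h1 := SerreDual.finrank_eq k n hW e (HodgeSec.isCoh_of_isInvertible hL).1 m p hmp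
  rw [Units.val_mul, hw, ← hu, ← hu', ← mc_tensor, h_mc, h_mc]
  exact h1

theorem V_dual (w : (MC X)ˣ) (hw : (w : MC X) = mc W) (u : (MC X)ˣ) (m p : ℕ) (hmp : m + p = n) :
    V p (u : MC X) ↔ V m ((w * u⁻¹ : (MC X)ˣ) : MC X) := by
  have key : ∀ (v : (MC X)ˣ) (i : ℕ), V i (v : MC X) ↔ h k i (v : MC X) = 0 := by
    intro v i
    obtain ⟨L, hL, rfl⟩ := exists_unit v
    have := HodgeSec.finite_HH k hL i
    rw [unit_val, V_mc, h_mc]
    constructor
    · intro _
      exact Module.finrank_zero_of_subsingleton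
    · intro h0
      exact Module.finrank_zero_iff.1 h0
  rw [key, key, h_dual k n hW w hw u m p hmp]

end Rel

theorem chi_eq_three (hd : topologicalKrullDim X ≤ (2 : ℕ)) (u : (MC X)ˣ) :
    chi k (u : MC X) = (h k 0 (u : MC X) : ℤ) - h k 1 (u : MC X) + h k 2 (u : MC X) := by
  obtain ⟨L, hL, rfl⟩ := exists_unit u
  have hco : Co ((unit hL : (MC X)ˣ) : MC X) := by
    rw [unit_val, Co_mc]
    exact HodgeSec.isCoh_of_isInvertible hL
  rw [chi_eq_sum k _ 2 fun i hi => V_of_dim k hco (d := 2)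
    ((Topology.IsInducing.subtypeVal.topologicalKrullDim_le).trans hd) hi]
  rw [Finset.sum_range_succ, Finset.sum_range_succ, Finset.sum_range_one]
  ring

section Surface

variable [SmoothOfRelativeDimension 2 (X ↘ Spec (CommRingCat.of k))] (hd : topologicalKrullDim X ≤ (2 : ℕ))
  {W : X.Modules} (hW : ExtPow.IsExtPow 2 (Omega.sheaf (X ↘ Spec (CommRingCat.of k))) W)
  (w : (MC X)ˣ) (hw : (w : MC X) = mc W)

include hd hW hw

theorem chi_dual (u : (MC X)ˣ) : chi k ((w * u⁻¹ : (MC X)ˣ) : MC X) = chi k (u : MC X) := by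
  rw [chi_eq_three k hd, chi_eq_three k hd, h_dual k 2 hW w hw u 0 2 rfl, h_dual k 2 hW w hw u 1 1 rfl,
    h_dual k 2 hW w hw u 2 0 rfl]
  ring

/-- Riemann-Roch. -/
theorem two_chi (u : (MC X)ˣ) : 2 * chi k (u : MC X) = form k X u u - form k X u w + 2 * chi k (1 : MC X) := by
  have h1 := form_eq k hd u (w * u⁻¹)
  have h2 := chi_dual k hd hW w hw u
  have h3 := chi_dual k hd hW w hw 1
  rw [inv_one, mul_one, Units.val_one] at h3
  have h4 : form k X u (w * u⁻¹) = form k X u w - form k X u u := by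
    rw [form_mul_right k X hd, ← zpow_neg_one, form_zpow_right k X hd]
    ring
  have h5 : u * (w * u⁻¹) = w := by rw [mul_comm, inv_mul_cancel_right]
  rw [h4, h5, h2, h3] at h1
  linarith

end Surface

end K461.SerreCl
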