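import Groth.Agent.Surf.K461.Neg
import Groth.Agent.Lefpen.H121.CurveCartier
import Groth.Agent.Picfga.CurveRelDim
import Groth.Agent.Dix.IdealModCartier
import Groth.Agent.Divis.EffCartier

/-!
# Integral curves on smooth integral proper surfaces as units of the class monoid

`X` integral, smooth and proper over a field `k`, `dim X = 2`, `C` integral closed of dimension one:
* `isEff`: `C` is an effective Cartier divisor; `exists_unit_ideal`: the class of `I_C` is a unit.
* `mc_idealMod_pow`: the class of `I_C^n`.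
* `form_self`, `dg_ideal`: `dg k C [I_C] = -(C·C)`.
-/

set_option autoImplicit false
universe u
open CategoryTheory CategoryTheory.Limits AlgebraicGeometry TopologicalSpace

namespace K461.Curve

open Groth.Agent Groth.Agent.Fga.PicMon Groth.Agent.Fga Groth.Agent.Pic13.H11 Groth.Agent.Pic13.H11.Cls
  Groth.Agent.Fga.HodgeIneq
open Groth.Agent.Fga.HodgeForm K461.Neg

variable {X : Scheme.{u}}

theorem isEff_pow {C : X.IdealSheafData} (hC : BlowUp.IsEffCartierIdeal C) (n : ℕ) :
    BlowUp.IsEffCartierIdeal (C ^ n) := by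
  induction n with
  | zero => rw [pow_zero, Scheme.IdealSheafData.one_eq_top]; exact Divis.EffCartier.isEff_top
  | succ n ih => rw [pow_succ]; exact Divis.EffCartier.isEff_mul ih hC

theorem mc_idealMod_mul {A B : X.IdealSheafData} (hA : BlowUp.IsEffCartierIdeal A)
    (hB : BlowUp.IsEffCartierIdeal B) :
    mc (ClSub.idealMod (A * B)) = mc (ClSub.idealMod A) * mc (ClSub.idealMod B) := by
  rw [← mc_tensor]
  exact ((mc_eq_iff _ _).2 (Dix.IdealModCartier.idealMod_mul hA hB)).symm

theorem isZero_quotMod_top : IsZero (ClSub.quotMod (⊤ : X.IdealSheafData)) := by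
  refine (IsZero.iff_id_eq_zero _).2 ?_
  apply Scheme.Modules.hom_ext
  intro U
  ext s
  have h1 : IsEmpty (⊤ : X.IdealSheafData).subscheme := by
    refine ⟨fun x => ?_⟩
    have h : (⊤ : X.IdealSheafData).subschemeι x ∈ ((⊤ : X.IdealSheafData).support : Set X) := by
      rw [← Scheme.IdealSheafData.range_subschemeι]
      exact ⟨x, rfl⟩
    rw [Scheme.IdealSheafData.support_top] at h
    exact h
  have h2 : Subsingleton Γ((⊤ : X.IdealSheafData).subscheme,
      (⊤ : X.IdealSheafData).subschemeι ⁻¹ᵁ U) := by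
    have : (⊤ : X.IdealSheafData).subschemeι ⁻¹ᵁ U = ⊥ := by
      ext x
      exact (h1.false x).elim
    rw [this]
    infer_instance
  exact h2.elim _ _

theorem mc_idealMod_top : mc (ClSub.idealMod (⊤ : X.IdealSheafData)) = 1 := by
  refine (mc_eq_iff _ _).2 ⟨?_⟩
  have h0 : ClSub.toSubscheme (⊤ : X.IdealSheafData) = 0 := isZero_quotMod_top.eq_of_tgt _ _
  exact (kernelIsoOfEq h0) ≪≫ kernelZeroIsoSource

theorem mc_idealMod_pow {C : X.IdealSheafData} (hC : BlowUp.IsEffCartierIdeal C) (n : ℕ) :
    mc (ClSub.idealMod (C ^ n)) = mc (ClSub.idealMod C) ^ n := by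
  induction n with
  | zero => rw [pow_zero, pow_zero, Scheme.IdealSheafData.one_eq_top, mc_idealMod_top]
  | succ n ih => rw [pow_succ, pow_succ, mc_idealMod_mul (isEff_pow hC n) hC, ih]

section
variable (k : Type u) [Field k] [X.Over (Spec (CommRingCat.of k))]
  [IsProper (X ↘ Spec (CommRingCat.of k))]

include k in
theorem isEff [IsIntegral X] [Smooth (X ↘ Spec (CommRingCat.of k))] (hdim : topologicalKrullDim X = 2)
    {C : X.IdealSheafData} (hCi : IsIntegral C.subscheme)
    (hC1 : topologicalKrullDim (C.support : Set X) = 1) : BlowUp.IsEffCartierIdeal C := by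
  have := Neg.isNoetherian (X := X) k
  have hr : SmoothOfRelativeDimension 2 (X ↘ Spec (CommRingCat.of k)) :=
    Picfga.CurveRelDim.smoothOfRelativeDimension_of_topologicalKrullDim_eq k X _ 2 hdim
  refine Lefpen.H121.CurveCartier.isEffCartierIdeal (X ↘ Spec (CommRingCat.of k)) C fun Z hZ => ?_
  rw [irreducibleComponents_eq_singleton] at hZ
  rw [Set.mem_singleton_iff.1 hZ]
  have h1 : topologicalKrullDim (Set.univ : Set C.subscheme) = topologicalKrullDim C.subscheme :=
    (Homeomorph.Set.univ C.subscheme).isHomeomorph.topologicalKrullDim_eq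
  rw [h1, dim_subscheme, hC1]

include k in
theorem exists_unit_ideal [IsIntegral X] [Smooth (X ↘ Spec (CommRingCat.of k))]
    (hdim : topologicalKrullDim X = 2) {C : X.IdealSheafData} (hCi : IsIntegral C.subscheme)
    (hC1 : topologicalKrullDim (C.support : Set X) = 1) :
    ∃ (hI : PicF.IsInvertible (ClSub.idealMod C)), ((unit hI : (MC X)ˣ) : MC X) = mc (ClSub.idealMod C) :=
  ⟨Dix.IdealModCartier.isInvertible_idealMod (isEff k hdim hCi hC1), unit_val _⟩

end

end K461.Curve
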