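import Groth.Agent.Surf.K461.GG
import Groth.Agent.Surf.K461.Curve
import Groth.Agent.Krr.H484.PnHom
import Groth.Agent.FormalB.TwistGen

/-!
# Surfaces with a morphism to projective space: the class `H = σ^*O(1)`

* `bpf_pull`: `σ^*O(1)` is base point free.
* `subsingleton_of_neg`: `(L·H) < 0` implies `H^0(L) = 0`.
-/

set_option autoImplicit false
universe u
open CategoryTheory CategoryTheory.Limits AlgebraicGeometry TopologicalSpace

namespace K461.PlaneH

open Groth.Agent Groth.Agent.Fga.PicMon Groth.Agent.Fga Groth.Agent.Pic13.H11 Groth.Agent.Pic13.H11.Cls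
  Groth.Agent.Fga.HodgeIneq
open Groth.Agent.Fga.HodgeForm K461.Neg K461.GG

variable {X : Scheme.{u}}

theorem bpf_pull {n : ℕ} {R : Type u} [CommRing R] (σ : X ⟶ CohB1.ProjSpace n R) :
    BPF ((Scheme.Modules.pullback σ).obj (Twist.twistProjSpace n R 1)) := by
  intro x
  have h := Krr.H484.PnHom.iSup_genLocus σ (Iso.refl _)
  have hx : x ∈ (⊤ : X.Opens) := trivial
  rw [← h] at hx
  obtain ⟨i, hi⟩ := Opens.mem_iSup.1 hx
  exact ⟨_, hi⟩

theorem isInvertible_pull {n : ℕ} {R : Type u} [CommRing R] (σ : X ⟶ CohB1.ProjSpace n R) (d : ℤ) :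
    PicF.IsInvertible ((Scheme.Modules.pullback σ).obj (Twist.twistProjSpace n R d)) :=
  Fdesc.LocGen.isInvertible_pullback σ (FormalB.TwistGen.isInvertible_twistProjSpace n R d)

variable (k : Type u) [Field k] [IsAlgClosed k] [X.Over (Spec (CommRingCat.of k))]
  [IsIntegral X] [IsProper (X ↘ Spec (CommRingCat.of k))] (hdim : topologicalKrullDim X ≤ (2 : ℕ))
  {n : ℕ} (σ : X ⟶ CohB1.ProjSpace n k)

include hdim

theorem subsingleton_of_neg {L : X.Modules} (hL : PicF.IsInvertible L)
    (h : FGA.intNum k X 2 ![L, ((Scheme.Modules.pullback σ).obj (Twist.twistProjSpace n k 1))]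
      (Coh.structureModule X) < 0) : Subsingleton (Coh.HH X L 0) := by
  rw [intNum_eq_form k hL (isInvertible_pull σ 1)] at h
  have := V_zero_of_form_neg k hdim (isInvertible_pull σ 1) (bpf_pull σ) h
  rwa [unit_val, V_mc] at this

end K461.PlaneH
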