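import Groth.Agent.Surf.K455.ExcCurve
import Groth.Agent.Surf.K455.CutKer
import Groth.Agent.Divis.RadStalk
import Groth.Agent.Divis.CartierStalk
import Groth.Agent.Divis.CartierBasic
import Groth.Agent.Divis.EffCartier

/-!
# Exceptional curves of the blow-up of a reduced finite set of closed points

* `stalkIdeal_vanishing`: the stalk at `x ∈ T` of the ideal of a closed set `T` of closed points is the maximal ideal.
* `isEff_comap_pt`: `m_x · O_W` is an effective Cartier ideal for the blow-up `W` of `T`, `x ∈ T`.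
* `exists_curve`: it is the ideal of a closed immersion `P¹_{κ(x)} ⟶ W`, with conormal module `O(1)`.
-/

set_option autoImplicit false
universe u
open CategoryTheory CategoryTheory.Limits AlgebraicGeometry TopologicalSpace Opposite

namespace K461.ExcPts

open Groth.Agent Groth.Agent.CurvesC.BlowUpCharts Groth.Agent.Dix Groth.Agent.Dix.ExcP1 Groth.Agent.Dix.PointIdeal
  Groth.Agent.Dix.ExcCurve Groth.Agent.Divis.CartierBasic

theorem radical_vanishing {X : Scheme.{u}} (T : Closeds X) :
    (Scheme.IdealSheafData.vanishingIdeal T).radical = Scheme.IdealSheafData.vanishingIdeal T := by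
  rw [← Scheme.IdealSheafData.vanishingIdeal_support]
  exact congrArg _ (TopologicalSpace.Closeds.ext (Scheme.IdealSheafData.coe_support_vanishingIdeal T))

theorem stalkIdeal_vanishing {X : Scheme.{u}} (T : Closeds X) (hT : ∀ x ∈ (T : Set X), IsClosed ({x} : Set X))
    (x : X) (hx : x ∈ (T : Set X)) :
    stalkIdeal (Scheme.IdealSheafData.vanishingIdeal T) x = IsLocalRing.maximalIdeal (X.presheaf.stalk x) := by
  have hsupp : ∀ z : X, z ∈ (Scheme.IdealSheafData.vanishingIdeal T).support ↔ z ∈ (T : Set X) := by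
    intro z
    change z ∈ (((Scheme.IdealSheafData.vanishingIdeal T).support : Closeds X) : Set X) ↔ _
    rw [Scheme.IdealSheafData.coe_support_vanishingIdeal]
  refine le_antisymm ((mem_support_iff_stalkIdeal_le _ x).1 ((hsupp x).2 hx)) ?_
  have hr := Divis.RadStalk.stalkIdeal_isRadical _ (radical_vanishing T) x
  rw [← hr.radical, Ideal.radical_eq_sInf]
  refine le_sInf fun q hq => ?_
  have hq' : q.IsPrime := hq.2
  let Q : PrimeSpectrum (X.presheaf.stalk x) := ⟨q, hq'⟩
  have h1 : X.fromSpecStalk x Q ∈ (Scheme.IdealSheafData.vanishingIdeal T).support :=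
    (fromSpecStalk_mem_support_iff _ x Q).2 hq.1
  have h2 := hT _ ((hsupp _).1 h1)
  have h3 : X.fromSpecStalk x Q ⤳ x := by
    have h := Set.mem_range_self (f := X.fromSpecStalk x) Q
    rwa [Scheme.range_fromSpecStalk] at h
  have h4 : x = X.fromSpecStalk x Q := by
    have h5 := h3.mem_closure
    rw [h2.closure_eq] at h5
    exact h5
  have h6 : X.fromSpecStalk x Q = X.fromSpecStalk x (IsLocalRing.closedPoint (X.presheaf.stalk x)) := by
    rw [Scheme.fromSpecStalk_closedPoint]
    exact h4.symm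
  have h7 : Q = IsLocalRing.closedPoint (X.presheaf.stalk x) :=
    (X.fromSpecStalk x).isEmbedding.injective h6
  have h8 : q = IsLocalRing.maximalIdeal (X.presheaf.stalk x) := congrArg PrimeSpectrum.asIdeal h7
  exact h8.ge

theorem comap_fromSpecStalk_eq {X : Scheme.{u}} (T : Closeds X) (hT : ∀ x ∈ (T : Set X), IsClosed ({x} : Set X))
    (x : X) (hx : x ∈ (T : Set X)) (hxc : IsClosed ({x} : Set X)) :
    (Scheme.IdealSheafData.vanishingIdeal T).comap (X.fromSpecStalk x) = (pt x hxc).comap (X.fromSpecStalk x) := by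
  rw [comap_fromSpecStalk, comap_fromSpecStalk_pt, stalkIdeal_vanishing T hT x hx]

theorem isEff_comap_pt {V W : Scheme.{u}} [IsLocallyNoetherian W] (π : W ⟶ V) (T : Closeds V)
    (hT : ∀ x ∈ (T : Set V), IsClosed ({x} : Set V))
    (hπ : BlowUp.IsBlowUp π (Scheme.IdealSheafData.vanishingIdeal T)) (x : V) (hx : x ∈ (T : Set V))
    (hxc : IsClosed ({x} : Set V)) : BlowUp.IsEffCartierIdeal ((pt x hxc).comap π) := by
  rw [isEffCartierIdeal_iff_stalkIdeal]
  intro w
  by_cases hw : π w = x
  · obtain ⟨g, hg, hg'⟩ := (isEffCartierIdeal_iff_stalkIdeal _).1 hπ.1 w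
    refine ⟨g, hg, ?_⟩
    have hkey : stalkIdeal (pt x hxc) (π w) = stalkIdeal (Scheme.IdealSheafData.vanishingIdeal T) (π w) := by
      rw [hw, stalkIdeal_pt, stalkIdeal_vanishing T hT x hx]
    rw [← hg', Divis.CartierStalk.stalkIdeal_comap, Divis.CartierStalk.stalkIdeal_comap, hkey]
  · refine ⟨1, one_mem _, ?_⟩
    rw [Ideal.span_singleton_one, ← notMem_support_iff_stalkIdeal_eq_top]
    intro h
    rw [Scheme.IdealSheafData.support_comap] at h
    exact hw ((mem_support_pt x hxc (π w)).1 h)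

/-- **The exceptional curves.** -/
theorem exists_curve {V W : Scheme.{u}} (π : W ⟶ V) (x : V) (hx : IsClosed ({x} : Set V))
    [IsRegularLocalRing (V.presheaf.stalk x)] (hdim : ringKrullDim (V.presheaf.stalk x) = 2)
    (J : V.IdealSheafData) (hπ : BlowUp.IsBlowUp π J)
    (hJ : J.comap (V.fromSpecStalk x) = (pt x hx).comap (V.fromSpecStalk x))
    (hD : BlowUp.IsEffCartierIdeal ((pt x hx).comap π)) :
    ∃ (i : CohB1.ProjSpace 1 (V.presheaf.stalk x ⧸ IsLocalRing.maximalIdeal (V.presheaf.stalk x)) ⟶ W),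
      IsClosedImmersion i ∧ i.ker = (pt x hx).comap π ∧
      i ≫ π = CohB1.ProjSpace.toSpec 1 (V.presheaf.stalk x ⧸ IsLocalRing.maximalIdeal (V.presheaf.stalk x)) ≫
        Spec.map (CommRingCat.ofHom (Ideal.Quotient.mk (IsLocalRing.maximalIdeal (V.presheaf.stalk x)))) ≫
          V.fromSpecStalk x ∧
      Nonempty ((Scheme.Modules.pullback i).obj (ClSub.idealMod i.ker) ≅
        Twist.twistProjSpace 1 (V.presheaf.stalk x ⧸ IsLocalRing.maximalIdeal (V.presheaf.stalk x)) 1) := by
  let j : Spec (CommRingCat.of (V.presheaf.stalk x)) ⟶ V := V.fromSpecStalk x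
  have hflat : Flat j := Groth.Agent.VarietyA.FlatStalk.flat_fromSpecStalk V x
  have hb := Groth.Agent.S1680.result j J π hπ
  rw [hJ, comap_fromSpecStalk_pt] at hb
  let b : pullback j π ⟶ Spec (CommRingCat.of (V.presheaf.stalk x)) := pullback.fst j π
  let p := pullback.snd j π
  let D := (pt x hx).comap π
  have hcomap : (Curv2.idealSheaf (V.presheaf.stalk x) (IsLocalRing.maximalIdeal (V.presheaf.stalk x))).comap b =
      D.comap p := by
    rw [← comap_fromSpecStalk_pt x hx, ← Scheme.IdealSheafData.comap_comp, ← Scheme.IdealSheafData.comap_comp]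
    congr 1
    exact pullback.condition
  let i₀ := pullback.fst p D.subschemeι
  have hi₀ : i₀.ker = excI b (IsLocalRing.maximalIdeal (V.presheaf.stalk x)) := by
    rw [Scheme.IdealSheafData.ker_fst_of_isClosedImmersion, Scheme.IdealSheafData.ker_subschemeι]
    exact hcomap.symm
  obtain ⟨e, hstr, ⟨φ⟩⟩ := K455.ExcCurve.exists_iso_local (V.presheaf.stalk x) hdim hb i₀ hi₀
  have hiso : IsIso (pullback.snd p D.subschemeι) := by
    have h1 : IsPullback (i₀ ≫ b) (pullback.snd p D.subschemeι) j (D.subschemeι ≫ π) :=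
      (IsPullback.of_hasPullback p D.subschemeι).paste_horiz (IsPullback.of_hasPullback j π)
    obtain ⟨t, ht⟩ := exists_pt_lift x hx
    refine isIso_snd_of_mono h1 ((((pt x hx).comapIso π).hom ≫ pullback.snd _ _) ≫ t) ?_
    rw [Category.assoc, ht, Category.assoc, ← pullback.condition]
    rw [Scheme.IdealSheafData.comapIso_hom_fst_assoc]
  have hfac : i₀ ≫ p = pullback.snd p D.subschemeι ≫ D.subschemeι := pullback.condition
  have hcl : IsClosedImmersion (e.inv ≫ i₀ ≫ p) := by
    rw [hfac]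
    infer_instance
  have hker : (e.inv ≫ i₀ ≫ p).ker = D := by
    rw [Scheme.Hom.ker_comp_of_isIso, hfac, Scheme.Hom.ker_comp_of_isIso, Scheme.IdealSheafData.ker_subschemeι]
  have hD' : BlowUp.IsEffCartierIdeal (D.comap p) := by rw [← hcomap]; exact hb.1
  obtain ⟨ψ⟩ := IdealModCartier.pullback_idealMod p hD hD'
  rw [← hcomap] at ψ
  refine ⟨e.inv ≫ i₀ ≫ p, hcl, hker, ?_, ⟨?_⟩⟩
  · have h2 : p ≫ π = b ≫ j := pullback.condition.symm
    rw [Category.assoc, Category.assoc, h2, reassoc_of% hstr, e.inv_hom_id_assoc]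
  rw [hker]
  refine (Scheme.Modules.pullbackComp e.inv (i₀ ≫ p)).symm.app _ ≪≫ ?_
  refine (Scheme.Modules.pullback e.inv).mapIso ((Scheme.Modules.pullbackComp i₀ p).symm.app _) ≪≫ ?_
  refine (Scheme.Modules.pullback e.inv).mapIso ((Scheme.Modules.pullback i₀).mapIso ψ ≪≫ φ.symm) ≪≫ ?_
  refine (Scheme.Modules.pullbackComp e.inv e.hom).app _ ≪≫ ?_
  refine (Scheme.Modules.pullbackCongr e.inv_hom_id).app _ ≪≫ ?_
  exact (Scheme.Modules.pullbackId _).app _

end K461.ExcPts
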