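import Groth.Agent.Surf.K461.PencilMain
import Groth.Agent.Surf.K443.PicGen

/-!
# The setting of the rows on projections of blow-ups of the plane

* `exists_class`: every class is `h^a ∏ x^n`.
* `exists_num'`: the numerical data together with the class of `π^*O(1)`.
* `R1_zero`: `R¹π_*L = 0` under the multiplicity bounds.
-/

set_option autoImplicit false
universe u
open CategoryTheory CategoryTheory.Limits AlgebraicGeometry TopologicalSpace

namespace K461.PencilS

open Groth.Agent Groth.Agent.Fga.PicMon Groth.Agent.Fga Groth.Agent.Pic13.H11 Groth.Agent.Pic13.H11.Cls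
  Groth.Agent.Fga.HodgeIneq
open Groth.Agent.Fga.HodgeForm K461.Neg K461.GG K461.PlaneH K461.SerreCl K461.Plane K461.PlaneE K461.LineC
open K461.PencilR K461.PencilMain
open K464.Curves (IsCurve)

theorem unit_pull (k : Type u) [Field k] {X : Scheme.{u}} (σ : X ⟶ CohB1.ProjSpace 2 k) (d : ℤ) :
    unit (isInvertible_pull σ d) = hcl k σ ^ d := by
  let φ : Multiplicative ℤ →* (MC X)ˣ := MonoidHom.mk' (fun n => unit (isInvertible_pull σ n.toAdd)) (by
    intro a b
    apply Units.ext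
    rw [Units.val_mul, unit_val, unit_val, unit_val, toAdd_mul]
    exact mc_pull_mul k σ _ _)
  have h := map_zpow φ (Multiplicative.ofAdd 1) d
  rw [← ofAdd_zsmul, smul_eq_mul, mul_one] at h
  exact h

theorem congr_unit {X : Scheme.{u}} {L M : X.Modules} (hL : PicF.IsInvertible L) (hM : PicF.IsInvertible M)
    (e : L = M) : unit hL = unit hM := by
  subst e; rfl

variable (k : Type u) [Field k] [IsAlgClosed k] {r : ℕ} {P : Fin r → ↥(CohB1.ProjSpace 2 k)}
  (hP : Function.Injective P)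
  (hPc : ∀ i, IsClosed ({P i} : Set ↥(CohB1.ProjSpace 2 k))) (hZ : IsClosed (Set.range P))
  {X : Scheme.{u}} [X.Over (Spec (CommRingCat.of k))] (σ : X ⟶ CohB1.ProjSpace 2 k)
  (hσk : σ ≫ CohB1.ProjSpace.toSpec 2 k = X ↘ (Spec (CommRingCat.of k)))
  (hσ : BlowUp.IsBlowUp σ (Scheme.IdealSheafData.vanishingIdeal ⟨Set.range P, hZ⟩))
  [IsIntegral X] [IsProper (X ↘ (Spec (CommRingCat.of k)))] [Smooth (X ↘ (Spec (CommRingCat.of k)))]
  (hdim : topologicalKrullDim X = 2)

omit [Smooth (X ↘ (Spec (CommRingCat.of k)))] in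
include hσ in
/-- Every class on the blow-up of the plane. -/
theorem exists_class {w : (MC X)ˣ} {x : Fin r → (MC X)ˣ} (N : Num k (hcl k σ) w (exc k hPc σ) x) (v : (MC X)ˣ) :
    ∃ (a : ℤ) (n : Fin r → ℤ), v = hcl k σ ^ a * bb x n := by
  have hN := Neg.isNoetherian (X := X) k
  obtain ⟨L, hL, rfl⟩ := exists_unit v
  have hE := isEff_exc k hPc hZ σ hσ
  obtain ⟨d, n, h⟩ := K443.PicGen.exists_plane k hPc hZ σ hσ hE N.int (Grpsch.PicGrp.mk L hL)
  refine ⟨d, n, ?_⟩
  have h2 := congrArg (K443.PicGen.toU X) h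
  rw [K443.PicGen.toU_mk, map_mul, map_prod, Grpsch.PicGrp.pull_mk, K443.PicGen.toU_mk] at h2
  rw [h2]
  congr 1
  · exact unit_pull k σ d
  · unfold bb
    refine Finset.prod_congr rfl fun i _ => ?_
    rw [map_zpow]
    congr 1
    apply Units.ext
    rw [N.val i]
    exact unit_val (Dix.IdealModCartier.isInvertible_idealMod (hE i))

section

variable {w : (MC X)ˣ} {x : Fin r → (MC X)ˣ} (N : Num k (hcl k σ) w (exc k hPc σ) x) (j : Fin r)
  (π : X ⟶ CohB1.ProjSpace 1 k)
  (hπ : Nonempty (((Scheme.Modules.pullback π).obj (Twist.twistProjSpace 1 k 1)) ≅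
    CohB1.tensorMod ((Scheme.Modules.pullback σ).obj (Twist.twistProjSpace 2 k 1)) (ClSub.idealMod (exc k hPc σ j))))

include N hπ

omit [Smooth (X ↘ (Spec (CommRingCat.of k)))] in
/-- The class of a fibre. -/
theorem fib_eq : hcl k σ * x j = unit (isInvertible_pull π 1) := by
  apply Units.ext
  obtain ⟨e⟩ := hπ
  rw [Units.val_mul, N.val, hcl, unit_val, unit_val, ← mc_tensor]
  exact (mc_eq e).symm

omit [Smooth (X ↘ (Spec (CommRingCat.of k)))] in
theorem fib_val : ((hcl k σ * x j : (MC X)ˣ) : MC X) =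
    mc ((Scheme.Modules.pullback π).obj (Twist.twistProjSpace 1 k 1)) := by
  rw [fib_eq k hPc σ N j π hπ, unit_val]

end

/-- The numbers of a module. -/
theorem num_of_class {w : (MC X)ˣ} {x : Fin r → (MC X)ˣ} (N : Num k (hcl k σ) w (exc k hPc σ) x) {L : X.Modules}
    (hL : PicF.IsInvertible L) {a : ℤ} {n : Fin r → ℤ} (h : unit hL = hcl k σ ^ a * bb x n) :
    FGA.intNum k X 2 ![L, ((Scheme.Modules.pullback σ).obj (Twist.twistProjSpace 2 k 1))] (Coh.structureModule X) = a ∧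
    ∀ i, Curv2.euler k X (CohB1.tensorMod (ClSub.quotMod (exc k hPc σ i)) L) -
      Curv2.euler k X (ClSub.quotMod (exc k hPc σ i)) = n i := by
  refine ⟨?_, fun i => ?_⟩
  · rw [intNum_eq_form k hL (isInvertible_pull σ 1), h]
    exact form_gen_h N a n
  · rw [← dg_unit k _ hL, h, dg_eq_neg_form k (hd2 N) _ (N.val i), form_gen_x N, neg_neg]

include hP hPc hZ hσk hσ hdim in
/-- **`R¹π_*L = 0`.** -/
theorem R1_zero
    (hlin : ∀ (a b c : Fin r), a ≠ b → b ≠ c → a ≠ c → ∀ (hc : IsClosed ({P a, P b, P c} : Set ↥(CohB1.ProjSpace 2 k))),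
      Subsingleton (Coh.HH (CohB1.ProjSpace 2 k) (CohB1.tensorMod (Twist.twistProjSpace 2 k 1)
        (ClSub.idealMod (Scheme.IdealSheafData.vanishingIdeal ⟨{P a, P b, P c}, hc⟩))) 0))
    [HasInjectiveResolutions X.Modules] (j : Fin r)
    (π : X ⟶ CohB1.ProjSpace 1 k) (hπk : π ≫ CohB1.ProjSpace.toSpec 1 k = X ↘ (Spec (CommRingCat.of k)))
    (hπ : Nonempty (((Scheme.Modules.pullback π).obj (Twist.twistProjSpace 1 k 1)) ≅
      CohB1.tensorMod ((Scheme.Modules.pullback σ).obj (Twist.twistProjSpace 2 k 1)) (ClSub.idealMod (exc k hPc σ j))))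
    (L : X.Modules) (hL : PicF.IsInvertible L)
    (hnum : ∀ i : Fin r, (Curv2.euler k X (CohB1.tensorMod (ClSub.quotMod (exc k hPc σ i)) L) - Curv2.euler k X (ClSub.quotMod (exc k hPc σ i))) + (Curv2.euler k X (CohB1.tensorMod (ClSub.quotMod (exc k hPc σ j)) L) - Curv2.euler k X (ClSub.quotMod (exc k hPc σ j))) ≤ FGA.intNum k X 2 ![L, ((Scheme.Modules.pullback σ).obj (Twist.twistProjSpace 2 k 1))] (Coh.structureModule X) ∧ -1 ≤ (Curv2.euler k X (CohB1.tensorMod (ClSub.quotMod (exc k hPc σ i)) L) - Curv2.euler k X (ClSub.quotMod (exc k hPc σ i)))) :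
    IsZero ((Coh.Rpush π 1).obj L) := by
  obtain ⟨w, x, N⟩ := exists_num k hP hPc hZ σ hσk hσ hdim
  obtain ⟨a, n, hv⟩ := exists_class k hPc hZ σ hσ N (unit hL)
  obtain ⟨ha, hn⟩ := num_of_class k hPc σ N hL hv
  rw [ha] at hnum
  simp only [hn] at hnum
  have hjj := hnum j
  have hEV := EV_of_hlin k hPc hZ σ hσk hσ hlin N j (isInvertible_pull π 1) (bpf_pull π) (fib_eq k hPc σ N j π hπ) a n
    (fun i _ => hnum i) (by omega)
  refine isZero_rpush k π hπk (fib_val k hPc σ N j π hπ) (v := hcl k σ ^ a * bb x n) (by rw [← hv, unit_val]) 1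
    (HodgeSec.isCoh_of_isInvertible hL) hEV

end K461.PencilS
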