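import Groth.Agent.Surf.K461.PencilS
import Groth.Agent.Surf.K443.P1Push

/-!
# Direct images on `P¹` for the pencil of lines through one point

* `mc_pull_zpow`: the classes of `π^*O(n)`.
* `dominant`: `π` is dominant if `π^*O(1)` has nonzero degree against some class.
* `h0_push`, `h1_push`: cohomology of `π_*L(n)`.
* `rank_push`: `π_*L` is finite locally free of rank `a - n_j + 1`.
-/

set_option autoImplicit false
universe u
open CategoryTheory CategoryTheory.Limits AlgebraicGeometry TopologicalSpace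

namespace K461.PencilP

open Groth.Agent Groth.Agent.Fga.PicMon Groth.Agent.Fga Groth.Agent.Pic13.H11 Groth.Agent.Pic13.H11.Cls
  Groth.Agent.Fga.HodgeIneq
open Groth.Agent.Fga.HodgeForm K461.Neg K461.GG K461.PlaneH K461.SerreCl K461.Plane K461.PlaneE K461.LineC
open K461.PencilR K461.PencilMain K461.PencilS
open K464.Curves (IsCurve)
open K443.P1V (O)
open K700.HDim (fr)

section push

variable (k : Type u) [Field k] {X : Scheme.{u}} (π : X ⟶ CohB1.ProjSpace 1 k)
  {f : (MC X)ˣ} (hf : (f : MC X) = mc ((Scheme.Modules.pullback π).obj (O k 1)))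

include hf in
/-- The classes of `π^*O(n)`. -/
theorem mc_pull_zpow (n : ℤ) : mc ((Scheme.Modules.pullback π).obj (O k n)) = ((f ^ n : (MC X)ˣ) : MC X) := by
  let φ : Multiplicative ℤ →* (MC X)ˣ := MonoidHom.mk' (fun n => unit (isInvertible_pull π n.toAdd)) (by
    intro a b
    apply Units.ext
    rw [Units.val_mul, unit_val, unit_val, unit_val, toAdd_mul, ← mc_tensor]
    obtain ⟨e⟩ := Sga67.SerreVB.nonempty_twist_mul 1 k a.toAdd b.toAdd
    obtain ⟨e'⟩ := Dix.IdealModCartier.pullback_tensorMod π (FormalB.TwistGen.isInvertible_twistProjSpace 1 k a.toAdd)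
      (FormalB.TwistGen.isInvertible_twistProjSpace 1 k b.toAdd)
    exact mc_eq (((Scheme.Modules.pullback π).mapIso e).symm ≪≫ e'))
  have h := map_zpow φ (Multiplicative.ofAdd 1) n
  rw [← ofAdd_zsmul, smul_eq_mul, mul_one] at h
  have h1 : φ (Multiplicative.ofAdd 1) = f := Units.ext (by rw [hf]; exact unit_val (isInvertible_pull π 1))
  rw [h1] at h
  rw [← h]
  exact (unit_val (isInvertible_pull π n)).symm

variable [X.Over (Spec (CommRingCat.of k))] [IsProper (X ↘ (Spec (CommRingCat.of k)))]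
  (hπk : π ≫ CohB1.ProjSpace.toSpec 1 k = X ↘ (Spec (CommRingCat.of k)))

include hπk in
theorem isProper_pi : IsProper π := by
  have := K443.P1Push.isProper_P1 k
  exact K443.Fib.isProper_π k π hπk

include hf hπk in
/-- `π` is dominant. -/
theorem dominant [IsIntegral X] (hd : topologicalKrullDim X ≤ (2 : ℕ)) (g : (MC X)ˣ) (hg : form k X f g ≠ 0) :
    IsDominant π := by
  have hp := isProper_pi k π hπk
  by_contra hdom
  have hr : IsClosed (Set.range π) := π.isClosedMap.isClosed_range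
  have hne : ((Set.range π)ᶜ : Set (CohB1.ProjSpace 1 k)).Nonempty := by
    rw [Set.nonempty_compl]
    intro h
    apply hdom
    refine ⟨?_⟩
    rw [DenseRange, h]
    exact dense_univ
  have hP1 := K443.P1Push.isProper_P1 k
  have hJ : JacobsonSpace (CohB1.ProjSpace 1 k) :=
    LocallyOfFiniteType.jacobsonSpace (CohB1.ProjSpace 1 k ↘ Spec (CommRingCat.of k))
  obtain ⟨q, hqr, hq⟩ := nonempty_inter_closedPoints hne hr.isOpen_compl.isLocallyClosed
  rw [mem_closedPoints_iff] at hq
  obtain ⟨e, he, ⟨i⟩⟩ := K443.P1Push.point_twist k q hq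
  have htop : (Scheme.IdealSheafData.vanishingIdeal ⟨{q}, hq⟩).comap π = ⊤ := by
    rw [← Scheme.IdealSheafData.support_eq_bot_iff]
    apply Closeds.ext
    rw [Scheme.IdealSheafData.support_comap]
    ext y
    constructor
    · intro hy
      exfalso
      apply hqr
      have h2 : π y ∈ ((Scheme.IdealSheafData.vanishingIdeal ⟨{q}, hq⟩).support : Set (CohB1.ProjSpace 1 k)) := hy
      rw [Scheme.IdealSheafData.coe_support_vanishingIdeal] at h2
      exact ⟨y, h2⟩
    · intro hy
      exact absurd hy (by simp)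
  have hE : BlowUp.IsEffCartierIdeal ((Scheme.IdealSheafData.vanishingIdeal ⟨{q}, hq⟩).comap π) := by
    rw [htop]
    exact Divis.EffCartier.isEff_top
  obtain ⟨i'⟩ := Dix.IdealModCartier.pullback_idealMod π (K443.P1Push.isEff_pt k q hq) hE
  have h1 : ((f ^ (-e) : (MC X)ˣ) : MC X) = 1 := by
    rw [← mc_pull_zpow k π hf (-e), ← mc_eq ((Scheme.Modules.pullback π).mapIso i), mc_eq i', htop]
    exact Curve.mc_idealMod_top
  have h2 : f ^ (-e) = 1 := Units.ext h1
  have h3 := form_zpow_left k X hd f g (-e)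
  have h4 := form_zpow_left k X hd 1 g 0
  rw [one_zpow, zero_mul] at h4
  rw [h2, h4] at h3
  rcases mul_eq_zero.1 h3.symm with h5 | h5
  · omega
  · exact hg h5

variable [HasInjectiveResolutions X.Modules] {L : X.Modules} {v : (MC X)ˣ} (hv : (v : MC X) = mc L)

omit [X.Over (Spec (CommRingCat.of k))] [IsProper (X ↘ (Spec (CommRingCat.of k)))]
  [HasInjectiveResolutions X.Modules] in
include hf hv in
theorem mc_twist (n : ℤ) : mc (CohB1.tensorMod L ((Scheme.Modules.pullback π).obj (O k n))) =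
    ((f ^ n * v : (MC X)ˣ) : MC X) := by
  rw [mc_tensor, mc_pull_zpow k π hf n, ← hv, Units.val_mul, mul_comm]

include hf hπk hv in
theorem h0_push (n : ℤ) : fr k (CohB1.tensorMod ((Coh.push π).obj L) (O k n)) 0 =
    Cls.h k 0 ((f ^ n * v : (MC X)ˣ) : MC X) := by
  have hP1 := K443.P1Push.isProper_P1 k
  obtain ⟨e⟩ := K443.Fib.push_tensor π L (E := O k n)
    (K443.Fib.isFinLocFree_of_isInvertible (K443.P1Push.isInvertible_O k n))
  rw [← mc_twist k π hf hv n, h_mc, ← K700.HDim.fr_iso k e 0]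
  exact (K443.Fib.h0 k π hπk _).symm

include hf hπk hv in
theorem h1_push (hL : PicF.IsInvertible L) (hR : IsZero ((Coh.Rpush π 1).obj L)) (n : ℤ) :
    fr k (CohB1.tensorMod ((Coh.push π).obj L) (O k n)) 1 = Cls.h k 1 ((f ^ n * v : (MC X)ˣ) : MC X) := by
  have hP1 := K443.P1Push.isProper_P1 k
  have hO := K443.P1Push.isInvertible_O k n
  have hE := K443.Fib.isFinLocFree_of_isInvertible hO
  obtain ⟨e⟩ := K443.Fib.push_tensor π L (E := O k n) hE
  rw [← mc_twist k π hf hv n, h_mc, ← K700.HDim.fr_iso k e 1]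
  refine (K443.Fib.h1 k (K443.P1Push.dim_P1 k).le π hπk (HodgeSec.isCoh_of_isInvertible ?_)
    (K443.Fib.isZero_R_tensor π L hE 1 hR)).symm
  exact Fdesc.LocGen.isInvertible_tensorMod hL (isInvertible_pull π n)

include hf hπk hv in
theorem h0_push_zero : fr k ((Coh.push π).obj L) 0 = Cls.h k 0 (v : MC X) := by
  have hP1 := K443.P1Push.isProper_P1 k
  rw [hv, h_mc]
  exact (K443.Fib.h0 k π hπk _).symm

end push

/-- The rank of a sum of twists. -/
theorem card_eq' {k : Type u} [Field k] {ι : Type} [Fintype ι] {a : ι → ℤ} {V : (CohB1.ProjSpace 1 k).Modules}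
    (e : Nonempty (V ≅ ∐ fun j => O k (a j))) (n : ℤ) :
    (Fintype.card ι : ℤ) = ((fr k (CohB1.tensorMod V (O k (n + 1))) 0 : ℤ) - fr k (CohB1.tensorMod V (O k (n + 1))) 1) -
    ((fr k (CohB1.tensorMod V (O k n)) 0 : ℤ) - fr k (CohB1.tensorMod V (O k n)) 1) := by
  rw [K443.P1V.h0_sum e, K443.P1V.h1_sum e, K443.P1V.h0_sum e, K443.P1V.h1_sum e, ← Finset.sum_sub_distrib,
    ← Finset.sum_sub_distrib, ← Finset.sum_sub_distrib]
  rw [Finset.sum_congr rfl (g := fun _ => (1 : ℤ)) (fun j _ => by omega)]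
  simp

section split

variable (k : Type u) [Field k] {X : Scheme.{u}} [X.Over (Spec (CommRingCat.of k))] [IsIntegral X]
  [IsProper (X ↘ (Spec (CommRingCat.of k)))] (π : X ⟶ CohB1.ProjSpace 1 k)
  (hπ : π ≫ CohB1.ProjSpace.toSpec 1 k = X ↘ (Spec (CommRingCat.of k))) [IsDominant π]

include hπ in
/-- The direct image of an invertible module splits. -/
theorem exists_split' [HasInjectiveResolutions X.Modules] {L : X.Modules} (hL : PicF.IsInvertible L) :
    ∃ (r : ℕ) (a : Fin r → ℤ), FlatMod.IsFinLocFreeOfRank r ((Coh.push π).obj L) ∧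
      Nonempty ((Coh.push π).obj L ≅ ∐ fun j => O k (a j)) := by
  have := K443.P1Push.isProper_P1 k
  have hp : IsProper π := K443.Fib.isProper_π k π hπ
  have hX : IsLocallyNoetherian X := LocallyOfFiniteType.isLocallyNoetherian (X ↘ (Spec (CommRingCat.of k)))
  have hLv : FlatMod.IsFinLocFree L := K443.Fib.isFinLocFree_of_isInvertible hL
  have hcoh : Coh.IsCoh L := K707.Slope.coh_of_vb hLv
  have hLq := hcoh.1
  have hpc : Coh.IsCoh ((Coh.push π).obj L) := K707.Slope.coh_iso (K443.Fib.zeroIso π L) (S0036.result π L hcoh 0)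
  have ht : TorSh.IsTorsionFree ((Coh.push π).obj L) :=
    S2288.result π L (K707.Base.isTorsionFree_of_isFinLocFree hLv)
  have hv := K707.Slope.vb_of_torsionFree (K443.P1Push.crv_P1 k) hpc ht
  have hr := K707.Base.isFinLocFreeOfRank_rk hv
  obtain ⟨a, ⟨-, ha⟩, -⟩ := S7797.result k _ _ hr
  exact ⟨_, a, hr, ha⟩

end split

section main

variable (k : Type u) [Field k] [IsAlgClosed k] {X : Scheme.{u}} [X.Over (Spec (CommRingCat.of k))] [IsIntegral X]
  [IsProper (X ↘ (Spec (CommRingCat.of k)))] [Smooth (X ↘ (Spec (CommRingCat.of k)))] {r : ℕ}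
  {g w : (MC X)ˣ} {E : Fin r → X.IdealSheafData} {x : Fin r → (MC X)ˣ} (N : Num k g w E x) (j : Fin r)
  (π : X ⟶ CohB1.ProjSpace 1 k)
  (hπk : π ≫ CohB1.ProjSpace.toSpec 1 k = X ↘ (Spec (CommRingCat.of k)))
  (hf : ((g * x j : (MC X)ˣ) : MC X) = mc ((Scheme.Modules.pullback π).obj (O k 1)))

include N hπk hf

omit [IsAlgClosed k] [Smooth (X ↘ (Spec (CommRingCat.of k)))] in
theorem isDominant : IsDominant π :=
  dominant k π hf hπk (hd2 N) g (by rw [f_g N j]; norm_num)

variable [HasInjectiveResolutions X.Modules]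

/-- **The direct image splits, with the expected rank.** -/
theorem split_push {L : X.Modules} (hL : PicF.IsInvertible L) (v : (MC X)ˣ) (hv : (v : MC X) = mc L)
    (hR : IsZero ((Coh.Rpush π 1).obj L)) : ∃ (ρ : ℕ) (a : Fin ρ → ℤ), (ρ : ℤ) = form k X (g * x j) v + 1 ∧
    FlatMod.IsFinLocFreeOfRank ρ ((Coh.push π).obj L) ∧ Nonempty ((Coh.push π).obj L ≅ ∐ fun j => O k (a j)) := by
  have hdom := isDominant k N j π hπk hf
  obtain ⟨ρ, a, hρ, e⟩ := exists_split' k π hπk hL
  have hd := hd2 N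
  refine ⟨ρ, a, ?_, hρ, e⟩
  -- a large twist
  set f := g * x j with hfdef
  obtain ⟨n, hnd⟩ : ∃ n : ℤ, n = - form k X v g := ⟨_, rfl⟩
  have h1 := card_eq' e n
  rw [h0_push k π hf hπk hv, h0_push k π hf hπk hv, h1_push k π hf hπk hv hL hR,
    h1_push k π hf hπk hv hL hR, Fintype.card_fin] at h1
  have h2 : ∀ m : ℤ, n ≤ m → Cls.h k 2 ((f ^ m * v : (MC X)ˣ) : MC X) = 0 := fun m hm => by
    refine h_eq_zero k (N.v2 _ ?_)
    rw [form_zpow_mul N, f_g N j]
    omega
  have h3 := chi_eq_three k hd (f ^ (n + 1) * v)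
  have h4 := chi_eq_three k hd (f ^ n * v)
  rw [h2 _ (by omega)] at h3
  rw [h2 _ le_rfl] at h4
  have h5 := N.rr (f ^ (n + 1) * v)
  have h6 := N.rr (f ^ n * v)
  have h7 : form k X (f ^ (n + 1) * v) (f ^ (n + 1) * v) = 2 * (n + 1) * form k X f v + form k X v v := by
    rw [form_zpow_mul N, form_comm k X f, form_comm k X v, form_zpow_mul N, form_zpow_mul N, f_f N j,
      form_comm k X v f]
    ring
  have h8 : form k X (f ^ n * v) (f ^ n * v) = 2 * n * form k X f v + form k X v v := by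
    rw [form_zpow_mul N, form_comm k X f, form_comm k X v, form_zpow_mul N, form_zpow_mul N, f_f N j,
      form_comm k X v f]
    ring
  rw [h7, form_zpow_mul N, f_w N j] at h5
  rw [h8, form_zpow_mul N, f_w N j] at h6
  rw [Nat.cast_zero] at h3 h4
  linarith

/-- **The rank of the direct image.** -/
theorem rank_push {L : X.Modules} (hL : PicF.IsInvertible L) (v : (MC X)ˣ) (hv : (v : MC X) = mc L)
    (hR : IsZero ((Coh.Rpush π 1).obj L)) :
    FlatMod.IsFinLocFreeOfRank (form k X (g * x j) v + 1).toNat ((Coh.push π).obj L) := by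
  obtain ⟨ρ, a, H, hρ, -⟩ := split_push k N j π hπk hf hL v hv hR
  rw [← H, Int.toNat_natCast]
  exact hρ

end main

section plane

variable (k : Type u) [Field k] [IsAlgClosed k] {r : ℕ} {P : Fin r → ↥(CohB1.ProjSpace 2 k)}
  (hP : Function.Injective P)
  (hPc : ∀ i, IsClosed ({P i} : Set ↥(CohB1.ProjSpace 2 k))) (hZ : IsClosed (Set.range P))
  {X : Scheme.{u}} [X.Over (Spec (CommRingCat.of k))] (σ : X ⟶ CohB1.ProjSpace 2 k)
  (hσk : σ ≫ CohB1.ProjSpace.toSpec 2 k = X ↘ (Spec (CommRingCat.of k)))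
  (hσ : BlowUp.IsBlowUp σ (Scheme.IdealSheafData.vanishingIdeal ⟨Set.range P, hZ⟩))
  [IsIntegral X] [IsProper (X ↘ (Spec (CommRingCat.of k)))] [Smooth (X ↘ (Spec (CommRingCat.of k)))]
  (hdim : topologicalKrullDim X = 2)

include hP hPc hZ hσk hσ hdim in
/-- The rank of `π_*L` for `L` with `R¹π_*L = 0`. -/
theorem rank_plane [HasInjectiveResolutions X.Modules] (j : Fin r)
    (π : X ⟶ CohB1.ProjSpace 1 k) (hπk : π ≫ CohB1.ProjSpace.toSpec 1 k = X ↘ (Spec (CommRingCat.of k)))
    (hπ : Nonempty (((Scheme.Modules.pullback π).obj (Twist.twistProjSpace 1 k 1)) ≅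
      CohB1.tensorMod ((Scheme.Modules.pullback σ).obj (Twist.twistProjSpace 2 k 1)) (ClSub.idealMod (exc k hPc σ j))))
    (L : X.Modules) (hL : PicF.IsInvertible L) (hR : IsZero ((Coh.Rpush π 1).obj L)) :
    FlatMod.IsFinLocFreeOfRank (FGA.intNum k X 2 ![L, ((Scheme.Modules.pullback σ).obj (Twist.twistProjSpace 2 k 1))]
      (Coh.structureModule X) - (Curv2.euler k X (CohB1.tensorMod (ClSub.quotMod (exc k hPc σ j)) L) -
        Curv2.euler k X (ClSub.quotMod (exc k hPc σ j))) + 1).toNat ((Coh.push π).obj L) := by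
  obtain ⟨w, x, N⟩ := exists_num k hP hPc hZ σ hσk hσ hdim
  have h1 := rank_push k N j π hπk (fib_val k hPc σ N j π hπ) hL (unit hL) (unit_val _) hR
  have h2 : FGA.intNum k X 2 ![L, ((Scheme.Modules.pullback σ).obj (Twist.twistProjSpace 2 k 1))]
      (Coh.structureModule X) - (Curv2.euler k X (CohB1.tensorMod (ClSub.quotMod (exc k hPc σ j)) L) -
        Curv2.euler k X (ClSub.quotMod (exc k hPc σ j))) = form k X (hcl k σ * x j) (unit hL) := by
    rw [intNum_eq_form k hL (isInvertible_pull σ 1), ← dg_unit k _ hL, dg_eq_neg_form k (hd2 N) _ (N.val j),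
      form_mul_left k X (hd2 N), form_comm k X (hcl k σ), form_comm k X (x j)]
    unfold hcl
    ring
  rw [h2]
  exact h1

end plane

end K461.PencilP
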