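import Groth.Agent.Surf.K461.PencilE

/-!
# `(-1)`-curves and the pencil of lines through one point, II

* `push_pos`, `push_zero`: `π_*I_E`.
* `h_zero_ideal`: `H⁰(I_E) = 0`.
* `V_one_of_contains`: the vanishing of `H¹(L)` if `L - E` is effective and `L·F = E·F`.
-/

set_option autoImplicit false
universe u
open CategoryTheory CategoryTheory.Limits AlgebraicGeometry TopologicalSpace

namespace K461.PencilF

open Groth.Agent Groth.Agent.Fga.PicMon Groth.Agent.Fga Groth.Agent.Pic13.H11 Groth.Agent.Pic13.H11.Cls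
  Groth.Agent.Fga.HodgeIneq
open Groth.Agent.Fga.HodgeForm K461.Neg K461.GG K461.PlaneH K461.SerreCl K461.Plane K461.PlaneE K461.LineC
open K461.PencilR K461.PencilMain K461.PencilS K461.PencilP K461.NegTwo K461.PencilE
open K464.Curves (IsCurve)
open K443.P1V (O)
open K700.HDim (fr)

theorem isInvertible_of_iso {X : Scheme.{u}} {M N : X.Modules} (e : M ≅ N) (hM : PicF.IsInvertible M) :
    PicF.IsInvertible N := by
  intro x
  obtain ⟨U, hU, ⟨φ⟩⟩ := hM x
  exact ⟨U, hU, ⟨(Scheme.Modules.restrictFunctor U.ι).mapIso e.symm ≪≫ φ⟩⟩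

theorem isInvertible_of_unit {X : Scheme.{u}} {M : X.Modules} (u : (MC X)ˣ) (h : mc M = (u : MC X)) :
    PicF.IsInvertible M := by
  obtain ⟨L, hL, rfl⟩ := exists_unit u
  rw [unit_val] at h
  obtain ⟨e⟩ := (mc_eq_iff _ _).1 h
  exact isInvertible_of_iso e.symm hL

theorem V_zero_of_h {X : Scheme.{u}} (k : Type u) [Field k] [X.Over (Spec (CommRingCat.of k))]
    [IsProper (X ↘ (Spec (CommRingCat.of k)))] {c : MC X} (hc : Co c) (i : ℕ) (h : Cls.h k i c = 0) : V i c := by
  induction c using MC.ind with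
  | h L =>
    have := S0002.result k X L hc i
    rw [h_mc, Module.finrank_zero_iff] at h
    rwa [V_mc]

section calcs

variable {k : Type u} [Field k] [IsAlgClosed k] {X : Scheme.{u}} [X.Over (Spec (CommRingCat.of k))] [IsIntegral X]
  [IsProper (X ↘ (Spec (CommRingCat.of k)))] [Smooth (X ↘ (Spec (CommRingCat.of k)))] {r : ℕ}
  {g w : (MC X)ˣ} {F : Fin r → X.IdealSheafData} {x : Fin r → (MC X)ˣ} (N : Num k g w F x)
  {E : X.IdealSheafData} {y : (MC X)ˣ} (C : NC k E y)

omit [Smooth (X ↘ (Spec (CommRingCat.of k)))] in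
include N C in
theorem form_y_w : form k X y w = 1 := by
  have hN := Neg.isNoetherian (X := X) k
  have h1 := N.rr y
  have h2 := (ses_ideal E).chi_eq k
  have h3 := chi_quot k E C.curve.integral C.curve.dim
  rw [h_eq_zero k C.h1] at h3
  rw [N.chi1, h3, ← C.val] at h2
  rw [C.yy] at h1
  push_cast at h2
  linarith

section push

variable (j : Fin r) (π : X ⟶ CohB1.ProjSpace 1 k)
  (hπk : π ≫ CohB1.ProjSpace.toSpec 1 k = X ↘ (Spec (CommRingCat.of k)))
  (hf : g * x j = unit (isInvertible_pull π 1)) [HasInjectiveResolutions X.Modules]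

include N C hπk hf

/-- `π_*I_E = 0` if `E·F > 0`. -/
theorem push_pos (hR : 0 < dg k E (g * x j)) : IsZero ((Coh.push π).obj (ClSub.idealMod E)) := by
  have hfv : ((g * x j : (MC X)ˣ) : MC X) = mc ((Scheme.Modules.pullback π).obj (O k 1)) := by rw [hf, unit_val]
  have hdom := isDominant k N j π hπk hfv
  have hI : PicF.IsInvertible (ClSub.idealMod E) := isInvertible_of_unit y C.val.symm
  obtain ⟨ρ, a, -, e⟩ := exists_split' k π hπk hI
  have h0 : ∀ n : ℤ, fr k (CohB1.tensorMod ((Coh.push π).obj (ClSub.idealMod E)) (O k n)) 0 = 0 := fun n => by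
    rw [h0_push k π hfv hπk C.val]
    refine h_eq_zero k (V_zero_of_form_neg k (hd2 N) (isInvertible_pull π 1) (bpf_pull π) ?_)
    rw [← hf, form_zpow_mul N, f_f N j, form_comm k X y]
    have := dg_eq_neg_form k (hd2 N) E C.val (g * x j)
    linarith
  rcases Nat.eq_zero_or_pos ρ with rfl | hρ
  · obtain ⟨e⟩ := e
    refine IsZero.of_iso ?_ e
    rw [IsZero.iff_id_eq_zero]
    exact Sigma.hom_ext _ _ fun i => i.elim0
  · have := K443.P1V.lt_of_h0 e (- a ⟨0, hρ⟩) (h0 _) ⟨0, hρ⟩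
    omega

/-- `π_*I_E ≅ O(-1)` if `E·F = 0`. -/
theorem push_zero (hR : dg k E (g * x j) = 0) (hy : Cls.h k 0 (y : MC X) = 0) :
    Nonempty ((Coh.push π).obj (ClSub.idealMod E) ≅ Twist.twistProjSpace 1 k (-1)) := by
  have hN := Neg.isNoetherian (X := X) k
  have hfv : ((g * x j : (MC X)ˣ) : MC X) = mc ((Scheme.Modules.pullback π).obj (O k 1)) := by rw [hf, unit_val]
  have hM := isInvertible_pull π 1
  have hB := bpf_pull π
  have hdom := isDominant k N j π hπk hfv
  have hI : PicF.IsInvertible (ClSub.idealMod E) := isInvertible_of_unit y C.val.symm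
  obtain ⟨ρ, a, -, e⟩ := exists_split' k π hπk hI
  have hfy : form k X (g * x j) y = 0 := by
    have := dg_eq_neg_form k (hd2 N) E C.val (g * x j)
    linarith
  have hS : ∀ n : ℤ, (Cls.h k 0 (((g * x j) ^ n * y : (MC X)ˣ) : MC X) : ℤ) = ∑ i, max (a i + n + 1) 0 := fun n => by
    rw [← h0_push k π hfv hπk C.val, K443.P1V.h0_sum e]
  have ha : ∀ i, a i < 0 := fun i => by
    have := K443.P1V.lt_of_h0 e 0 (by rw [h0_push k π hfv hπk C.val, zpow_zero, one_mul, hy]) i
    omega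
  -- `h⁰(nF)`
  have hnF : ∀ n : ℤ, 0 ≤ n → (Cls.h k 0 (((g * x j) ^ n : (MC X)ˣ) : MC X) : ℤ) = n + 1 := fun n hn => by
    have h1 : V 1 (((g * x j) ^ n : (MC X)ˣ) : MC X) := by
      refine (ses_twist_unit (F j) (N.val j) ((g * x j) ^ n)).V_mid (V_base N j hM hB hf n hn 1)
        (V_one_of_dg k (F j) (N.int j) (N.dim j) _ ?_)
      have h2 : Module.finrank k (Coh.HH X (ClSub.quotMod (F j)) 1) = 0 := by
        have := h_eq_zero k (N.h1 j)
        rwa [h_mc] at this
      rw [h2, dg_zpow k (hd2 N) (F j) (N.val j), dg_eq_neg_form k (hd2 N) (F j) (N.val j), f_xj N]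
      push_cast
      linarith
    have h2 : V 2 (((g * x j) ^ n : (MC X)ˣ) : MC X) := N.v2 _ (by
      rw [form_zpow_left k X (hd2 N), f_g N]
      linarith)
    have h3 := chi_eq_three k (hd2 N) ((g * x j) ^ n)
    have h4 := N.rr ((g * x j) ^ n)
    rw [form_zpow_left k X (hd2 N), form_zpow_right k X (hd2 N), f_f N, form_zpow_left k X (hd2 N), f_w N] at h4
    rw [h_eq_zero k h1, h_eq_zero k h2] at h3
    rw [Nat.cast_zero] at h3
    linarith
  have hup : ∀ n : ℤ, 0 ≤ n → (Cls.h k 0 (((g * x j) ^ n * y : (MC X)ˣ) : MC X) : ℤ) ≤ n + 1 := fun n hn => by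
    rw [← hnF n hn]
    exact_mod_cast (ses_twist_unit E C.val ((g * x j) ^ n)).h_zero_le k
  have hlow : ∀ n : ℤ, - form k X y g ≤ n → n ≤ (Cls.h k 0 (((g * x j) ^ n * y : (MC X)ˣ) : MC X) : ℤ) := fun n hn => by
    have h2 : V 2 (((g * x j) ^ n * y : (MC X)ˣ) : MC X) := N.v2 _ (by
      rw [form_zpow_mul N, f_g N]
      linarith)
    have h3 := chi_eq_three k (hd2 N) ((g * x j) ^ n * y)
    have h4 := N.rr ((g * x j) ^ n * y)
    have h5 : form k X ((g * x j) ^ n * y) ((g * x j) ^ n * y) = -1 := by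
      rw [form_zpow_mul N, form_comm k X (g * x j), form_zpow_mul N, f_f N, form_comm k X y (g * x j), hfy,
        form_comm k X y, form_zpow_mul N, hfy, C.yy]
      ring
    rw [h5, form_zpow_mul N, f_w N, form_y_w N C] at h4
    rw [h_eq_zero k h2] at h3
    have h6 : (0 : ℤ) ≤ (Cls.h k 1 (((g * x j) ^ n * y : (MC X)ˣ) : MC X) : ℤ) := by positivity
    rw [Nat.cast_zero] at h3
    linarith
  have hfin : ∀ n : ℤ, ∑ i, max (a i + n + 1) 0 = max n 0 := by
    refine comb₂ a ha (n₀ := max 0 (- form k X y g)) (fun n hn => ?_) (fun n hn => ?_)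
    · rw [← hS]
      exact hlow n ((le_max_right _ _).trans hn)
    · rw [← hS]
      exact hup n ((le_max_left _ _).trans hn)
  obtain ⟨e1⟩ := K443.P1V.nonempty_iso_of_h0 e (κ := Unit) (fun _ => -1) (by
    intro n
    rw [K443.P1V.h0_sum e, hfin]
    simp)
  exact ⟨e1 ≪≫ coproductUniqueIso (fun _ : Unit => O k (-1))⟩

end push

section contains

variable (j : Fin r) {M : X.Modules} (hM : PicF.IsInvertible M) (hB : BPF M) (hf : g * x j = unit hM)

include N C hB hf

/-- **`H¹(L) = 0` if `L - E` is effective and `L·F = E·F`.** -/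
theorem V_one_of_contains {v : (MC X)ˣ} (hEV : EV (g * x j) v) (hvf : form k X (g * x j) v = dg k E (g * x j))
    (h0 : 0 < Cls.h k 0 ((v * y : (MC X)ˣ) : MC X)) : V 1 (v : MC X) := by
  have hN := Neg.isNoetherian (X := X) k
  have hd := hd2 N
  obtain ⟨D, hD, hDv⟩ := exists_eff k h0
  obtain ⟨f, hfd⟩ : ∃ f, f = g * x j := ⟨_, rfl⟩
  rw [← hfd] at hf hEV hvf
  have hey : v * ec D hD = y⁻¹ := by
    rw [← inv_inv (ec D hD), ← hDv, mul_inv, mul_inv_cancel_left]
  have hdg : dg k D f = 0 := by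
    have h1 : form k X (v * y) f = - form k X (ec D hD) f := by
      rw [hDv]
      have h2 := form_zpow_left k X hd (ec D hD) f (-1)
      rw [zpow_neg_one] at h2
      rw [h2]
      ring
    rw [dg_eq_neg_form k hd D (ec_val D hD), form_comm, ← h1, form_mul_left k X hd, form_comm k X v, hvf,
      dg_eq_neg_form k hd E C.val, form_comm k X y]
    ring
  obtain ⟨Q, hQ⟩ : ∃ Q : ℤ → MC X, ∀ n, Q n = (f ^ n * v : (MC X)ˣ) • mc (ClSub.quotMod D) := ⟨_, fun _ => rfl⟩
  have hs : ∀ n, Ses ((f ^ n * y⁻¹ : (MC X)ˣ) : MC X) ((f ^ n * v : (MC X)ˣ) : MC X) (Q n) := fun n => by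
    have h1 := ses_twist_unit D (ec_val D hD) (f ^ n * v)
    rw [mul_assoc, hey, ← hQ] at h1
    exact h1
  have hdimQ : ∀ n, topologicalKrullDim (supp (Q n)) ≤ (1 : ℕ) := fun n => by
    refine dim_le_of_generic (hs n).co₃ (fun hη => K443.PicGen.genericPoint_notMem hD ?_) (d := 1) hd
    rw [hQ, supp_smul, supp_mc] at hη
    exact VarietyB.DegCartier.support_quotMod_subset D hη
  have step : ∀ n, V 1 (Q (n + 1)) → V 1 (Q n) := fun n hn => by
    obtain ⟨t, ht, hdt⟩ := exists_ses k hM hB (c := Q n) (hs n).co₃ 0 (hdimQ n)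
    have h1 : unit hM • Q n = Q (n + 1) := by
      rw [hQ, hQ, ← hf, ← mul_smul]
      congr 1
      rw [zpow_add_one]
      ac_rfl
    rw [h1] at ht
    have h2 : chi k (Q (n + 1)) = chi k (Q n) := by
      have h3 := dg_mul k hd D (ec_val D hD) f (f ^ n * v)
      rw [hdg, zero_add] at h3
      unfold dg at h3
      rw [hQ, hQ]
      have h4 : f * (f ^ n * v) = f ^ (n + 1) * v := by
        rw [zpow_add_one]
        ac_rfl
      rw [h4] at h3
      linarith
    have h3 := ht.chi_eq k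
    have h4 : chi k t = h k 0 t := chi_eq_h_zero k fun i hi => V_of_dim k ht.co₃ (d := 0) hdt (by omega)
    have h5 : h k 0 t = 0 := by
      have : ((h k 0 t : ℕ) : ℤ) = 0 := by linarith
      exact_mod_cast this
    exact ht.V_left (V_zero_of_h k ht.co₃ 0 h5) hn
  have hlarge : ∃ m : ℕ, V 1 (Q m) := by
    obtain ⟨n₀, hn₀⟩ := hEV
    refine ⟨(max n₀ (- form k X y⁻¹ g)).toNat, ?_⟩
    obtain ⟨m, hm⟩ : ∃ m : ℤ, m = ((max n₀ (- form k X y⁻¹ g)).toNat : ℤ) := ⟨_, rfl⟩
    rw [← hm]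
    have h1 : n₀ ≤ m := by
      rw [hm]
      exact (le_max_left _ _).trans (Int.self_le_toNat _)
    have h2 : - form k X y⁻¹ g ≤ m := by
      rw [hm]
      exact (le_max_right _ _).trans (Int.self_le_toNat _)
    refine (hs m).V_right (hn₀ m h1) (N.v2 _ ?_)
    rw [form_zpow_mul N, hfd, f_g N]
    linarith
  have hQ0 : V 1 (Q 0) := by
    obtain ⟨m, hm⟩ := hlarge
    induction m with
    | zero => exact_mod_cast hm
    | succ m ih => exact ih (step m (by exact_mod_cast hm))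
  have h1 := hs 0
  rw [zpow_zero, one_mul, one_mul] at h1
  exact h1.V_mid (V_one_inv N C) hQ0

end contains

end calcs

/-- The class of a `(-1)`-curve. -/
theorem exists_nc (k : Type u) [Field k] [IsAlgClosed k] {X : Scheme.{u}} [X.Over (Spec (CommRingCat.of k))] [IsIntegral X]
    [IsProper (X ↘ (Spec (CommRingCat.of k)))] [Smooth (X ↘ (Spec (CommRingCat.of k)))]
    (hdim : topologicalKrullDim X = 2) (E : X.IdealSheafData) (hEi : IsIntegral E.subscheme)
    (hE1 : topologicalKrullDim (E.support : Set X) = 1)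
    (hEg : Subsingleton (Coh.HH E.subscheme (Coh.structureModule E.subscheme) 1))
    (hEE : FGA.intNum k X 2 ![ClSub.idealMod E, ClSub.idealMod E] (Coh.structureModule X) = -1) :
    ∃ y : (MC X)ˣ, NC k E y := by
  have hI := Dix.IdealModCartier.isInvertible_idealMod (Curve.isEff k hdim hEi hE1)
  refine ⟨unit hI, ⟨hEi, hE1⟩, unit_val _, ?_, ?_⟩
  · obtain ⟨e⟩ := restr_equiv_unit k E 1
    rw [V_mc]
    exact e.symm.toEquiv.subsingleton
  · rw [← intNum_eq_form]
    exact hEE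

section plane

variable (k : Type u) [Field k] [IsAlgClosed k] {r : ℕ} {P : Fin r → ↥(CohB1.ProjSpace 2 k)}
  (hP : Function.Injective P)
  (hPc : ∀ i, IsClosed ({P i} : Set ↥(CohB1.ProjSpace 2 k))) (hZ : IsClosed (Set.range P))
  {X : Scheme.{u}} [X.Over (Spec (CommRingCat.of k))] (σ : X ⟶ CohB1.ProjSpace 2 k)
  (hσk : σ ≫ CohB1.ProjSpace.toSpec 2 k = X ↘ (Spec (CommRingCat.of k)))
  (hσ : BlowUp.IsBlowUp σ (Scheme.IdealSheafData.vanishingIdeal ⟨Set.range P, hZ⟩))
  [IsIntegral X] [IsProper (X ↘ (Spec (CommRingCat.of k)))] [Smooth (X ↘ (Spec (CommRingCat.of k)))]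
  (hdim : topologicalKrullDim X = 2)

include hσk hσ in
/-- `H⁰(I_E) = 0`. -/
theorem h_zero_ideal {w : (MC X)ˣ} {x : Fin r → (MC X)ˣ} (N : Num k (hcl k σ) w (exc k hPc σ) x)
    {E : X.IdealSheafData} {y : (MC X)ˣ} (C : NC k E y) : Cls.h k 0 (y : MC X) = 0 := by
  by_contra hne
  have hd := hd2 N
  obtain ⟨D, hD, hy⟩ := exists_eff k (Nat.pos_of_ne_zero hne)
  have hEe := Curve.isEff k N.hd C.curve.integral C.curve.dim
  obtain ⟨h1, h2, -⟩ := decomp k hPc hZ σ hσk hσ N D hD
  obtain ⟨h3, h4, -⟩ := decomp k hPc hZ σ hσk hσ N E hEe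
  have h5 : ec E hEe = y := Units.ext (by rw [ec_val, C.val])
  rw [← hy] at h1 h2
  rw [h5] at h3 h4
  have h6 : form k X y⁻¹ (hcl k σ) = - form k X y (hcl k σ) := by
    have h2 := form_zpow_left k X hd y (hcl k σ) (-1)
    rw [zpow_neg_one] at h2
    rw [h2]
    ring
  have h7 : form k X y (hcl k σ) = 0 := by linarith
  obtain ⟨b, hb, hb'⟩ := h2 h7
  obtain ⟨c, hc, hc'⟩ := h4 (by rw [h6, h7, neg_zero])
  have h8 : ec D hD = y⁻¹ := by rw [hy, inv_inv]
  have h9 : ∀ l, b l = - c l := fun l => by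
    have h10 := form_bb_x N b l
    have h11 := form_bb_x N (-c) l
    rw [bb_neg, ← hc', ← h8, hb', h10, Pi.neg_apply] at h11
    omega
  have h12 : c = 0 := by
    funext l
    have := h9 l
    have := hb l
    have := hc l
    simp only [Pi.zero_apply]
    omega
  rw [h12, bb_zero] at hc'
  have h13 := C.yy
  have h14 := form_zpow_left k X hd 1 (1 : (MC X)ˣ) 0
  rw [one_zpow, zero_mul] at h14
  rw [hc', h14] at h13
  norm_num at h13

include hP hPc hZ hσk hσ hdim in
/-- S16568. -/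
theorem main_push [HasInjectiveResolutions X.Modules] (j : Fin r)
    (π : X ⟶ CohB1.ProjSpace 1 k) (hπk : π ≫ CohB1.ProjSpace.toSpec 1 k = X ↘ (Spec (CommRingCat.of k)))
    (hπ : Nonempty (((Scheme.Modules.pullback π).obj (Twist.twistProjSpace 1 k 1)) ≅
      CohB1.tensorMod ((Scheme.Modules.pullback σ).obj (Twist.twistProjSpace 2 k 1)) (ClSub.idealMod (exc k hPc σ j))))
    (E : X.IdealSheafData) (hEi : IsIntegral E.subscheme) (hE1 : topologicalKrullDim (E.support : Set X) = 1)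
    (hEg : Subsingleton (Coh.HH E.subscheme (Coh.structureModule E.subscheme) 1))
    (hEE : FGA.intNum k X 2 ![ClSub.idealMod E, ClSub.idealMod E] (Coh.structureModule X) = -1)
    (L : X.Modules) (hL : ClSub.IsInverseOf L (ClSub.idealMod E))
    (R : ℕ) (hR : (R : ℤ) = (Curv2.euler k X (CohB1.tensorMod (ClSub.quotMod E)
      ((Scheme.Modules.pullback π).obj (Twist.twistProjSpace 1 k 1))) - Curv2.euler k X (ClSub.quotMod E))) :
    Nonempty ((Coh.push π).obj L ≅
      (∐ fun _ : Fin R => Twist.twistProjSpace 1 k (-1)) ⨿ Coh.structureModule (CohB1.ProjSpace 1 k)) ∧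
      (R = 0 → Nonempty ((Coh.push π).obj (ClSub.idealMod E) ≅ Twist.twistProjSpace 1 k (-1))) ∧
      (0 < R → IsZero ((Coh.push π).obj (ClSub.idealMod E))) := by
  obtain ⟨w, x, N⟩ := exists_num k hP hPc hZ σ hσk hσ hdim
  obtain ⟨y, C⟩ := exists_nc k hdim E hEi hE1 hEg hEE
  have hf := fib_eq k hPc σ N j π hπ
  have hR' : (R : ℤ) = dg k E (hcl k σ * x j) := by
    rw [hR, hf, dg_unit]
  have hLy : mc L = ((y⁻¹ : (MC X)ˣ) : MC X) := by
    obtain ⟨e⟩ := hL
    rw [← Units.mul_eq_one_iff_eq_inv, C.val, ← mc_tensor, mc_eq e, mc_one]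
  have hLi := isInvertible_of_unit y⁻¹ hLy
  refine ⟨push_inv N C j π hπk hf hLi hLy.symm R hR', fun h => ?_, fun h => ?_⟩
  · exact push_zero N C j π hπk hf (by rw [← hR', h]; rfl) (h_zero_ideal k hPc hZ σ hσk hσ N C)
  · exact push_pos N C j π hπk hf (by rw [← hR']; exact_mod_cast h)

include hP hPc hZ hσk hσ hdim in
/-- S16569. -/
theorem main_van (hlin : ∀ (a b c : Fin r), a ≠ b → b ≠ c → a ≠ c → ∀ (hc : IsClosed ({P a, P b, P c} : Set ↥(CohB1.ProjSpace 2 k))),
      Subsingleton (Coh.HH (CohB1.ProjSpace 2 k) (CohB1.tensorMod (Twist.twistProjSpace 2 k 1)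
        (ClSub.idealMod (Scheme.IdealSheafData.vanishingIdeal ⟨{P a, P b, P c}, hc⟩))) 0))
    (j : Fin r)
    (π : X ⟶ CohB1.ProjSpace 1 k)
    (hπ : Nonempty (((Scheme.Modules.pullback π).obj (Twist.twistProjSpace 1 k 1)) ≅
      CohB1.tensorMod ((Scheme.Modules.pullback σ).obj (Twist.twistProjSpace 2 k 1)) (ClSub.idealMod (exc k hPc σ j))))
    (L : X.Modules) (hL : PicF.IsInvertible L)
    (hnum : ∀ i : Fin r, (Curv2.euler k X (CohB1.tensorMod (ClSub.quotMod (exc k hPc σ i)) L) - Curv2.euler k X (ClSub.quotMod (exc k hPc σ i))) + (Curv2.euler k X (CohB1.tensorMod (ClSub.quotMod (exc k hPc σ j)) L) - Curv2.euler k X (ClSub.quotMod (exc k hPc σ j))) ≤ FGA.intNum k X 2 ![L, ((Scheme.Modules.pullback σ).obj (Twist.twistProjSpace 2 k 1))] (Coh.structureModule X) ∧ -1 ≤ (Curv2.euler k X (CohB1.tensorMod (ClSub.quotMod (exc k hPc σ i)) L) - Curv2.euler k X (ClSub.quotMod (exc k hPc σ i))))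
    (E : X.IdealSheafData) (hEi : IsIntegral E.subscheme) (hE1 : topologicalKrullDim (E.support : Set X) = 1)
    (hEg : Subsingleton (Coh.HH E.subscheme (Coh.structureModule E.subscheme) 1))
    (hEE : FGA.intNum k X 2 ![ClSub.idealMod E, ClSub.idealMod E] (Coh.structureModule X) = -1)
    (hEF : (Curv2.euler k X (CohB1.tensorMod (ClSub.quotMod E) ((Scheme.Modules.pullback π).obj (Twist.twistProjSpace 1 k 1))) - Curv2.euler k X (ClSub.quotMod E)) = FGA.intNum k X 2 ![L, ((Scheme.Modules.pullback π).obj (Twist.twistProjSpace 1 k 1))] (Coh.structureModule X))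
    (hcont : Nontrivial (Coh.HH X (CohB1.tensorMod L (ClSub.idealMod E)) 0)) :
    Subsingleton (Coh.HH X L 1) := by
  obtain ⟨w, x, N⟩ := exists_num k hP hPc hZ σ hσk hσ hdim
  obtain ⟨y, C⟩ := exists_nc k hdim E hEi hE1 hEg hEE
  have hf := fib_eq k hPc σ N j π hπ
  obtain ⟨a, n, hv⟩ := exists_class k hPc hZ σ hσ N (unit hL)
  obtain ⟨ha, hn⟩ := num_of_class k hPc σ N hL hv
  rw [ha] at hnum
  simp only [hn] at hnum
  have hjj := hnum j
  have hEV := EV_of_hlin k hPc hZ σ hσk hσ hlin N j (isInvertible_pull π 1) (bpf_pull π) hf a n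
    (fun i _ => hnum i) (by omega)
  rw [← hv] at hEV
  have h1 := V_one_of_contains N C j (isInvertible_pull π 1) (bpf_pull π) hf hEV (by
    rw [hf, dg_unit, hEF, intNum_eq_form k hL (isInvertible_pull π 1), form_comm]) (by
    rw [Units.val_mul, unit_val, C.val, ← mc_tensor, h_mc]
    have hI : PicF.IsInvertible (ClSub.idealMod E) := isInvertible_of_unit y C.val.symm
    have := HodgeSec.finite_HH k (Fdesc.LocGen.isInvertible_tensorMod hL hI) 0
    exact Module.finrank_pos)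
  rwa [unit_val, V_mc] at h1

end plane

end K461.PencilF
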