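import Groth.Agent.Surf.K461.PencilR

/-!
# Blow-ups of the plane in points no three of which are collinear: summary

* `exists_curve`: the strict transform of the line through `P i` and `P j`: an integral curve with class
  `h - E_i - E_j` and `H¹(O) = 0`.
* `EV_of_hlin`: `H¹(fⁿ u) = 0` for `n ≫ 0`.
-/

set_option autoImplicit false
universe u
open CategoryTheory CategoryTheory.Limits AlgebraicGeometry TopologicalSpace

namespace K461.PencilMain

open Groth.Agent Groth.Agent.Fga.PicMon Groth.Agent.Fga Groth.Agent.Pic13.H11 Groth.Agent.Pic13.H11.Cls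
  Groth.Agent.Fga.HodgeIneq
open Groth.Agent.Fga.HodgeForm K461.Neg K461.GG K461.PlaneH K461.SerreCl K461.Plane K461.PlaneE K461.LineC
open K461.PencilR
open K464.Curves (IsCurve)

variable (k : Type u) [Field k] [IsAlgClosed k] {r : ℕ} {P : Fin r → ↥(CohB1.ProjSpace 2 k)}
  (hPc : ∀ i, IsClosed ({P i} : Set ↥(CohB1.ProjSpace 2 k))) (hZ : IsClosed (Set.range P))
  {X : Scheme.{u}} [X.Over (Spec (CommRingCat.of k))] (σ : X ⟶ CohB1.ProjSpace 2 k)
  (hσk : σ ≫ CohB1.ProjSpace.toSpec 2 k = X ↘ (Spec (CommRingCat.of k)))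
  (hσ : BlowUp.IsBlowUp σ (Scheme.IdealSheafData.vanishingIdeal ⟨Set.range P, hZ⟩))
  [IsIntegral X] [IsProper (X ↘ (Spec (CommRingCat.of k)))] [Smooth (X ↘ (Spec (CommRingCat.of k)))]
  (hlin : ∀ (a b c : Fin r), a ≠ b → b ≠ c → a ≠ c → ∀ (hc : IsClosed ({P a, P b, P c} : Set ↥(CohB1.ProjSpace 2 k))),
      Subsingleton (Coh.HH (CohB1.ProjSpace 2 k) (CohB1.tensorMod (Twist.twistProjSpace 2 k 1)
        (ClSub.idealMod (Scheme.IdealSheafData.vanishingIdeal ⟨{P a, P b, P c}, hc⟩))) 0))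
  {w : (MC X)ˣ} {x : Fin r → (MC X)ˣ} (N : Num k (hcl k σ) w (exc k hPc σ) x)

include hσk hσ hlin N

/-- **The strict transform of the line through `P i` and `P j`.** -/
theorem exists_curve (i j : Fin r) (hij : i ≠ j) : ∃ (C : X.IdealSheafData), IsCurve C ∧
    V 1 (mc (ClSub.quotMod C)) ∧ mc (ClSub.idealMod C) = (((hcl k σ * x i * x j)⁻¹ : (MC X)ˣ) : MC X) := by
  refine LineC.exists_line k hPc hZ σ hσk hσ N i j hij fun l hli hlj => ?_
  have hc : IsClosed ({P i, P j, P l} : Set ↥(CohB1.ProjSpace 2 k)) := by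
    rw [Set.insert_eq, Set.insert_eq]
    exact (hPc i).union ((hPc j).union (hPc l))
  exact LinTr.V_zero_of_lin k hPc hZ σ hσk hσ N i j l hc (hlin i j l hij (Ne.symm hlj) (Ne.symm hli) hc)

/-- **`H¹(L + nF) = 0` for `n ≫ 0`.** -/
theorem EV_of_hlin (j : Fin r) {M : X.Modules} (hM : PicF.IsInvertible M) (hB : BPF M)
    (hf : hcl k σ * x j = unit hM) (a : ℤ) (n : Fin r → ℤ) (hn : ∀ i, i ≠ j → n i + n j ≤ a ∧ -1 ≤ n i)
    (hnj : -1 ≤ a - n j) : EV (hcl k σ * x j) (hcl k σ ^ a * bb x n) :=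
  EV_main N j hM hB hf (fun i hi => exists_curve k hPc hZ σ hσk hσ hlin N i j hi) a n hn hnj

end K461.PencilMain
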