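import Groth.Agent.Surf.K461.BlowChi
import Groth.Agent.Surf.K461.PlaneH
import Groth.Agent.Surf.K461.SerreCl
import Groth.Agent.VarietyB.EulerBinom
import Groth.Agent.Sga67.SerreVB
import Groth.Agent.Dual.H366.ExtQCoh
import Groth.Agent.Lefpen.H717.ProjIrr

/-!
# Blow-ups of the projective plane in finitely many points: numerical facts

`σ : X ⟶ P²_k` the blow-up of the plane along a reduced finite set of closed points, `X` an integral smooth proper
surface, `h = [σ^*O(1)]`, `w = [Λ²Ω]`: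
* `chi_h_pow`: `χ(σ^*O(n)) = χ(P², O(n))`; `chi_one = 1`, `form_h_h = 1`, `form_h_w = -3`.
* `V_two_of_ge`: `(u·h) ≥ -2` implies `H²(u) = 0`.
* `one_le_h_zero`: `(u·h) ≥ -2`, `(u·u) - (u·w) ≥ 0` imply `h^0(u) ≥ 1`.
-/

set_option autoImplicit false
universe u
open CategoryTheory CategoryTheory.Limits AlgebraicGeometry TopologicalSpace

namespace K461.Plane

open Groth.Agent Groth.Agent.Fga.PicMon Groth.Agent.Fga Groth.Agent.Pic13.H11 Groth.Agent.Pic13.H11.Cls
  Groth.Agent.Fga.HodgeIneq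
open Groth.Agent.Fga.HodgeForm K461.Neg K461.GG K461.PlaneH K461.SerreCl

/-! ### Euler characteristics on the plane -/

theorem N_two (d : ℕ) (N : ℕ) (h : (Finset.finsuppAntidiag (Finset.univ : Finset (Fin 3)) d).card = N) :
    VarietyB.EulerBinom.N 2 d = N := by
  unfold VarietyB.EulerBinom.N
  rw [← h]
  have h1 : {m : Fin (2 + 1) →₀ ℕ | m.degree = d} =
      ((Finset.finsuppAntidiag (Finset.univ : Finset (Fin 3)) d : Finset (Fin 3 →₀ ℕ)) : Set (Fin 3 →₀ ℕ)) := by
    ext m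
    simp only [Set.mem_ofPred_eq, Finset.mem_coe, Finset.mem_finsuppAntidiag, Finset.subset_univ, and_true]
    rw [Finsupp.degree_eq_sum]
  rw [h1, Nat.card_eq_fintype_card]
  simp

section
variable (k : Type u) [Field k]

theorem euler_zero : Curv2.euler k (CohB1.ProjSpace 2 k) (Twist.twistProjSpace 2 k 0) = 1 := by
  rw [VarietyB.EulerBinom.euler_twist]
  unfold VarietyB.EulerBinom.c
  rw [if_pos le_rfl, Int.toNat_zero, N_two 0 1 (by decide)]
  rfl

theorem euler_one : Curv2.euler k (CohB1.ProjSpace 2 k) (Twist.twistProjSpace 2 k 1) = 3 := by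
  rw [VarietyB.EulerBinom.euler_twist]
  unfold VarietyB.EulerBinom.c
  rw [if_pos (by norm_num), Int.toNat_one, N_two 1 3 (by decide)]
  rfl

theorem euler_two : Curv2.euler k (CohB1.ProjSpace 2 k) (Twist.twistProjSpace 2 k 2) = 6 := by
  rw [VarietyB.EulerBinom.euler_twist]
  unfold VarietyB.EulerBinom.c
  rw [if_pos (by norm_num), show (2 : ℤ).toNat = 2 from rfl, N_two 2 6 (by decide)]
  rfl

end

/-- Not every point of the plane is closed. -/
theorem exists_not_isClosed (k : Type u) [Field k] : ∃ x : CohB1.ProjSpace 2 k, ¬ IsClosed ({x} : Set _) := by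
  by_contra hcon
  push Not at hcon
  let c := Sga5.ProjSmooth.chart 2 k 0
  let R := MvPolynomial (Fin 2) k
  let η : Spec (CommRingCat.of R) := (⟨⊥, Ideal.isPrime_bot⟩ : PrimeSpectrum R)
  have h1 : IsClosed ({η} : Set (Spec (CommRingCat.of R))) := by
    have h2 : ({η} : Set (Spec (CommRingCat.of R))) = c ⁻¹' {c η} := by
      ext y
      simp only [Set.mem_singleton_iff, Set.mem_preimage]
      exact ⟨fun h => h ▸ rfl, fun h => c.isOpenEmbedding.injective h⟩
    rw [h2]
    exact (hcon _).preimage c.continuous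
  have h3 : (⊥ : Ideal R).IsMaximal := (PrimeSpectrum.isClosed_singleton_iff_isMaximal η).1 h1
  have h4 : IsField R := Ring.isField_iff_maximal_bot.2 h3
  have h5 := ringKrullDim_eq_zero_of_isField h4
  have h6 : ringKrullDim R = 2 := by
    simp [R, MvPolynomial.ringKrullDim_of_isNoetherianRing]
  rw [h5] at h6
  norm_num at h6

variable (k : Type u) [Field k] {r : ℕ} {P : Fin r → ↥(CohB1.ProjSpace 2 k)}
  (hPc : ∀ i, IsClosed ({P i} : Set ↥(CohB1.ProjSpace 2 k))) (hZ : IsClosed (Set.range P))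
  {X : Scheme.{u}} [X.Over (Spec (CommRingCat.of k))] (σ : X ⟶ CohB1.ProjSpace 2 k)
  (hσk : σ ≫ CohB1.ProjSpace.toSpec 2 k = X ↘ (Spec (CommRingCat.of k)))
  (hσ : BlowUp.IsBlowUp σ (Scheme.IdealSheafData.vanishingIdeal ⟨Set.range P, hZ⟩))
  [IsIntegral X] [IsProper (X ↘ (Spec (CommRingCat.of k)))]

include hPc hZ hσk hσ

theorem euler_pull {E : (CohB1.ProjSpace 2 k).Modules} (hE : FlatMod.IsFinLocFree E) :
    Curv2.euler k X ((Scheme.Modules.pullback σ).obj E) = Curv2.euler k (CohB1.ProjSpace 2 k) E := by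
  have := VarietyB.EulerBinom.isProper_over k 2
  have := Lefpen.H717.ProjIrr.isIntegral_projSpace 2 k
  refine BlowChi.euler_pull_points k σ hσk (Sga5.ProjReg.isRegularLocalRing_stalk 2 k) ⟨Set.range P, hZ⟩
    ?_ ?_ hσ hE
  · rintro _ ⟨i, rfl⟩
    exact hPc i
  · intro h
    obtain ⟨x, hx⟩ := exists_not_isClosed k
    have h1 : x ∈ Set.range P := by
      have : (Set.range P : Set (CohB1.ProjSpace 2 k)) = Set.univ := h
      rw [this]; trivial
    obtain ⟨i, rfl⟩ := h1
    exact hx (hPc i)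

theorem chi_h_pow (n : ℤ) : chi k (mc ((Scheme.Modules.pullback σ).obj (Twist.twistProjSpace 2 k n))) =
    Curv2.euler k (CohB1.ProjSpace 2 k) (Twist.twistProjSpace 2 k n) :=
  euler_pull k hPc hZ σ hσk hσ (Krr.H495.Rank.isFinLocFree_of_rank (VarietyB.DegCartier.isFinLocFreeOfRank_one
    (FormalB.TwistGen.isInvertible_twistProjSpace 2 k n)))

omit hPc hZ hσk hσ [X.Over (Spec (CommRingCat.of k))] [IsIntegral X]
  [IsProper (X ↘ (Spec (CommRingCat.of k)))] in
theorem mc_pull_mul (i j : ℤ) : mc ((Scheme.Modules.pullback σ).obj (Twist.twistProjSpace 2 k (i + j))) =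
    mc ((Scheme.Modules.pullback σ).obj (Twist.twistProjSpace 2 k i)) *
      mc ((Scheme.Modules.pullback σ).obj (Twist.twistProjSpace 2 k j)) := by
  obtain ⟨e⟩ := Sga67.SerreVB.nonempty_twist_mul 2 k i j
  obtain ⟨e'⟩ := Dix.IdealModCartier.pullback_tensorMod σ (FormalB.TwistGen.isInvertible_twistProjSpace 2 k i)
    (FormalB.TwistGen.isInvertible_twistProjSpace 2 k j)
  rw [← mc_tensor]
  exact mc_eq (((Scheme.Modules.pullback σ).mapIso e).symm ≪≫ e')

omit hPc hZ hσk hσ [X.Over (Spec (CommRingCat.of k))] [IsIntegral X]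
  [IsProper (X ↘ (Spec (CommRingCat.of k)))] in
theorem mc_pull_zero : mc ((Scheme.Modules.pullback σ).obj (Twist.twistProjSpace 2 k 0)) = 1 := by
  obtain ⟨e⟩ := Sga67.SerreVB.nonempty_twist_zero 2 k
  rw [mc_eq ((Scheme.Modules.pullback σ).mapIso e ≪≫ Fga.UnitRestrict.pullbackUnitIso σ), mc_one]

theorem chi_one : chi k (1 : MC X) = 1 := by
  rw [← euler_zero k, ← chi_h_pow k hPc hZ σ hσk hσ 0, mc_pull_zero]

omit hPc hZ hσk hσ [X.Over (Spec (CommRingCat.of k))] [IsIntegral X]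
  [IsProper (X ↘ (Spec (CommRingCat.of k)))] in
/-- The class of `σ^*O(1)`. -/
noncomputable def hcl : (MC X)ˣ := unit (isInvertible_pull σ 1)

theorem chi_hcl : chi k (hcl k σ : MC X) = 3 := by
  rw [← euler_one k, ← chi_h_pow k hPc hZ σ hσk hσ 1, hcl, unit_val]

theorem chi_hcl_two : chi k ((hcl k σ * hcl k σ : (MC X)ˣ) : MC X) = 6 := by
  rw [← euler_two k, ← chi_h_pow k hPc hZ σ hσk hσ 2, Units.val_mul, hcl, unit_val, ← mc_pull_mul]
  rfl

variable (hd : topologicalKrullDim X ≤ (2 : ℕ))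
include hd

theorem form_h_h : form k X (hcl k σ) (hcl k σ) = 1 := by
  rw [form_eq k hd, chi_one k hPc hZ σ hσk hσ, chi_hcl k hPc hZ σ hσk hσ, chi_hcl_two k hPc hZ σ hσk hσ]
  norm_num

section Canonical

variable [SmoothOfRelativeDimension 2 (X ↘ Spec (CommRingCat.of k))]
  {W : X.Modules} (hW : ExtPow.IsExtPow 2 (Omega.sheaf (X ↘ Spec (CommRingCat.of k))) W)
  (w : (MC X)ˣ) (hw : (w : MC X) = mc W)

include hW hw

theorem form_h_w : form k X (hcl k σ) w = -3 := by
  have h1 := two_chi k hd hW w hw (hcl k σ)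
  rw [chi_hcl k hPc hZ σ hσk hσ, chi_one k hPc hZ σ hσk hσ, form_h_h k hPc hZ σ hσk hσ hd] at h1
  linarith

theorem V_two_of_ge [IsAlgClosed k] (u : (MC X)ˣ) (hu : -2 ≤ form k X u (hcl k σ)) : V 2 (u : MC X) := by
  rw [V_dual k 2 hW w hw u 0 2 rfl]
  refine V_zero_of_form_neg k hd (isInvertible_pull σ 1) (bpf_pull σ) ?_
  have h1 := form_h_w k hPc hZ σ hσk hσ hd hW w hw
  have h2 : form k X (w * u⁻¹) (hcl k σ) = form k X (hcl k σ) w - form k X u (hcl k σ) := by
    rw [form_mul_left k X hd, ← zpow_neg_one, form_zpow_left k X hd, form_comm k X w]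
    ring
  have h3 : form k X (w * u⁻¹) (hcl k σ) < 0 := by
    rw [h2]
    omega
  exact h3

theorem one_le_h_zero [IsAlgClosed k] (u : (MC X)ˣ) (hu : -2 ≤ form k X u (hcl k σ))
    (huw : 0 ≤ form k X u u - form k X u w) : 1 ≤ h k 0 (u : MC X) := by
  have h1 := two_chi k hd hW w hw u
  rw [chi_one k hPc hZ σ hσk hσ] at h1
  have h2 := V_two_of_ge k hPc hZ σ hσk hσ hd hW w hw u hu
  have h3 := chi_eq_three k hd u
  rw [h_eq_zero k h2] at h3
  have h4 : (0 : ℤ) ≤ (h k 1 (u : MC X) : ℤ) := by positivity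
  omega

end Canonical

end K461.Plane
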