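import Groth.Agent.Surf.K461.LinTr
import Groth.Agent.Surf.K461.Neg
import Groth.Agent.Surf.K465.Eff
import Groth.Agent.VarietyA.TwistDim
import Groth.Agent.VarietyA.LerayH0
import Groth.Agent.VarietyB.DegFin
import Groth.Agent.S1604
import Groth.Agent.Dix.Cast5
import Groth.Agent.CurvesC.QuotZero

/-!
# Base points

* `exists_lift`: a section of `L` not generating at the points of `T` comes from `I_T ⊗ L`.
* `finrank_eq_iff`: `h⁰(L ⊗ I_T) = h⁰(L)` if and only if no section of `L` generates at a point of `T`.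
* `unique_zero`: an invertible module of degree one with `h⁰ = 1` on an integral curve has a unique base point.
-/

set_option autoImplicit false
universe u
open CategoryTheory CategoryTheory.Limits AlgebraicGeometry TopologicalSpace Opposite

namespace K461.BasePt

open Groth.Agent Groth.Agent.Fga.PicMon
open Groth.Agent.Fdesc.LocGen hiding pullHom
open Groth.Agent.Ega2.Weight (pullHom genLocus_pullHom genLocus_comp)

section Lift

variable {P : Scheme.{u}}

theorem exists_lift {L : P.Modules} (hL : PicF.IsInvertible L) (T : Closeds P)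
    (t : Coh.structureModule P ⟶ L) (ht : ∀ y ∈ (T : Set P), y ∉ CohB1.genLocus L t) :
    ∃ s : Coh.structureModule P ⟶
      (Dix.Cast1.restrictSeq (Scheme.IdealSheafData.vanishingIdeal T).subschemeι L).X₁,
      s ≫ (Dix.Cast1.restrictSeq (Scheme.IdealSheafData.vanishingIdeal T).subschemeι L).f = t := by
  set J := Scheme.IdealSheafData.vanishingIdeal T with hJ
  have hred : IsReduced J.subscheme := Ega1.ReducedSub.isReduced_subscheme_vanishingIdeal T
  have h1 : pullHom J.subschemeι t = 0 := by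
    refine CurvesC.DegZeroSec512.eq_zero_of_genLocus_eq_bot (Fdesc.LocGen.isInvertible_pullback _ hL) _ ?_
    rw [genLocus_pullHom J.subschemeι hL t, eq_bot_iff]
    intro z hz
    refine (ht (J.subschemeι z) ?_ hz).elim
    have h2 : J.subschemeι z ∈ ((J.support : Closeds P) : Set P) := by
      rw [← J.range_subschemeι]
      exact ⟨z, rfl⟩
    have h3 : ((J.support : Closeds P) : Set P) = (T : Set P) :=
      Scheme.IdealSheafData.coe_support_vanishingIdeal T
    exact h3 ▸ h2
  rw [LinTr.pullHom_eq_zero_iff] at h1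
  have hS := Dix.Cast1.restrictSeq_shortExact J.subschemeι hL
  have := hS.mono_f
  exact ⟨hS.exact.lift t h1, hS.exact.lift_f t h1⟩

/-- A global section as a morphism. -/
theorem exists_sec {M : P.Modules} (x : Coh.HH P M 0) :
    ∃ t : Coh.structureModule P ⟶ M, sec t ⊤ = (VarietyA.H0Equiv.hZeroEquiv M x : Γ(M, ⊤)) := by
  refine ⟨homOf (VarietyA.H0Equiv.hZeroEquiv M x : Γ(M, ⊤)), ?_⟩
  rw [sec_homOf, res_refl]

variable (k : Type u) [Field k] [P.Over (Spec (CommRingCat.of k))]

theorem hmap_eq {M N : P.Modules} (φ : M ⟶ N) (x : Coh.HH P M 0) (s : Coh.structureModule P ⟶ M)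
    (hs : sec s ⊤ = (VarietyA.H0Equiv.hZeroEquiv M x : Γ(M, ⊤))) :
    (VarietyA.H0Equiv.hZeroEquiv N (VarietyA.HLin.hmapₗ k φ 0 x) : Γ(N, ⊤)) = sec (s ≫ φ) ⊤ := by
  have h1 := VarietyA.LerayH0.hZeroEquiv_map φ x
  rw [sec_comp, hs]
  exact h1

/-- **Base points and dimensions.** -/
theorem finrank_eq_iff [IsProper (P ↘ Spec (CommRingCat.of k))] {L : P.Modules} (hL : PicF.IsInvertible L)
    (T : Closeds P) :
    Module.finrank k (Coh.HH P (CohB1.tensorMod L (ClSub.idealMod (Scheme.IdealSheafData.vanishingIdeal T))) 0) =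
      Module.finrank k (Coh.HH P L 0) ↔
    ∀ t : Coh.structureModule P ⟶ L, ∀ y ∈ (T : Set P), y ∉ CohB1.genLocus L t := by
  have hN := Fga.IntAdd.isNoetherian k P
  set J := Scheme.IdealSheafData.vanishingIdeal T with hJ
  let S := Dix.Cast1.restrictSeq J.subschemeι L
  have hS : S.ShortExact := Dix.Cast1.restrictSeq_shortExact J.subschemeι hL
  have := hS.mono_f
  have hinj : Function.Injective (VarietyA.HLin.hmapₗ k S.f 0) := VarietyA.TwistDim.hmap_zero_injective S.f
  have hfin2 : Module.Finite k (Coh.HH P S.X₂ 0) := Fga.HodgeSec.finite_HH k hL 0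
  have hfin1 : Module.Finite k (Coh.HH P S.X₁ 0) := Module.Finite.of_injective _ hinj
  have e0 : Module.finrank k (Coh.HH P (CohB1.tensorMod L (ClSub.idealMod J)) 0) =
      Module.finrank k (Coh.HH P S.X₁ 0) := by
    have e1 : CohB1.tensorMod L (ClSub.idealMod J) ≅ S.X₁ := by
      refine Ega2.Tens.swap _ _ ≪≫ Ega2.Tens.mapTIso (eqToIso ?_) (Iso.refl L)
      rw [J.ker_subschemeι]
    exact (hmapEquiv k P e1 0).finrank_eq
  rw [e0]
  constructor
  · intro h t y hy
    have hfin2' : Module.Finite k (Coh.HH P L 0) := Fga.HodgeSec.finite_HH k hL 0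
    have hsurj : Function.Surjective (VarietyA.HLin.hmapₗ k S.f 0) :=
      (LinearMap.injective_iff_surjective_of_finrank_eq_finrank (V := Coh.HH P S.X₁ 0) (V₂ := Coh.HH P L 0) h).1 hinj
    obtain ⟨x, hx⟩ := hsurj ((VarietyA.H0Equiv.hZeroEquiv L).symm (sec t ⊤ : Γ(L, ⊤)))
    obtain ⟨s, hs⟩ := exists_sec x
    have h1 := hmap_eq k S.f x s hs
    rw [hx] at h1
    have h2 : sec (s ≫ S.f) ⊤ = sec t ⊤ := by
      rw [← h1]
      exact (VarietyA.H0Equiv.hZeroEquiv L).apply_symm_apply _
    have h3 : s ≫ S.f = t := (sec_bijective _).1 h2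
    rw [← h3]
    refine LinTr.notMem_genLocus hL J s y ?_
    have h4 : ((J.support : Closeds P) : Set P) = (T : Set P) :=
      Scheme.IdealSheafData.coe_support_vanishingIdeal T
    have h5 : y ∈ ((J.support : Closeds P) : Set P) := h4 ▸ hy
    exact h5
  · intro h
    have hsurj : Function.Surjective (VarietyA.HLin.hmapₗ k S.f 0) := by
      intro y
      obtain ⟨t, ht⟩ := exists_sec (M := L) y
      obtain ⟨s, hs⟩ := exists_lift hL T t (h t)
      refine ⟨(VarietyA.H0Equiv.hZeroEquiv S.X₁).symm (sec s ⊤ : Γ(S.X₁, ⊤)), ?_⟩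
      apply (VarietyA.H0Equiv.hZeroEquiv L).injective
      have h1 := hmap_eq k S.f ((VarietyA.H0Equiv.hZeroEquiv S.X₁).symm (sec s ⊤ : Γ(S.X₁, ⊤))) s
        ((VarietyA.H0Equiv.hZeroEquiv S.X₁).apply_symm_apply _).symm
      refine h1.trans ?_
      rw [← ht]
      exact congrArg (fun s => sec s ⊤) hs
    exact (LinearEquiv.ofBijective _ ⟨hinj, hsurj⟩).finrank_eq

end Lift

/-! ### Schemes with `H⁰(O) = k` finite over `k` -/

theorem isField_of_finrank_one (k A : Type u) [Field k] [CommRing A] (φ : k →+* A)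
    (h : @Module.finrank k A _ _ (Module.compHom _ φ) = 1) : IsField A := by
  letI : Module k A := Module.compHom _ φ
  have hnt : Nontrivial A := by
    by_contra hn
    rw [not_nontrivial_iff_subsingleton] at hn
    rw [Module.finrank_zero_of_subsingleton] at h
    exact zero_ne_one h
  refine ⟨⟨0, 1, zero_ne_one⟩, mul_comm, fun {a} ha => ?_⟩
  obtain ⟨c, hc⟩ := exists_smul_eq_of_finrank_eq_one h (one_ne_zero (α := A)) a
  have hc' : a = φ c := by
    rw [← hc]
    exact (mul_one _)
  have hc0 : c ≠ 0 := by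
    rintro rfl
    rw [map_zero] at hc'
    exact ha hc'
  refine ⟨φ c⁻¹, ?_⟩
  rw [hc', ← map_mul, mul_inv_cancel₀ hc0, map_one]

theorem point_of_finrank_one {k : Type u} [Field k] {X : Scheme.{u}} [X.Over (Spec (CommRingCat.of k))]
    (I : X.IdealSheafData) [IsFinite (I.subschemeι ≫ (X ↘ Spec (CommRingCat.of k)))]
    (h : Module.finrank k (Coh.HH X (ClSub.quotMod I) 0) = 1) :
    ∃ z : I.subscheme, ∀ z' : I.subscheme, z' = z := by
  have haff : IsAffine I.subscheme :=
    isAffine_of_isAffineHom (I.subschemeι ≫ (X ↘ Spec (CommRingCat.of k)))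
  rw [CurvesC.QuotZero.finrank_quot] at h
  have hF := isField_of_finrank_one k Γ(I.subscheme, ⊤) _ h
  letI := hF.toField
  have hsub : Subsingleton (Spec Γ(I.subscheme, ⊤)) := by
    refine ⟨fun a b => PrimeSpectrum.ext ?_⟩
    have h1 : ∀ c : PrimeSpectrum Γ(I.subscheme, ⊤), c.asIdeal = ⊥ := fun c =>
      (Ideal.eq_bot_or_top c.asIdeal).resolve_right c.2.ne_top
    exact (h1 a).trans (h1 b).symm
  have hne : Nonempty (Spec Γ(I.subscheme, ⊤)) := ⟨(⟨⊥, Ideal.isPrime_bot⟩ : PrimeSpectrum Γ(I.subscheme, ⊤))⟩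
  obtain ⟨z⟩ := hne
  refine ⟨I.subscheme.isoSpec.inv z, fun z' => ?_⟩
  have h2 : I.subscheme.isoSpec.hom z' = z := Subsingleton.elim _ _
  rw [← h2]
  exact (congr($(I.subscheme.isoSpec.hom_inv_id) z')).symm

/-! ### Degree one -/

/-- The canonical section of the inverse of an effective Cartier ideal. -/
theorem exists_canSec {X : Scheme.{u}} {F : X.IdealSheafData} (hF : BlowUp.IsEffCartierIdeal F)
    {L : X.Modules} (hL : PicF.IsInvertible L) (h : Grpsch.PicGrp.mk L hL = (K464.Base.ic F hF)⁻¹) :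
    ∃ s : Coh.structureModule X ⟶ L, ∀ x : X, x ∈ CohB1.genLocus L s ↔ x ∉ F.support := by
  have h1 := Dix.Cast5.exists_section F.subschemeι (by rw [F.ker_subschemeι]; exact hF)
  rw [F.ker_subschemeι] at h1
  obtain ⟨s, hs⟩ := h1
  rw [K464.Base.ic, Grpsch.PicGrp.inv_mk, Grpsch.PicGrp.mk_eq_iff] at h
  obtain ⟨e⟩ := h
  refine ⟨s ≫ e.inv, fun x => ?_⟩
  rw [genLocus_comp]
  have h2 : x ∈ (CohB1.genLocus _ s : Set X) ↔ x ∉ (F.support : Set X) := by
    rw [hs, F.range_subschemeι]
    rfl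
  exact h2

/-- **Degree one modules.** -/
theorem unique_zero (k : Type u) [Field k] [IsAlgClosed k] (Y : Scheme.{u}) [Y.Over (Spec (CommRingCat.of k))]
    [IsIntegral Y] [IsProper (Y ↘ Spec (CommRingCat.of k))] (hdim : topologicalKrullDim Y = 1) {N : Y.Modules}
    (hN : PicF.IsInvertible N) (h0 : Module.finrank k (Coh.HH Y N 0) = 1) (hdeg : Curv2.deg k Y N 1 = 1) :
    ∃ y₀ : Y, IsClosed ({y₀} : Set Y) ∧ (∀ t : Coh.structureModule Y ⟶ N, y₀ ∉ CohB1.genLocus N t) ∧
      ∀ y, y ≠ y₀ → ∃ t : Coh.structureModule Y ⟶ N, y ∈ CohB1.genLocus N t := by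
  have hNoe := Fga.IntAdd.isNoetherian k Y
  obtain ⟨s, hs⟩ := Fga.HodgeSec.exists_section k (L := N) (by rw [h0]; exact one_pos)
  obtain ⟨Z, hZ, hmk⟩ := K465.Eff.exists_eff hN s hs
  obtain ⟨c, hc⟩ := exists_canSec hZ hN hmk
  have hI := Dix.IdealModCartier.isInvertible_idealMod hZ
  have hinv : ClSub.IsInverseOf N (ClSub.idealMod Z) := by
    have h1 : Grpsch.PicGrp.mk N hN * Grpsch.PicGrp.mk (ClSub.idealMod Z) hI = 1 := by
      rw [hmk]
      exact inv_mul_cancel _
    rw [Grpsch.PicGrp.mk_mul_mk, Grpsch.PicGrp.one_def, Grpsch.PicGrp.mk_eq_iff] at h1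
    exact h1
  obtain ⟨hfin, hd⟩ := S1604.result k Y hdim.le Z hZ N hN hinv 1 (Coh.structureModule Y)
    (VarietyB.DegCartier.isFinLocFreeOfRank_one Fdesc.LocGen.isInvertible_structureModule)
  rw [Dix.InterNum.deg_congr k Y hdim (Ega2.Tens.lunit N), Dix.InterNum.deg_unit, hdeg, Nat.cast_one, one_mul,
    add_zero] at hd
  have hq : Module.finrank k (Coh.HH Y (ClSub.quotMod Z) 0) = 1 := by exact_mod_cast hd.symm
  obtain ⟨z, hz⟩ := point_of_finrank_one Z hq
  have hsupp : ∀ y : Y, y ∈ Z.support ↔ y = Z.subschemeι z := by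
    intro y
    constructor
    · intro hy
      obtain ⟨z', rfl⟩ : y ∈ Set.range Z.subschemeι := by
        rw [Z.range_subschemeι]
        exact hy
      rw [hz z']
    · rintro rfl
      have h1 : Z.subschemeι z ∈ ((Z.support : Closeds Y) : Set Y) := by
        rw [← Z.range_subschemeι]
        exact ⟨z, rfl⟩
      exact h1
  have hcl : IsClosed ({Z.subschemeι z} : Set Y) := by
    have h1 : ({Z.subschemeι z} : Set Y) = ((Z.support : Closeds Y) : Set Y) := by
      ext y
      exact (hsupp y).symm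
    rw [h1]
    exact Z.support.isClosed
  refine ⟨Z.subschemeι z, hcl, ?_, fun y hy => ⟨c, (hc y).2 fun h => hy ((hsupp y).1 h)⟩⟩
  -- all sections vanish at the point
  let T : Closeds Y := ⟨{Z.subschemeι z}, hcl⟩
  suffices H : Module.finrank k (Coh.HH Y (CohB1.tensorMod N
      (ClSub.idealMod (Scheme.IdealSheafData.vanishingIdeal T))) 0) = Module.finrank k (Coh.HH Y N 0) by
    intro t
    exact (finrank_eq_iff k hN T).1 H t _ rfl
  set J := Scheme.IdealSheafData.vanishingIdeal T with hJ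
  let S := Dix.Cast1.restrictSeq J.subschemeι N
  have hS : S.ShortExact := Dix.Cast1.restrictSeq_shortExact J.subschemeι hN
  have hmono := hS.mono_f
  have hinj : Function.Injective (VarietyA.HLin.hmapₗ k S.f 0) := VarietyA.TwistDim.hmap_zero_injective S.f
  have hfin2 : Module.Finite k (Coh.HH Y S.X₂ 0) := Fga.HodgeSec.finite_HH k hN 0
  have hfin1 : Module.Finite k (Coh.HH Y S.X₁ 0) := Module.Finite.of_injective _ hinj
  have e1 : CohB1.tensorMod N (ClSub.idealMod J) ≅ S.X₁ := by
    refine Ega2.Tens.swap _ _ ≪≫ Ega2.Tens.mapTIso (eqToIso ?_) (Iso.refl N)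
    rw [J.ker_subschemeι]
  rw [(hmapEquiv k Y e1 0).finrank_eq]
  have hfin2' : Module.Finite k (Coh.HH Y N 0) := Fga.HodgeSec.finite_HH k hN 0
  refine le_antisymm (LinearMap.finrank_le_finrank_of_injective (M' := Coh.HH Y N 0) hinj) ?_
  rw [h0]
  obtain ⟨s', hs'⟩ := exists_lift hN T c (by
    rintro y rfl h
    exact (hc _).1 h ((hsupp _).2 rfl))
  have hs0 : s' ≠ 0 := by
    rintro rfl
    have h1 : c = 0 := hs'.symm.trans zero_comp
    have h2 := Dix.Cast2.genLocus_zero c h1
    have h3 : genericPoint Y ∈ CohB1.genLocus N c := by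
      rw [hc]
      intro h4
      have h5 := (hsupp _).1 h4
      have h6 : closure ({genericPoint Y} : Set Y) = Set.univ := genericPoint_closure Y
      rw [h5, hcl.closure_eq] at h6
      have h7 : Subsingleton Y := ⟨fun a b => by
        have ha : a ∈ ({Z.subschemeι z} : Set Y) := by rw [h6]; trivial
        have hb : b ∈ ({Z.subschemeι z} : Set Y) := by rw [h6]; trivial
        exact ha.trans hb.symm⟩
      have h8 : topologicalKrullDim Y ≤ 0 := topologicalKrullDim_zero_of_discreteTopology Y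
      rw [hdim] at h8
      norm_num at h8
    rw [h2] at h3
    exact h3
  have hnt : Nontrivial (Coh.HH Y S.X₁ 0) := by
    by_contra hn
    rw [not_nontrivial_iff_subsingleton] at hn
    exact hs0 (LinTr.hom_eq_zero hn s')
  exact Module.finrank_pos

end K461.BasePt
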