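import Groth.Agent.Krr.H470.BlowMain
import Groth.Agent.S2889
import Groth.Agent.Divis.RegImm
import Groth.Agent.Divis.RegStalk
import Groth.Agent.Sga67.FiberPre
import Groth.Agent.Ega1.ReducedSub

/-!
# Blow-ups of integral regular schemes along reduced finite sets of closed points

* `isRegularClosedImmersion`: a reduced finite set of closed points of a regular scheme is regularly imbedded.
* `isZero_RpushAb`, `isIso_unit`: `R^q b_* O = 0` for `q ≥ 1` and `O = b_* O` for the blow-up of a regularly imbedded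
  closed subscheme which is not everything.
-/

set_option autoImplicit false
universe u
open CategoryTheory CategoryTheory.Limits AlgebraicGeometry TopologicalSpace Opposite

namespace K461.BlowPts

open Groth.Agent BlowUp Groth.Agent.Divis Groth.Agent.Divis.BlowChart
  Groth.Agent.Divis.BlowChart2 Groth.Agent.Krr.H470.BlowAff Groth.Agent.Krr.H470.BlowMain

variable {X X' Y : Scheme.{u}}

theorem eq_univ_of_ideal_eq_bot [IrreducibleSpace X] (i : Y ⟶ X) [IsClosedImmersion i] (U : X.affineOpens)
    (hU : (U.1 : Set X).Nonempty) (h : i.ker.ideal U = ⊥) : Set.range i = Set.univ := by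
  have hsupp : (i.ker.support : Set X) = Set.range i := by
    rw [Scheme.Hom.support_ker]
    exact i.isClosedEmbedding.isClosed_range.closure_eq
  have h1 := Scheme.IdealSheafData.coe_support_inter i.ker U
  rw [h, hsupp] at h1
  have h2 : (U.1 : Set X) ⊆ Set.range i := by
    intro x hx
    have : x ∈ X.zeroLocus (U := U.1) ((⊥ : Ideal Γ(X, U.1)) : Set Γ(X, U.1)) ∩ (U.1 : Set X) := by
      refine ⟨?_, hx⟩
      rw [Scheme.mem_zeroLocus_iff]
      intro f hf
      rw [SetLike.mem_coe, Ideal.mem_bot] at hf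
      subst hf
      simp
    rw [← h1] at this
    exact this.1
  have h3 : Dense (U.1 : Set X) := U.1.isOpen.dense hU
  have h4 := i.isClosedEmbedding.isClosed_range.closure_subset_iff.2 h2
  rw [h3.closure_eq] at h4
  exact Set.univ_subset_iff.1 h4

theorem exists_adapted [IsIntegral X] (i : Y ⟶ X) (hi : Mor2.IsRegularClosedImmersion i)
    (hne : Set.range i ≠ Set.univ) (x : X) (W : X.Opens) (hW : x ∈ W) :
    ∃ V : X.affineOpens, x ∈ V.1 ∧ V.1 ≤ W ∧ Adapted i.ker V := by
  have := hi.1
  by_cases hx : x ∈ Set.range i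
  · obtain ⟨y, rfl⟩ := hx
    obtain ⟨U, hU, hyU, rs, hrs, hker⟩ := hi.2 y
    obtain ⟨f, hfle, hfx⟩ := hU.exists_basicOpen_le ⟨i y, hW⟩ hyU
    have hVU : X.basicOpen f ≤ U := X.basicOpen_le f
    let V : X.affineOpens := ⟨X.basicOpen f, hU.basicOpen f⟩
    have hloc := hU.isLocalization_basicOpen f
    let rs' : List Γ(X, V.1) := rs.map (X.presheaf.map (homOfLE hVU).op).hom
    have hrs' : RingTheory.Sequence.IsWeaklyRegular Γ(X, V.1) rs' :=
      hrs.1.of_isLocalization Γ(X, X.basicOpen f) (Submonoid.powers f)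
    have hJ : i.ker.ideal V = Ideal.ofList rs' := by
      have h1 := i.ker.map_ideal (U := V) (V := ⟨U, hU⟩) hVU
      rw [← h1, hker, Ideal.map_ofList]
      rfl
    have hlen : 0 < rs'.length := by
      rw [List.length_pos_iff]
      intro h0
      rw [h0, Ideal.ofList_nil] at hJ
      exact hne (eq_univ_of_ideal_eq_bot i V ⟨_, hfx⟩ hJ)
    have hne : Ideal.ofList rs' ≠ ⊤ := by
      intro htop
      have h1 := Groth.Agent.Sga67.BlowReg.ker_le_primeIdealOf i V y hfx
      rw [hJ, htop, top_le_iff] at h1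
      exact (V.2.primeIdealOf ⟨i y, hfx⟩).2.ne_top h1
    refine ⟨V, hfx, hfle, rs'.length, rs'.get, hlen, ?_, ne_zero_of_isWeaklyRegular rs' hrs' hne, ?_⟩
    · rw [hJ, Ideal.ofList]
      congr 1
      ext x
      simp [List.mem_iff_get]
    · rwa [List.ofFn_get]
  · have hsupp : (i.ker.support : Set X) = Set.range i := by
      rw [Scheme.Hom.support_ker]
      exact i.isClosedEmbedding.isClosed_range.closure_eq
    let W' : X.Opens := ⟨(Set.range i)ᶜ, i.isClosedEmbedding.isClosed_range.isOpen_compl⟩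
    obtain ⟨V, hxV, hVW', hVW⟩ := Divis.CartierBasic.exists_affine_le W' W hx hW
    have hVne : Nonempty V.1 := ⟨⟨x, hxV⟩⟩
    refine ⟨V, hxV, hVW, 1, fun _ => 1, Nat.one_pos, ?_, fun _ => one_ne_zero, ?_⟩
    · rw [Flat2C.EtaleCentre.ideal_eq_top_of_disjoint i.ker V fun x hxV' hxs => hVW' hxV' (hsupp ▸ hxs)]
      rw [Set.range_const, Ideal.span_singleton_one]
    · have : List.ofFn (fun _ : Fin 1 => (1 : Γ(X, V.1))) = [1] := by simp
      rw [this, RingTheory.Sequence.isWeaklyRegular_singleton_iff]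
      exact IsSMulRegular.one _

/-- Vanishing of the higher direct images of the structure sheaf. -/
theorem isZero_RpushAb [IsIntegral X] [IsIntegral X'] (i : Y ⟶ X) (hi : Mor2.IsRegularClosedImmersion i)
    (hne : Set.range i ≠ Set.univ) (b : X' ⟶ X) (hb : IsBlowUp b i.ker) (q : ℕ) (hq : 1 ≤ q) :
    IsZero ((Coh.RpushAb b q).obj (Coh.toAb (Coh.structureModule X'))) := by
  obtain ⟨q, rfl⟩ : ∃ p, q = p + 1 := ⟨q - 1, by omega⟩
  refine Groth.Agent.CohqA.HDIZero.isZero_RpushAb b _ (q + 1)
    {V | ∃ V' : X.affineOpens, (V'.1 : Set X).Nonempty ∧ Adapted i.ker V' ∧ V = V'.1} ?_ ?_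
  · rw [TopologicalSpace.Opens.isBasis_iff_nbhd]
    intro W x hx
    obtain ⟨V, hxV, hVW, hV⟩ := exists_adapted i hi hne x W hx
    exact ⟨V.1, ⟨V, ⟨x, hxV⟩, hV, rfl⟩, hxV, hVW⟩
  · rintro _ ⟨V, hVne, ⟨n, a, hn, ha, ha0, hreg⟩, rfl⟩
    exact (affine_case b i.ker V hb hVne a hn ha ha0 hreg).1 q

/-- `O_X = b_* O_{X'}`. -/
theorem isIso_unit [IsIntegral X] [IsIntegral X'] (i : Y ⟶ X) (hi : Mor2.IsRegularClosedImmersion i)
    (hne : Set.range i ≠ Set.univ) (b : X' ⟶ X) (hb : IsBlowUp b i.ker) :
    IsIso ((Scheme.Modules.pullbackPushforwardAdjunction b).unit.app (Coh.structureModule X)) := by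
  have h : IsIso (Groth.Agent.Fga.UnitRestrict.unitToPush b) := by
    refine Groth.Agent.Sga67.LocBasis.isIso_of_bijective _ fun x U hx => ?_
    obtain ⟨V, hxV, hVU, ⟨n, a, hn, ha, ha0, hreg⟩⟩ := exists_adapted i hi hne x U hx
    exact ⟨V.1, hVU, hxV, (affine_case b i.ker V hb ⟨x, hxV⟩ a hn ha ha0 hreg).2⟩
  rw [← Groth.Agent.Fga.UnitRestrict.unit_pullbackUnitHom] at h
  exact IsIso.of_isIso_comp_right _
    ((Scheme.Modules.pushforward b).map (Groth.Agent.Fga.UnitRestrict.pullbackUnitHom b))

/-! ### Finite sets of closed points -/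

section Points

variable (T : Closeds X) (hcl : ∀ x ∈ (T : Set X), IsClosed ({x} : Set X))

theorem range_vanishing : Set.range (Scheme.IdealSheafData.vanishingIdeal T).subschemeι = (T : Set X) := by
  rw [Scheme.IdealSheafData.range_subschemeι, Scheme.IdealSheafData.coe_support_vanishingIdeal]

include hcl in
theorem isField_stalk (z : (Scheme.IdealSheafData.vanishingIdeal T).subscheme) :
    IsField ((Scheme.IdealSheafData.vanishingIdeal T).subscheme.presheaf.stalk z) := by
  have hred := Ega1.ReducedSub.isReduced_subscheme_vanishingIdeal T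
  refine Sga67.FiberPre.isField_stalk z fun t ht => ?_
  have h1 := ht.map (Scheme.IdealSheafData.vanishingIdeal T).subschemeι.continuous
  have h2 : (Scheme.IdealSheafData.vanishingIdeal T).subschemeι t ∈ (T : Set X) := by
    rw [← range_vanishing]; exact ⟨t, rfl⟩
  have h3 := h1.mem_closure
  have h4 : (Scheme.IdealSheafData.vanishingIdeal T).subschemeι z =
      (Scheme.IdealSheafData.vanishingIdeal T).subschemeι t := by
    rw [(hcl _ h2).closure_eq] at h3
    exact h3
  exact (Scheme.IdealSheafData.vanishingIdeal T).subschemeι.isClosedEmbedding.injective h4.symm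

include hcl in
theorem isRegularClosedImmersion [IsLocallyNoetherian X] (hreg : ∀ x : X, IsRegularLocalRing (X.presheaf.stalk x)) :
    Mor2.IsRegularClosedImmersion (Scheme.IdealSheafData.vanishingIdeal T).subschemeι := by
  rw [Divis.RegImm.isRegularClosedImmersion_iff]
  refine ⟨inferInstance, fun z => ?_⟩
  rw [← Divis.RegStalk.exists_isRegularClosedImmersion_iff]
  have h1 : IsRegularLocalRing ((Scheme.IdealSheafData.vanishingIdeal T).subscheme.presheaf.stalk z) := by
    let := (isField_stalk T hcl z).toField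
    infer_instance
  exact (S2889.result _ z).2 (hreg _)

end Points

end K461.BlowPts
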