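import Groth.Agent.Surf.K461.PlaneE
import Groth.Agent.Surf.K464.Curves
import Groth.Agent.Flat2H.FamOpen
import Groth.Agent.S0219
import Groth.Agent.S1530
import Groth.Agent.S1682
import Groth.Agent.CohqA.ProjDim
import Groth.Agent.VarietyA.AmpleField

/-!
# Contracted curves

* `contracted`: a curve `C` with `(f^*A · C) ≤ 0`, `A` ample, is mapped to a point by `f`.
* `eq_exc`: in the blow-up of the plane in `r` points, a curve `C` with `(h·C) ≤ 0` is one of the exceptional curves.
-/

set_option autoImplicit false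
universe u
open CategoryTheory CategoryTheory.Limits AlgebraicGeometry TopologicalSpace

namespace K461.Contr

open Groth.Agent Groth.Agent.Fga.PicMon Groth.Agent.Fga Groth.Agent.Pic13.H11 Groth.Agent.Pic13.H11.Cls
  Groth.Agent.Fga.HodgeIneq
open Groth.Agent.Fga.HodgeForm K461.Neg K461.GG K461.PlaneH K461.SerreCl K461.Plane

/-- A curve on which the pull back of an ample module has non-positive degree is contracted. -/
theorem contracted (k : Type u) [Field k] {X Y : Scheme.{u}} [X.Over (Spec (CommRingCat.of k))]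
    [IsProper (X ↘ Spec (CommRingCat.of k))] (q : Y ⟶ Spec (CommRingCat.of k)) [IsSeparated q] (f : X ⟶ Y)
    (hf : f ≫ q = X ↘ Spec (CommRingCat.of k)) {A : Y.Modules} (hA : CohB1.IsAmple A) {C : X.IdealSheafData}
    (hC : K464.Curves.IsCurve C) (u : (MC X)ˣ) (hu : (u : MC X) = mc ((Scheme.Modules.pullback f).obj A))
    (h : dg k C u ≤ 0) : ∃ y : Y, ∀ z ∈ C.support, f z = y := by
  by_contra hcon
  push Not at hcon
  letI : C.subscheme.Over (Spec (CommRingCat.of k)) := ⟨C.subschemeι ≫ (X ↘ Spec (CommRingCat.of k))⟩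
  have hp : IsProper (C.subscheme ↘ Spec (CommRingCat.of k)) :=
    inferInstanceAs (IsProper (C.subschemeι ≫ (X ↘ Spec (CommRingCat.of k))))
  have hint := hC.integral
  have hd1 : topologicalKrullDim C.subscheme = 1 := (dim_subscheme C).trans hC.dim
  have hfin : IsFinite (C.subschemeι ≫ f) := by
    refine S0219.result k C.subscheme Y (C.subscheme ↘ Spec (CommRingCat.of k)) q (C.subschemeι ≫ f) ?_ hd1.le ?_
    · rw [Category.assoc, hf]
      rfl
    · intro Z hZ _
      rw [irreducibleComponents_eq_singleton] at hZ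
      rw [Set.mem_singleton_iff.1 hZ]
      obtain ⟨z⟩ := hint.nonempty
      obtain ⟨z', hz', hne⟩ := hcon (f (C.subschemeι z))
      obtain ⟨z'', rfl⟩ : z' ∈ Set.range C.subschemeι := by
        rw [C.range_subschemeι]
        exact hz'
      exact ⟨_, ⟨z'', trivial, rfl⟩, _, ⟨z, trivial, rfl⟩, hne⟩
  have h1 : CohB1.IsAmple ((Scheme.Modules.pullback (C.subschemeι ≫ f)).obj A) :=
    Flat2H.FamOpen.isAmple_pullback_of_isAffineHom _ hA
  have h2 := (S1530.result k C.subscheme hd1 _ h1.1).1 h1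
  have hfA : PicF.IsInvertible ((Scheme.Modules.pullback f).obj A) := Fdesc.LocGen.isInvertible_pullback f hA.1
  have h3 := deg_restr k C hfA
  have h4 : Curv2.deg k C.subscheme ((Scheme.Modules.pullback C.subschemeι).obj
      ((Scheme.Modules.pullback f).obj A)) 1 = dg k C (unit hfA) := h3
  have h5 : u = unit hfA := eq_unit hfA hu.symm
  rw [h5, ← h4] at h
  have h6 : Curv2.deg k C.subscheme ((Scheme.Modules.pullback (C.subschemeι ≫ f)).obj A) 1 =
      Curv2.deg k C.subscheme ((Scheme.Modules.pullback C.subschemeι).obj ((Scheme.Modules.pullback f).obj A)) 1 :=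
    Dix.InterNum.deg_congr k _ hd1 ((Scheme.Modules.pullbackComp C.subschemeι f).symm.app A)
  omega

/-- A curve has at least two points. -/
theorem exists_two {X : Scheme.{u}} {C : X.IdealSheafData} (hC : K464.Curves.IsCurve C) :
    ∃ z ∈ C.support, ∃ z' ∈ C.support, z ≠ z' := by
  by_contra hcon
  push Not at hcon
  have hsub : Subsingleton (C.support : Set X) := ⟨fun a b => Subtype.ext (hcon a.1 a.2 b.1 b.2)⟩
  have h1 := hC.dim
  have h2 : topologicalKrullDim (C.support : Set X) ≤ 0 :=
    topologicalKrullDim_zero_of_discreteTopology (C.support : Set X)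
  rw [h1] at h2
  norm_num at h2

variable (k : Type u) [Field k] [IsAlgClosed k] {r : ℕ} {P : Fin r → ↥(CohB1.ProjSpace 2 k)}
  (hPc : ∀ i, IsClosed ({P i} : Set ↥(CohB1.ProjSpace 2 k))) (hZ : IsClosed (Set.range P))
  {X : Scheme.{u}} [X.Over (Spec (CommRingCat.of k))] (σ : X ⟶ CohB1.ProjSpace 2 k)
  (hσk : σ ≫ CohB1.ProjSpace.toSpec 2 k = X ↘ (Spec (CommRingCat.of k)))
  (hσ : BlowUp.IsBlowUp σ (Scheme.IdealSheafData.vanishingIdeal ⟨Set.range P, hZ⟩))
  [IsIntegral X] [IsProper (X ↘ (Spec (CommRingCat.of k)))] [Smooth (X ↘ (Spec (CommRingCat.of k)))]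

include hσk hσ in
/-- A curve with `(h·C) ≤ 0` is exceptional. -/
theorem eq_exc {w : (MC X)ˣ} {x : Fin r → (MC X)ˣ} (N : PlaneE.Num k (hcl k σ) w (PlaneE.exc k hPc σ) x)
    {C : X.IdealSheafData} (hC : K464.Curves.IsCurve C) (h : dg k C (hcl k σ) ≤ 0) :
    ∃ i, C = PlaneE.exc k hPc σ i := by
  have hsep : IsSeparated (CohB1.ProjSpace.toSpec 2 k) := by
    have : IsProper (CohB1.ProjSpace.toSpec 2 k) :=
      inferInstanceAs (IsProper (CohB1.ProjSpace 2 k ↘ Spec (CommRingCat.of k)))
    infer_instance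
  obtain ⟨y, hy⟩ := contracted k (CohB1.ProjSpace.toSpec 2 k) σ hσk
    (VarietyA.AmpleField.isAmple_twistProjSpace 2 k) hC (hcl k σ) (unit_val _) h
  by_cases hyr : y ∈ Set.range P
  · obtain ⟨i, rfl⟩ := hyr
    refine ⟨i, K464.Curves.eq_of_gp_mem hC ⟨N.int i, N.dim i⟩ ?_⟩
    have h1 := hy _ (K464.Curves.gp_mem hC)
    rw [Scheme.IdealSheafData.support_comap]
    exact (Dix.PointIdeal.mem_support_pt (P i) (hPc i) _).2 h1
  · exfalso
    obtain ⟨z, hz, z', hz', hne⟩ := exists_two hC
    have hiso := S1682.result _ σ hσ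
    set I := Scheme.IdealSheafData.vanishingIdeal (⟨Set.range P, hZ⟩ : Closeds ↥(CohB1.ProjSpace 2 k)) with hI
    have hyU : y ∈ I.support.compl := by
      intro h1
      apply hyr
      have h2 : y ∈ ((I.support : Closeds _) : Set ↥(CohB1.ProjSpace 2 k)) := h1
      rw [hI, Scheme.IdealSheafData.coe_support_vanishingIdeal] at h2
      exact h2
    have hzU : z ∈ σ ⁻¹ᵁ I.support.compl := by
      change σ z ∈ I.support.compl
      rw [hy z hz]
      exact hyU
    have hzU' : z' ∈ σ ⁻¹ᵁ I.support.compl := by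
      change σ z' ∈ I.support.compl
      rw [hy z' hz']
      exact hyU
    have h3 : (σ ∣_ I.support.compl) ⟨z, hzU⟩ = (σ ∣_ I.support.compl) ⟨z', hzU'⟩ := by
      apply Subtype.ext
      rw [morphismRestrict_base_coe, morphismRestrict_base_coe]
      exact (hy z hz).trans (hy z' hz').symm
    have h4 := (σ ∣_ I.support.compl).isOpenEmbedding.injective h3
    exact hne (congrArg Subtype.val h4)

end K461.Contr
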