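import Groth.Agent.Surf.K461.ExcPts
import Groth.Agent.Surf.K461.NegTwo
import Groth.Agent.Surf.K455.ExcInt
import Groth.Agent.CurvesB.NodeCriterion
import Groth.Agent.S0023
import Groth.Agent.Dix.Cast1
import Groth.Agent.Lefpen.H717.ProjIrr
import Groth.Agent.Sga5.ProjSmooth

/-!
# Numerical invariants of the exceptional curves over a reduced finite set of closed points

`π : X' ⟶ X` the blow-up of `vanishingIdeal T`, `T` a closed set of closed points, `x ∈ T` a point with regular
two-dimensional local ring, `D = (pt x).comap π` the exceptional curve over `x`, `k` algebraically closed: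
* `exists_data`: the closed immersion `P¹ ⟶ X'` and `(D · M)`;
* `int_pull`: `(π^*L · D) = 0`; `int_self`: `(D·D) = -1`; `int_other`: `(D_x · D_y) = 0`.
* `subsingleton_quot`: `H^n(O_D) = 0` for `n ≥ 1`; `isIntegral_exc`: `D` is integral; `dim_exc`: of dimension one.
-/

set_option autoImplicit false
universe u
open CategoryTheory CategoryTheory.Limits AlgebraicGeometry TopologicalSpace

namespace K461.ExcNum

open Groth.Agent Groth.Agent.Ega2 Groth.Agent.Fga.PicMon Groth.Agent.Dix.PointIdeal K461.ExcPts K455 K455.ExcInt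

variable (k : Type u) [Field k] {X X' : Scheme.{u}} [X.Over (Spec (CommRingCat.of k))]
  [X'.Over (Spec (CommRingCat.of k))] [IsProper (X' ↘ Spec (CommRingCat.of k))]
  (π : X' ⟶ X) (hover : π ≫ (X ↘ Spec (CommRingCat.of k)) = X' ↘ Spec (CommRingCat.of k))
  (T : Closeds X) (hT : ∀ x ∈ (T : Set X), IsClosed ({x} : Set X))
  (hπ : BlowUp.IsBlowUp π (Scheme.IdealSheafData.vanishingIdeal T))
  (x : X) (hxT : x ∈ (T : Set X)) (hx : IsClosed ({x} : Set X)) [IsRegularLocalRing (X.presheaf.stalk x)]
  (hdim : ringKrullDim (X.presheaf.stalk x) = 2)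

/-- The residue field of a closed point over an algebraically closed field. -/
theorem finrank_residueField [IsAlgClosed k] [LocallyOfFiniteType (X ↘ Spec (CommRingCat.of k))] (x : X)
    (hx : IsClosed ({x} : Set X)) :
    letI : Algebra k (IsLocalRing.ResidueField (X.presheaf.stalk x)) := Curv2.resAlgebra k X x
    Module.finrank k (IsLocalRing.ResidueField (X.presheaf.stalk x)) = 1 := by
  letI : Algebra k (IsLocalRing.ResidueField (X.presheaf.stalk x)) := Curv2.resAlgebra k X x
  have h1 : Module.Finite k (IsLocalRing.ResidueField (X.presheaf.stalk x)) :=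
    (CurvesB.Node.isClosed_iff_finite (X ↘ Spec (CommRingCat.of k)) x).1 hx
  have h2 : Function.Bijective (algebraMap k (IsLocalRing.ResidueField (X.presheaf.stalk x))) :=
    IsAlgClosed.algebraMap_bijective_of_isIntegral
  have h3 := LinearEquiv.finrank_eq (LinearEquiv.ofBijective
    (Algebra.linearMap k (IsLocalRing.ResidueField (X.presheaf.stalk x))) h2)
  rw [← h3, Module.finrank_self]

omit [X.Over (Spec (CommRingCat.of k))] [IsRegularLocalRing (X.presheaf.stalk x)] in
include k hT hπ hxT in
theorem isEff : BlowUp.IsEffCartierIdeal ((pt x hx).comap π) := by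
  have : IsLocallyNoetherian X' := LocallyOfFiniteType.isLocallyNoetherian (X' ↘ Spec (CommRingCat.of k))
  exact isEff_comap_pt π T hT hπ x hxT hx

variable (hdim' : topologicalKrullDim X' ≤ (2 : ℕ))

include hover hT hπ hxT hdim hdim'

/-- The exceptional curve and its intersection numbers. -/
theorem exists_data :
    letI : Algebra k (IsLocalRing.ResidueField (X.presheaf.stalk x)) := Curv2.resAlgebra k X x
    ∃ (i : CohB1.ProjSpace 1 (IsLocalRing.ResidueField (X.presheaf.stalk x)) ⟶ X'), IsClosedImmersion i ∧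
      i.ker = (pt x hx).comap π ∧
      i ≫ π = CohB1.ProjSpace.toSpec 1 (IsLocalRing.ResidueField (X.presheaf.stalk x)) ≫ X.fromSpecResidueField x ∧
      Nonempty ((Scheme.Modules.pullback i).obj (ClSub.idealMod ((pt x hx).comap π)) ≅
        Twist.twistProjSpace 1 (IsLocalRing.ResidueField (X.presheaf.stalk x)) 1) ∧
      ∀ M : X'.Modules, PicF.IsInvertible M →
        FGA.intNum k X' 2 ![ClSub.idealMod ((pt x hx).comap π), M] (Coh.structureModule X') =
          Module.finrank k (IsLocalRing.ResidueField (X.presheaf.stalk x)) *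
            (FGA.eulerCharLE (IsLocalRing.ResidueField (X.presheaf.stalk x))
              (CohB1.ProjSpace 1 (IsLocalRing.ResidueField (X.presheaf.stalk x))) (Coh.structureModule _) 2 -
            FGA.eulerCharLE (IsLocalRing.ResidueField (X.presheaf.stalk x))
              (CohB1.ProjSpace 1 (IsLocalRing.ResidueField (X.presheaf.stalk x)))
              ((Scheme.Modules.pullback i).obj M) 2) := by
  letI : Algebra k (IsLocalRing.ResidueField (X.presheaf.stalk x)) := Curv2.resAlgebra k X x
  obtain ⟨i, hi, hker, hcomp, hN⟩ := ExcPts.exists_curve π x hx hdim _ hπ (comap_fromSpecStalk_eq T hT x hxT hx)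
    (isEff k π T hT hπ x hxT hx)
  rw [hker] at hN
  refine ⟨i, hi, hker, hcomp, hN, fun M hM => ?_⟩
  let K := IsLocalRing.ResidueField (X.presheaf.stalk x)
  let j : CohB1.ProjSpace 1 K ⟶ X' := i
  have hj : IsClosedImmersion j := hi
  have hcomp : j ≫ π = CohB1.ProjSpace.toSpec 1 K ≫ X.fromSpecResidueField x := hcomp
  let iO : (CohB1.ProjSpace 1 K).Over (Spec (CommRingCat.of k)) := ⟨j ≫ (X' ↘ Spec (CommRingCat.of k))⟩
  have hconst : ((CohB1.ProjSpace 1 K) ↘ Spec (CommRingCat.of k)) =
      ((CohB1.ProjSpace 1 K) ↘ Spec (CommRingCat.of K)) ≫ Spec.map (CommRingCat.ofHom (algebraMap k K)) := by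
    change j ≫ (X' ↘ Spec (CommRingCat.of k)) = CohB1.ProjSpace.toSpec 1 K ≫
      Spec.map (CommRingCat.ofHom (Curv2.resMap k X x))
    rw [← hover, reassoc_of% hcomp]
    exact congrArg (CohB1.ProjSpace.toSpec 1 K ≫ ·) (VarietyB.ResMap.specMap_resMap (k := k) X x).symm
  have h1 := CutKer.intNum_ideal k j rfl hdim' _ hker hM
  rw [h1, Dix.Cast0.eulerCharLE_const k K _ hconst, Dix.Cast0.eulerCharLE_const k K _ hconst]
  ring

/-- The exceptional curve is orthogonal to pulled back modules. -/
theorem int_pull {L : X.Modules} (hL : PicF.IsInvertible L) :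
    FGA.intNum k X' 2 ![ClSub.idealMod ((pt x hx).comap π), (Scheme.Modules.pullback π).obj L]
      (Coh.structureModule X') = 0 := by
  obtain ⟨i, hi, hker, hcomp, hN, h⟩ := exists_data k π hover T hT hπ x hxT hx hdim hdim'
  rw [h _ (Fdesc.LocGen.isInvertible_pullback π hL)]
  have h1 : Nonempty ((Scheme.Modules.pullback i).obj ((Scheme.Modules.pullback π).obj L) ≅
      Coh.structureModule _) := by
    have : Subsingleton (Spec (X.residueField x)) := inferInstanceAs (Subsingleton (PrimeSpectrum (X.residueField x)))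
    obtain ⟨e⟩ := pull_trivial (i ≫ π) _ _ hcomp L hL
    exact ⟨(Scheme.Modules.pullbackComp i π).app L ≪≫ e⟩
  obtain ⟨e⟩ := h1
  rw [euler_iso _ _ e 2, sub_self, mul_zero]

/-- The self-intersection of the exceptional curve. -/
theorem int_self [IsAlgClosed k] [LocallyOfFiniteType (X ↘ Spec (CommRingCat.of k))] :
    FGA.intNum k X' 2 ![ClSub.idealMod ((pt x hx).comap π), ClSub.idealMod ((pt x hx).comap π)]
      (Coh.structureModule X') = - 1 := by
  obtain ⟨i, hi, hker, hcomp, ⟨e⟩, h⟩ := exists_data k π hover T hT hπ x hxT hx hdim hdim'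
  rw [h _ (Dix.IdealModCartier.isInvertible_idealMod (isEff k π T hT hπ x hxT hx)), euler_iso _ _ e 2,
    euler_twist_one, finrank_residueField k x hx]
  rfl

/-- Distinct exceptional curves do not meet. -/
theorem int_other (y : X) (hyT : y ∈ (T : Set X)) (hy : IsClosed ({y} : Set X)) (hne : y ≠ x) :
    FGA.intNum k X' 2 ![ClSub.idealMod ((pt x hx).comap π), ClSub.idealMod ((pt y hy).comap π)]
      (Coh.structureModule X') = 0 := by
  obtain ⟨i, hi, hker, hcomp, -, h⟩ := exists_data k π hover T hT hπ x hxT hx hdim hdim'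
  have hEy := isEff k π T hT hπ y hyT hy
  rw [h _ (Dix.IdealModCartier.isInvertible_idealMod hEy)]
  have htop : ((pt y hy).comap π).comap i = ⊤ := by
    rw [← Scheme.IdealSheafData.support_eq_bot_iff]
    ext z
    rw [Scheme.IdealSheafData.support_comap, Scheme.IdealSheafData.support_comap]
    constructor
    · intro hz
      have h1 : π (i z) = y := (mem_support_pt y hy _).1 hz
      have h2 : π (i z) = x := by
        have h3 : i z ∈ i.ker.support := by
          exact Scheme.Hom.range_subset_ker_support i ⟨z, rfl⟩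
        rw [hker, Scheme.IdealSheafData.support_comap] at h3
        exact (mem_support_pt x hx _).1 h3
      exact (hne (h1.symm.trans h2)).elim
    · intro hz
      exact hz.elim
  have heff : BlowUp.IsEffCartierIdeal (((pt y hy).comap π).comap i) := by
    rw [htop]
    exact Divis.EffCartier.isEff_top
  obtain ⟨ψ⟩ := Dix.IdealModCartier.pullback_idealMod i hEy heff
  rw [htop] at ψ
  have h4 : mc (ClSub.idealMod (⊤ : (CohB1.ProjSpace 1 (IsLocalRing.ResidueField (X.presheaf.stalk x))).IdealSheafData)) = 1 :=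
    Curve.mc_idealMod_top
  rw [← mc_one] at h4
  obtain ⟨e⟩ := (mc_eq_iff _ _).1 h4
  rw [euler_iso _ _ (ψ ≪≫ e) 2, sub_self, mul_zero]

/-- The cohomology of the structure sheaf of the exceptional curve. -/
theorem subsingleton_quot (n : ℕ) (hn : 0 < n) : Subsingleton (Coh.HH X' (ClSub.quotMod ((pt x hx).comap π)) n) := by
  obtain ⟨i, hi, hker, hcomp, -, h⟩ := exists_data k π hover T hT hπ x hxT hx hdim hdim'
  obtain ⟨e⟩ := CutKer.nonempty_push_iso_quotMod i _ hker
  have h1 := Dix.Cast1.subsingleton_HH_push i (Coh.structureModule _) n (S0023.result 1 _ n hn)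
  exact (hmapEquiv k X' e n).toEquiv.subsingleton_congr.1 h1

theorem isIntegral_exc : IsIntegral ((pt x hx).comap π).subscheme := by
  obtain ⟨i, hi, hker, hcomp, -, h⟩ := exists_data k π hover T hT hπ x hxT hx hdim hdim'
  rw [← hker]
  have h1 : i.ker = i.ker.subschemeι.ker := by rw [Scheme.IdealSheafData.ker_subschemeι]
  have h2 := IsClosedImmersion.isIso_lift i.ker.subschemeι i h1.symm
  have h3 : IsIntegral (CohB1.ProjSpace 1 (IsLocalRing.ResidueField (X.presheaf.stalk x))) :=
    Lefpen.H717.ProjIrr.isIntegral_projSpace 1 _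
  obtain ⟨z⟩ := h3.nonempty
  have : Nonempty i.ker.subscheme := ⟨IsClosedImmersion.lift i.ker.subschemeι i h1.symm.le z⟩
  exact isIntegral_of_isOpenImmersion (inv (IsClosedImmersion.lift i.ker.subschemeι i h1.symm.le))

omit hover hdim hdim' hT hπ hxT in
theorem topologicalKrullDim_P1 (k : Type u) [Field k] : topologicalKrullDim (CohB1.ProjSpace 1 k) = 1 := by
  refine le_antisymm (CohqA.ProjDim.topologicalKrullDim_le k 1) ?_
  have h1 := (Sga5.ProjSmooth.chart 1 k 0).isOpenEmbedding.isInducing.topologicalKrullDim_le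
  refine le_trans ?_ h1
  have h2 : topologicalKrullDim (Spec (CommRingCat.of (MvPolynomial (Fin 1) k))) =
      ringKrullDim (MvPolynomial (Fin 1) k) :=
    PrimeSpectrum.topologicalKrullDim_eq_ringKrullDim _
  rw [h2, MvPolynomial.ringKrullDim_of_isNoetherianRing, ringKrullDim_eq_zero_of_field]
  simp

theorem dim_exc : topologicalKrullDim (((pt x hx).comap π).support : Set X') = 1 := by
  obtain ⟨i, hi, hker, hcomp, -, h⟩ := exists_data k π hover T hT hπ x hxT hx hdim hdim'
  rw [← hker, Scheme.Hom.support_ker, i.isClosedEmbedding.isClosed_range.closure_eq,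
    ← i.isClosedEmbedding.isEmbedding.toHomeomorph.isHomeomorph.topologicalKrullDim_eq]
  exact topologicalKrullDim_P1 _

end K461.ExcNum
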