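import Groth.Agent.Surf.K461.LineC
import Groth.Agent.Surf.K461.BlowPts
import Groth.Agent.Surf.K461.LerayAmp
import Groth.Agent.S3222
import Groth.Agent.CurvesC.DegZeroSec512
import Groth.Agent.Ega1.ReducedSub
import Groth.Agent.Dix.Cast1
import Groth.Agent.Dix.Cast2

/-!
# Three points not on a line: `H⁰(h x_a x_b x_c) = 0`

* `exists_pullHom`: if `O_P = σ_* O_X`, every section of `σ^*L` is pulled back from `P`.
* `eq_zero_of_vanish`: a section of `L` on `P` with no point of the closed set `T` in its generating locus is zero if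
  `H⁰(L ⊗ I_T) = 0`.
* `V_zero_of_lin`: for the blow-up of the plane, `H⁰(h x_a x_b x_c) = 0` if no line contains `P_a, P_b, P_c`.
-/

set_option autoImplicit false
universe u
open CategoryTheory CategoryTheory.Limits AlgebraicGeometry TopologicalSpace

namespace K461.LinTr

open Groth.Agent Groth.Agent.Fga.PicMon Groth.Agent.Fga Groth.Agent.Pic13.H11 Groth.Agent.Pic13.H11.Cls
  Groth.Agent.Fga.HodgeIneq
open Groth.Agent.Fga.HodgeForm K461.Neg K461.GG K461.PlaneH K461.SerreCl K461.Plane K461.PlaneE K461.LineC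
open Groth.Agent.Fdesc.LocGen hiding pullHom
open Groth.Agent.Ega2.Weight (pullHom genLocus_pullHom)
open K464.Curves (IsCurve)

section Sections

variable {X P : Scheme.{u}} (σ : X ⟶ P)

theorem bijective_app (h : IsIso ((Scheme.Modules.pullbackPushforwardAdjunction σ).unit.app (Coh.structureModule P)))
    (U : P.Opens) : Function.Bijective (σ.app U) := by
  have h1 : IsIso (Fga.UnitRestrict.unitToPush σ) := by
    rw [← Fga.UnitRestrict.unit_pullbackUnitHom]
    infer_instance
  have h2 : IsIso ((Fga.UnitRestrict.unitToPush σ).app U) := by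
    exact Scheme.Modules.Hom.isIso_iff_isIso_app.1 h1 U
  have h3 := (ConcreteCategory.isIso_iff_bijective ((Fga.UnitRestrict.unitToPush σ).app U)).1 h2
  exact h3

/-- `pullHom` and the pull back of morphisms. -/
theorem pullHom_eq {L : P.Modules} (t : Coh.structureModule P ⟶ L) :
    pullHom σ t = homOf (pullTop σ (one (X := P) ⊤)) ≫ (Scheme.Modules.pullback σ).map t := by
  apply (sec_bijective _).1
  change sec _ ⊤ = sec _ ⊤
  rw [sec_comp, sec_homOf, res_refl]
  unfold pullHom
  rw [sec_homOf, res_refl]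
  have h1 := (Scheme.Modules.pullbackPushforwardAdjunction σ).unit.naturality t
  exact congr(($h1).app ⊤ (one (X := P) ⊤))

/-- Sections of `σ^*L` are pulled back. -/
theorem exists_pullHom (h : IsIso ((Scheme.Modules.pullbackPushforwardAdjunction σ).unit.app (Coh.structureModule P)))
    {L : P.Modules} (hL : PicF.IsInvertible L) (t' : Coh.structureModule X ⟶ (Scheme.Modules.pullback σ).obj L) :
    ∃ t : Coh.structureModule P ⟶ L, t' = pullHom σ t := by
  have h1 := Grpsch.PicGrp.isIso_pullOne σ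
  obtain ⟨t, ht⟩ := (S3222.result σ (bijective_app σ h) (Coh.structureModule P) L
    (LerayAmp.isFinLocFree_of_isInvertible Fdesc.LocGen.isInvertible_structureModule)
    (LerayAmp.isFinLocFree_of_isInvertible hL)).2 (inv (homOf (pullTop σ (one (X := P) ⊤))) ≫ t')
  refine ⟨t, ?_⟩
  rw [pullHom_eq, show (Scheme.Modules.pullback σ).map t = _ from ht, IsIso.hom_inv_id_assoc]

/-- `H⁰(M) = 0` in terms of morphisms. -/
theorem hom_eq_zero {M : P.Modules} (h : Subsingleton (Coh.HH P M 0)) (t : Coh.structureModule P ⟶ M) : t = 0 := by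
  have h1 : Subsingleton Γ(M, ⊤) := (VarietyA.H0Equiv.hZeroEquiv M).toEquiv.subsingleton_congr.1 h
  exact (sec_bijective _).1 (Subsingleton.elim (α := Γ(M, ⊤)) _ _)

theorem pullHom_eq_zero_iff {L : P.Modules} (t : Coh.structureModule P ⟶ L) :
    pullHom σ t = 0 ↔ t ≫ (Scheme.Modules.pullbackPushforwardAdjunction σ).unit.app L = 0 := by
  have h1 : sec (pullHom σ t) ⊤ =
      sec (t ≫ (Scheme.Modules.pullbackPushforwardAdjunction σ).unit.app L) ⊤ := by
    unfold pullHom
    rw [sec_homOf, res_refl, sec_comp]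
    rfl
  constructor
  · intro h
    apply (sec_bijective _).1
    change sec _ ⊤ = sec _ ⊤
    rw [← h1, h]
    rfl
  · intro h
    apply (sec_bijective _).1
    change sec _ ⊤ = sec _ ⊤
    rw [h1, h]
    rfl

/-- A section vanishing at the points of `T` comes from `I_T ⊗ L`. -/
theorem eq_zero_of_vanish {L : P.Modules} (hL : PicF.IsInvertible L) (T : Closeds P)
    (h0 : Subsingleton (Coh.HH P (CohB1.tensorMod L
      (ClSub.idealMod (Scheme.IdealSheafData.vanishingIdeal T))) 0))
    (t : Coh.structureModule P ⟶ L) (ht : ∀ y ∈ (T : Set P), y ∉ CohB1.genLocus L t) : t = 0 := by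
  set J := Scheme.IdealSheafData.vanishingIdeal T with hJ
  have hred : IsReduced J.subscheme := Ega1.ReducedSub.isReduced_subscheme_vanishingIdeal T
  have h1 : pullHom J.subschemeι t = 0 := by
    refine CurvesC.DegZeroSec512.eq_zero_of_genLocus_eq_bot (Fdesc.LocGen.isInvertible_pullback _ hL) _ ?_
    rw [genLocus_pullHom J.subschemeι hL t, eq_bot_iff]
    intro z hz
    refine (ht (J.subschemeι z) ?_ hz).elim
    have h2 : J.subschemeι z ∈ ((J.support : Closeds P) : Set P) := by
      rw [← J.range_subschemeι]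
      exact ⟨z, rfl⟩
    have h3 : ((J.support : Closeds P) : Set P) = (T : Set P) :=
      Scheme.IdealSheafData.coe_support_vanishingIdeal T
    exact h3 ▸ h2
  rw [pullHom_eq_zero_iff] at h1
  have hS := Dix.Cast1.restrictSeq_shortExact J.subschemeι hL
  have := hS.mono_f
  let s := hS.exact.lift t h1
  have hs : s ≫ (Dix.Cast1.restrictSeq J.subschemeι L).f = t := hS.exact.lift_f t h1
  have h3 : Subsingleton (Coh.HH P (Dix.Cast1.restrictSeq J.subschemeι L).X₁ 0) := by
    have h4 : Subsingleton (Coh.HH P (CohB1.tensorMod (ClSub.idealMod J.subschemeι.ker) L) 0) := by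
      rw [J.ker_subschemeι]
      exact LerayAmp.subsingleton_HH_of_iso (Ega2.Tens.swap _ _) 0 h0
    exact h4
  have h5 := hom_eq_zero h3 s
  rw [h5, zero_comp] at hs
  exact hs.symm

/-- A section coming from `I_F ⊗ L` does not generate at the points of `F`. -/
theorem notMem_genLocus {L : X.Modules} (hL : PicF.IsInvertible L) (F : X.IdealSheafData)
    (s : Coh.structureModule X ⟶ (Dix.Cast1.restrictSeq F.subschemeι L).X₁) (z : X) (hz : z ∈ F.support) :
    z ∉ CohB1.genLocus L (s ≫ (Dix.Cast1.restrictSeq F.subschemeι L).f) := by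
  intro h
  obtain ⟨y, rfl⟩ : z ∈ Set.range F.subschemeι := by
    rw [F.range_subschemeι]
    exact hz
  let v : Coh.structureModule X ⟶ L := s ≫ (Dix.Cast1.restrictSeq F.subschemeι L).f
  have h1 : pullHom F.subschemeι v = 0 := by
    rw [pullHom_eq_zero_iff]
    have h2 := (Dix.Cast1.restrictSeq F.subschemeι L).zero
    change (s ≫ (Dix.Cast1.restrictSeq F.subschemeι L).f) ≫ (Dix.Cast1.restrictSeq F.subschemeι L).g = 0
    rw [Category.assoc, h2, comp_zero]
  have h3 := genLocus_pullHom F.subschemeι hL v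
  rw [Dix.Cast2.genLocus_zero _ h1] at h3
  have h4 : y ∈ F.subschemeι ⁻¹ᵁ CohB1.genLocus L v := h
  rw [← h3] at h4
  exact h4

end Sections

variable (k : Type u) [Field k] [IsAlgClosed k] {r : ℕ} {P : Fin r → ↥(CohB1.ProjSpace 2 k)}
  (hPc : ∀ i, IsClosed ({P i} : Set ↥(CohB1.ProjSpace 2 k))) (hZ : IsClosed (Set.range P))
  {X : Scheme.{u}} [X.Over (Spec (CommRingCat.of k))] (σ : X ⟶ CohB1.ProjSpace 2 k)
  (hσk : σ ≫ CohB1.ProjSpace.toSpec 2 k = X ↘ (Spec (CommRingCat.of k)))
  (hσ : BlowUp.IsBlowUp σ (Scheme.IdealSheafData.vanishingIdeal ⟨Set.range P, hZ⟩))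
  [IsIntegral X] [IsProper (X ↘ (Spec (CommRingCat.of k)))] [Smooth (X ↘ (Spec (CommRingCat.of k)))]

omit [IsAlgClosed k] [Smooth (X ↘ (Spec (CommRingCat.of k)))] [X.Over (Spec (CommRingCat.of k))]
  [IsProper (X ↘ (Spec (CommRingCat.of k)))] in
include hPc hσ in
theorem isIso_unit : IsIso ((Scheme.Modules.pullbackPushforwardAdjunction σ).unit.app
    (Coh.structureModule (CohB1.ProjSpace 2 k))) := by
  have h1 := Lefpen.H717.ProjIrr.isIntegral_projSpace 2 k
  have : IsLocallyNoetherian (CohB1.ProjSpace 2 k) :=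
    LocallyOfFiniteType.isLocallyNoetherian (CohB1.ProjSpace.toSpec 2 k)
  have hi := BlowPts.isRegularClosedImmersion ⟨Set.range P, hZ⟩ (by rintro _ ⟨l, rfl⟩; exact hPc l) (regular k)
  refine BlowPts.isIso_unit _ hi ?_ σ (by rw [Scheme.IdealSheafData.ker_subschemeι]; exact hσ)
  rw [BlowPts.range_vanishing]
  intro h
  obtain ⟨y, hy⟩ := exists_not_isClosed k
  have h2 : y ∈ Set.range P := by
    have : (Set.range P : Set (CohB1.ProjSpace 2 k)) = Set.univ := h
    rw [this]; trivial
  obtain ⟨i, rfl⟩ := h2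
  exact hy (hPc i)

include hσk hσ in
/-- **No line through three points.** -/
theorem V_zero_of_lin {w : (MC X)ˣ} {x : Fin r → (MC X)ˣ} (N : Num k (hcl k σ) w (exc k hPc σ) x) (a b c : Fin r)
    (hc : IsClosed ({P a, P b, P c} : Set ↥(CohB1.ProjSpace 2 k)))
    (h0 : Subsingleton (Coh.HH (CohB1.ProjSpace 2 k) (CohB1.tensorMod (Twist.twistProjSpace 2 k 1)
        (ClSub.idealMod (Scheme.IdealSheafData.vanishingIdeal ⟨{P a, P b, P c}, hc⟩))) 0)) :
    V 0 ((hcl k σ * x a * x b * x c : (MC X)ˣ) : MC X) := by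
  by_contra hne
  have hE := isEff_exc k hPc hZ σ hσ
  let F := exc k hPc σ a * exc k hPc σ b * exc k hPc σ c
  have hab : BlowUp.IsEffCartierIdeal (exc k hPc σ a * exc k hPc σ b) := Divis.EffCartier.isEff_mul (hE a) (hE b)
  have hF : BlowUp.IsEffCartierIdeal F := Divis.EffCartier.isEff_mul hab (hE c)
  have hx : ∀ i, ec (exc k hPc σ i) (hE i) = x i := fun i => Units.ext (by rw [ec_val, N.val])
  have hecF : ec F hF = x a * x b * x c := by
    rw [ec_mul hab (hE c) hF, ec_mul (hE a) (hE b) hab, hx, hx, hx]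
  let M := (Scheme.Modules.pullback σ).obj (Twist.twistProjSpace 2 k 1)
  have hM : PicF.IsInvertible M := isInvertible_pull σ 1
  have hMF : PicF.IsInvertible (CohB1.tensorMod (ClSub.idealMod F.subschemeι.ker) M) := by
    rw [F.ker_subschemeι]
    exact Fdesc.LocGen.isInvertible_tensorMod (Dix.IdealModCartier.isInvertible_idealMod hF) hM
  have hcl' : ((hcl k σ * x a * x b * x c : (MC X)ˣ) : MC X) =
      mc (CohB1.tensorMod (ClSub.idealMod F.subschemeι.ker) M) := by
    rw [F.ker_subschemeι, mc_tensor, ← ec_val F hF, hecF, mul_assoc, mul_assoc, ← mul_assoc (x a), mul_comm,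
      Units.val_mul]
    rfl
  rw [hcl', V_mc, not_subsingleton_iff_nontrivial] at hne
  have hfin := HodgeSec.finite_HH k hMF 0
  obtain ⟨s, hs⟩ := HodgeSec.exists_section k (L := CohB1.tensorMod (ClSub.idealMod F.subschemeι.ker) M)
    Module.finrank_pos
  let s' : Coh.structureModule X ⟶ (Dix.Cast1.restrictSeq F.subschemeι M).X₁ := s
  have hS := Dix.Cast1.restrictSeq_shortExact F.subschemeι hM
  have hmono := hS.mono_f
  let t' : Coh.structureModule X ⟶ M := s' ≫ (Dix.Cast1.restrictSeq F.subschemeι M).f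
  have ht' : t' ≠ 0 := fun h => hs (by
    have h1 : s' ≫ (Dix.Cast1.restrictSeq F.subschemeι M).f = 0 := h
    exact (cancel_mono (Dix.Cast1.restrictSeq F.subschemeι M).f).1 (h1.trans zero_comp.symm))
  obtain ⟨t, ht⟩ := exists_pullHom σ (isIso_unit k hPc hZ σ hσ) (FormalB.TwistGen.isInvertible_twistProjSpace 2 k 1) t'
  have hvan : ∀ i, exc k hPc σ i ∣ F → P i ∉ CohB1.genLocus _ t := by
    intro i hi hmem
    have hint := N.int i
    obtain ⟨z⟩ := hint.nonempty
    have hz : (exc k hPc σ i).subschemeι z ∈ (exc k hPc σ i).support := by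
      have h1 : (exc k hPc σ i).subschemeι z ∈ (((exc k hPc σ i).support : Closeds X) : Set X) := by
        rw [← (exc k hPc σ i).range_subschemeι]
        exact ⟨z, rfl⟩
      exact h1
    have hzF : (exc k hPc σ i).subschemeι z ∈ F.support := by
      obtain ⟨G, hG⟩ := hi
      rw [hG, Scheme.IdealSheafData.support_mul]
      exact Or.inl hz
    have h2 : (exc k hPc σ i).subschemeι z ∉ CohB1.genLocus M t' := notMem_genLocus hM F s' _ hzF
    apply h2
    rw [ht, genLocus_pullHom σ (FormalB.TwistGen.isInvertible_twistProjSpace 2 k 1)]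
    change σ ((exc k hPc σ i).subschemeι z) ∈ CohB1.genLocus _ t
    have h3 : σ ((exc k hPc σ i).subschemeι z) = P i := by
      rw [Scheme.IdealSheafData.support_comap] at hz
      exact (Dix.PointIdeal.mem_support_pt (P i) (hPc i) _).1 hz
    rw [h3]
    exact hmem
  have ht0 : t = 0 := by
    refine eq_zero_of_vanish (FormalB.TwistGen.isInvertible_twistProjSpace 2 k 1) ⟨{P a, P b, P c}, hc⟩ h0 t ?_
    intro y hy
    rcases hy with rfl | rfl | rfl
    · exact hvan a ⟨exc k hPc σ b * exc k hPc σ c, by rw [← mul_assoc]⟩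
    · exact hvan b ⟨exc k hPc σ a * exc k hPc σ c, by
        change exc k hPc σ a * exc k hPc σ b * exc k hPc σ c = _
        rw [← mul_assoc, mul_comm (exc k hPc σ b)]⟩
    · exact hvan c ⟨exc k hPc σ a * exc k hPc σ b, by
        change exc k hPc σ a * exc k hPc σ b * exc k hPc σ c = _
        rw [mul_comm]⟩
  apply ht'
  rw [ht, pullHom_eq_zero_iff, ht0, zero_comp]

end K461.LinTr
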