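import Groth.Agent.Surf.K461.Contr
import Groth.Agent.Surf.K465.Eff
import Groth.Agent.Surf.K464.Comp
import Groth.Agent.S1535

/-!
# Lines through two of the points, in the blow-up of the plane

* `exists_eff`: a class with sections is the class of an effective divisor.
* `Num` calculus: `bb x n = ∏ (x l)^(n l)` and its intersection numbers.
* `exists_line`: if `H⁰(h x_i x_j x_l) = 0` for the other `l`, there is an integral curve of class `h - E_i - E_j`
  of arithmetic genus zero.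
-/

set_option autoImplicit false
universe u
open CategoryTheory CategoryTheory.Limits AlgebraicGeometry TopologicalSpace

namespace K461.LineC

open Groth.Agent Groth.Agent.Fga.PicMon Groth.Agent.Fga Groth.Agent.Pic13.H11 Groth.Agent.Pic13.H11.Cls
  Groth.Agent.Fga.HodgeIneq
open Groth.Agent.Fga.HodgeForm K461.Neg K461.GG K461.PlaneH K461.SerreCl K461.Plane K461.PlaneE K461.NegTwo
open K464.Curves (IsCurve)

/-! ### Effective divisors -/

section Eff

variable {X : Scheme.{u}}

/-- The class of an effective Cartier ideal. -/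
noncomputable def ec (F : X.IdealSheafData) (hF : BlowUp.IsEffCartierIdeal F) : (MC X)ˣ :=
  unit (Dix.IdealModCartier.isInvertible_idealMod hF)

theorem ec_val (F : X.IdealSheafData) (hF : BlowUp.IsEffCartierIdeal F) :
    (ec F hF : MC X) = mc (ClSub.idealMod F) := unit_val _

theorem ec_mul {F G : X.IdealSheafData} (hF : BlowUp.IsEffCartierIdeal F) (hG : BlowUp.IsEffCartierIdeal G)
    (hFG : BlowUp.IsEffCartierIdeal (F * G)) : ec (F * G) hFG = ec F hF * ec G hG :=
  Units.ext (by rw [ec_val, Units.val_mul, ec_val, ec_val, Curve.mc_idealMod_mul hF hG])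

theorem ec_top (h : BlowUp.IsEffCartierIdeal (⊤ : X.IdealSheafData)) : ec ⊤ h = 1 :=
  Units.ext (by rw [ec_val, Units.val_one, Curve.mc_idealMod_top])

theorem exists_eff (k : Type u) [Field k] [X.Over (Spec (CommRingCat.of k))]
    [IsProper (X ↘ Spec (CommRingCat.of k))] [IsIntegral X] {v : (MC X)ˣ} (h0 : 0 < h k 0 (v : MC X)) :
    ∃ (F : X.IdealSheafData) (hF : BlowUp.IsEffCartierIdeal F), v = (ec F hF)⁻¹ := by
  obtain ⟨L, hL, rfl⟩ := exists_unit v
  rw [unit_val, h_mc] at h0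
  obtain ⟨s, hs⟩ := Fga.HodgeSec.exists_section k (L := L) h0
  obtain ⟨D, hD, hD'⟩ := K465.Eff.exists_eff hL s hs
  refine ⟨D, hD, ?_⟩
  have hI := Dix.IdealModCartier.isInvertible_idealMod hD
  have h1 : Grpsch.PicGrp.mk L hL * Grpsch.PicGrp.mk (ClSub.idealMod D) hI = 1 := by
    rw [hD']
    exact inv_mul_cancel _
  rw [Grpsch.PicGrp.mk_mul_mk, Grpsch.PicGrp.one_def, Grpsch.PicGrp.mk_eq_iff] at h1
  have h2 : unit hL * ec D hD = 1 := by
    apply Units.ext
    rw [Units.val_mul, unit_val, ec_val, ← mc_tensor, Units.val_one, ← mc_one]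
    exact (mc_eq_iff _ _).2 h1
  exact eq_inv_of_mul_eq_one_left h2

end Eff

/-! ### Calculus -/

section Calc

variable {k : Type u} [Field k] {X : Scheme.{u}} [X.Over (Spec (CommRingCat.of k))]
  [IsProper (X ↘ Spec (CommRingCat.of k))] {r : ℕ} {g w : (MC X)ˣ} {E : Fin r → X.IdealSheafData}
  {x : Fin r → (MC X)ˣ}

/-- The class `∏ (x l)^(n l)`, i.e. `O(- Σ n_l E_l)`. -/
noncomputable def bb (x : Fin r → (MC X)ˣ) (n : Fin r → ℤ) : (MC X)ˣ := ∏ l, x l ^ n l

theorem bb_add (x : Fin r → (MC X)ˣ) (m n : Fin r → ℤ) : bb x (m + n) = bb x m * bb x n := by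
  unfold bb
  rw [← Finset.prod_mul_distrib]
  exact Finset.prod_congr rfl fun l _ => zpow_add _ _ _

theorem bb_zero (x : Fin r → (MC X)ˣ) : bb x 0 = 1 := by
  unfold bb
  exact Finset.prod_eq_one fun l _ => zpow_zero _

theorem bb_neg (x : Fin r → (MC X)ˣ) (n : Fin r → ℤ) : bb x (-n) = (bb x n)⁻¹ := by
  rw [eq_inv_iff_mul_eq_one, ← bb_add, neg_add_cancel, bb_zero]

theorem bb_single (x : Fin r → (MC X)ˣ) (l : Fin r) (a : ℤ) : bb x (Pi.single l a) = x l ^ a := by
  unfold bb
  rw [Finset.prod_eq_single l]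
  · rw [Pi.single_eq_same]
  · intro m _ hm
    rw [Pi.single_eq_of_ne hm, zpow_zero]
  · intro h
    exact absurd (Finset.mem_univ l) h

theorem form_prod (hd : topologicalKrullDim X ≤ (2 : ℕ)) (s : Finset (Fin r)) (n : Fin r → ℤ) (v : (MC X)ˣ) :
    form k X (∏ l ∈ s, x l ^ n l) v = ∑ l ∈ s, n l * form k X (x l) v := by
  classical
  induction s using Finset.induction_on with
  | empty =>
    rw [Finset.prod_empty, Finset.sum_empty]
    have h1 := form_zpow_left k X hd 1 v 0
    rwa [one_zpow, zero_mul] at h1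
  | insert a s ha ih =>
    rw [Finset.prod_insert ha, Finset.sum_insert ha, form_mul_left k X hd, form_zpow_left k X hd, ih]

theorem form_bb (hd : topologicalKrullDim X ≤ (2 : ℕ)) (n : Fin r → ℤ) (v : (MC X)ˣ) :
    form k X (bb x n) v = ∑ l, n l * form k X (x l) v := form_prod hd _ n v

variable (N : Num k g w E x)

include N

theorem hd2 : topologicalKrullDim X ≤ (2 : ℕ) := N.hd.le

theorem form_bb_h (n : Fin r → ℤ) : form k X (bb x n) g = 0 := by
  rw [form_bb (hd2 N)]
  exact Finset.sum_eq_zero fun l _ => by rw [N.hx, mul_zero]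

theorem form_x_x (l m : Fin r) : form k X (x l) (x m) = if l = m then -1 else 0 := by
  split_ifs with h
  · rw [h, N.xx]
  · exact N.xy l m h

theorem form_bb_x (n : Fin r → ℤ) (m : Fin r) : form k X (bb x n) (x m) = - n m := by
  rw [form_bb (hd2 N), Finset.sum_eq_single m]
  · rw [N.xx]
    ring
  · intro l _ hl
    rw [N.xy l m hl, mul_zero]
  · intro h
    exact absurd (Finset.mem_univ m) h

theorem form_bb_w (n : Fin r → ℤ) : form k X (bb x n) w = ∑ l, n l := by
  rw [form_bb (hd2 N)]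
  exact Finset.sum_congr rfl fun l _ => by rw [N.xw, mul_one]

theorem form_bb_bb (n m : Fin r → ℤ) : form k X (bb x n) (bb x m) = - ∑ l, n l * m l := by
  rw [form_comm, form_bb (hd2 N), ← Finset.sum_neg_distrib]
  refine Finset.sum_congr rfl fun l _ => ?_
  rw [form_comm, form_bb_x N]
  ring

/-- The numbers of `h^a ∏ x^n`. -/
theorem form_gen_h (a : ℤ) (n : Fin r → ℤ) : form k X (g ^ a * bb x n) g = a := by
  rw [form_mul_left k X (hd2 N), form_zpow_left k X (hd2 N), N.hh, form_bb_h N]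
  ring

theorem form_gen_x (a : ℤ) (n : Fin r → ℤ) (m : Fin r) : form k X (g ^ a * bb x n) (x m) = - n m := by
  rw [form_mul_left k X (hd2 N), form_zpow_left k X (hd2 N), form_comm k X g, N.hx, form_bb_x N]
  ring

theorem form_gen_w (a : ℤ) (n : Fin r → ℤ) : form k X (g ^ a * bb x n) w = -3 * a + ∑ l, n l := by
  rw [form_mul_left k X (hd2 N), form_zpow_left k X (hd2 N), N.hw, form_bb_w N]
  ring

theorem form_gen_gen (a b : ℤ) (n m : Fin r → ℤ) : form k X (g ^ a * bb x n) (g ^ b * bb x m) =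
    a * b - ∑ l, n l * m l := by
  rw [form_mul_right k X (hd2 N), form_zpow_right k X (hd2 N), form_gen_h N, form_mul_left k X (hd2 N),
    form_zpow_left k X (hd2 N), form_comm k X g, form_bb_h N, form_bb_bb N]
  ring

/-- Riemann-Roch for `h^a ∏ x^n`. -/
theorem two_chi_gen (a : ℤ) (n : Fin r → ℤ) : 2 * chi k ((g ^ a * bb x n : (MC X)ˣ) : MC X) =
    a * a + 3 * a + 2 - ∑ l, (n l * n l + n l) := by
  rw [N.rr, form_gen_gen N, form_gen_w N, Finset.sum_add_distrib]
  ring

/-- Adding exceptional curves does not decrease `h^0`. -/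
theorem h_zero_le_bb (v : (MC X)ˣ) (n : Fin r → ℤ) (hn : ∀ l, n l ≤ 0) :
    h k 0 (v : MC X) ≤ h k 0 ((v * bb x n : (MC X)ˣ) : MC X) := by
  classical
  have := Neg.isNoetherian (X := X) k
  have h1 : ∀ (l : Fin r) (a : ℕ) (v : (MC X)ˣ), h k 0 (v : MC X) ≤ h k 0 ((v * (x l)⁻¹ ^ a : (MC X)ˣ) : MC X) := by
    intro l a
    induction a with
    | zero => intro v; rw [pow_zero, mul_one]
    | succ a ih =>
      intro v
      refine (ih v).trans ?_
      have hs := ses_twist_unit (E l) (N.val l) (v * (x l)⁻¹ ^ (a + 1))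
      have e1 : v * (x l)⁻¹ ^ (a + 1) * x l = v * (x l)⁻¹ ^ a := by
        rw [pow_succ, mul_assoc, mul_assoc, inv_mul_cancel, mul_one]
      rw [e1] at hs
      exact hs.h_zero_le k
  have h2 : ∀ (s : Finset (Fin r)) (v : (MC X)ˣ),
      h k 0 (v : MC X) ≤ h k 0 ((v * ∏ l ∈ s, x l ^ n l : (MC X)ˣ) : MC X) := by
    intro s
    induction s using Finset.induction_on with
    | empty => intro v; rw [Finset.prod_empty, mul_one]
    | insert a s ha ih =>
      intro v
      rw [Finset.prod_insert ha, ← mul_assoc]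
      refine le_trans ?_ (ih _)
      obtain ⟨b, hb⟩ := Int.eq_ofNat_of_zero_le (neg_nonneg.2 (hn a))
      have hb' : n a = -(b : ℤ) := by omega
      have e2 : x a ^ n a = (x a)⁻¹ ^ b := by rw [hb', zpow_neg, zpow_natCast, inv_pow]
      rw [e2]
      exact h1 a b v
  exact h2 _ v

end Calc

/-! ### The lines -/

variable (k : Type u) [Field k] [IsAlgClosed k] {r : ℕ} {P : Fin r → ↥(CohB1.ProjSpace 2 k)}
  (hPc : ∀ i, IsClosed ({P i} : Set ↥(CohB1.ProjSpace 2 k))) (hZ : IsClosed (Set.range P))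
  {X : Scheme.{u}} [X.Over (Spec (CommRingCat.of k))] (σ : X ⟶ CohB1.ProjSpace 2 k)
  (hσk : σ ≫ CohB1.ProjSpace.toSpec 2 k = X ↘ (Spec (CommRingCat.of k)))
  (hσ : BlowUp.IsBlowUp σ (Scheme.IdealSheafData.vanishingIdeal ⟨Set.range P, hZ⟩))
  [IsIntegral X] [IsProper (X ↘ (Spec (CommRingCat.of k)))] [Smooth (X ↘ (Spec (CommRingCat.of k)))]
  {w : (MC X)ˣ} {x : Fin r → (MC X)ˣ} (N : Num k (hcl k σ) w (exc k hPc σ) x)

include hσk hσ N

/-- Decomposition of effective divisors of small degree. -/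
theorem decomp (F : X.IdealSheafData) (hF : BlowUp.IsEffCartierIdeal F) :
    0 ≤ form k X (ec F hF)⁻¹ (hcl k σ) ∧
    (form k X (ec F hF)⁻¹ (hcl k σ) = 0 → ∃ b : Fin r → ℤ, (∀ l, 0 ≤ b l) ∧ ec F hF = bb x b) ∧
    (form k X (ec F hF)⁻¹ (hcl k σ) = 1 → ∃ (C : X.IdealSheafData) (hC : IsCurve C)
      (hCe : BlowUp.IsEffCartierIdeal C) (b : Fin r → ℤ), (∀ l, 0 ≤ b l) ∧ ec F hF = ec C hCe * bb x b) := by
  have hN := Neg.isNoetherian (X := X) k
  have hd := hd2 N
  suffices H : ∀ hF : BlowUp.IsEffCartierIdeal F, 0 ≤ form k X (ec F hF)⁻¹ (hcl k σ) ∧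
    (form k X (ec F hF)⁻¹ (hcl k σ) = 0 → ∃ b : Fin r → ℤ, (∀ l, 0 ≤ b l) ∧ ec F hF = bb x b) ∧
    (form k X (ec F hF)⁻¹ (hcl k σ) = 1 → ∃ (C : X.IdealSheafData) (hC : IsCurve C)
      (hCe : BlowUp.IsEffCartierIdeal C) (b : Fin r → ℤ), (∀ l, 0 ≤ b l) ∧ ec F hF = ec C hCe * bb x b) from H hF
  refine K464.Comp.eff_induction k (X ↘ Spec (CommRingCat.of k)) N.hd (fun x => S1535.result k X x)
    (P := fun F => ∀ hF : BlowUp.IsEffCartierIdeal F, 0 ≤ form k X (ec F hF)⁻¹ (hcl k σ) ∧
    (form k X (ec F hF)⁻¹ (hcl k σ) = 0 → ∃ b : Fin r → ℤ, (∀ l, 0 ≤ b l) ∧ ec F hF = bb x b) ∧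
    (form k X (ec F hF)⁻¹ (hcl k σ) = 1 → ∃ (C : X.IdealSheafData) (hC : IsCurve C)
      (hCe : BlowUp.IsEffCartierIdeal C) (b : Fin r → ℤ), (∀ l, 0 ≤ b l) ∧ ec F hF = ec C hCe * bb x b))
    ?_ ?_ F hF
  · intro hT
    have h1 : form k X (ec ⊤ hT)⁻¹ (hcl k σ) = 0 := by
      rw [ec_top, inv_one]
      have h2 := form_zpow_left k X hd 1 (hcl k σ) 0
      rwa [one_zpow, zero_mul] at h2
    rw [h1]
    refine ⟨le_rfl, fun _ => ⟨0, fun _ => le_rfl, ?_⟩, fun h => by norm_num at h⟩
    rw [ec_top, bb_zero]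
  · intro C F hC hCe hFe ih hCF
    obtain ⟨ih0, ih1, ih2⟩ := ih hFe
    have h1 : form k X (ec (C * F) hCF)⁻¹ (hcl k σ) = dg k C (hcl k σ) + form k X (ec F hFe)⁻¹ (hcl k σ) := by
      rw [ec_mul hCe hFe, mul_inv, form_mul_left k X hd, dg_eq_neg_form k hd C (ec_val C hCe), form_comm k X (hcl k σ)]
      congr 1
      have h2 := form_zpow_left k X hd (ec C hCe) (hcl k σ) (-1)
      rw [zpow_neg_one] at h2
      rw [h2]
      ring
    have h3 : dg k C (hcl k σ) ≤ 0 → dg k C (hcl k σ) = 0 ∧ ∃ l, ec C hCe = x l := by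
      intro h4
      obtain ⟨l, rfl⟩ := Contr.eq_exc k hPc hZ σ hσk hσ N hC h4
      refine ⟨?_, l, Units.ext ?_⟩
      · rw [dg_eq_neg_form k hd _ (N.val l), form_comm, N.hx, neg_zero]
      · rw [ec_val, N.val]
    rw [h1]
    rcases le_or_gt (dg k C (hcl k σ)) 0 with h4 | h4
    · obtain ⟨h5, l, hl⟩ := h3 h4
      rw [h5, zero_add]
      refine ⟨ih0, fun h6 => ?_, fun h6 => ?_⟩
      · obtain ⟨b, hb, hb'⟩ := ih1 h6
        refine ⟨b + Pi.single l 1, fun m => ?_, ?_⟩
        · rw [Pi.add_apply]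
          have := hb m
          by_cases hm : m = l
          · subst hm
            rw [Pi.single_eq_same]
            omega
          · rw [Pi.single_eq_of_ne hm]
            omega
        · rw [ec_mul hCe hFe, bb_add, bb_single, zpow_one, hb', hl, mul_comm]
      · obtain ⟨C', hC', hCe', b, hb, hb'⟩ := ih2 h6
        refine ⟨C', hC', hCe', b + Pi.single l 1, fun m => ?_, ?_⟩
        · rw [Pi.add_apply]
          have := hb m
          by_cases hm : m = l
          · subst hm
            rw [Pi.single_eq_same]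
            omega
          · rw [Pi.single_eq_of_ne hm]
            omega
        · rw [ec_mul hCe hFe, bb_add, bb_single, zpow_one, hb', hl, mul_comm, mul_assoc]
    · refine ⟨by omega, fun h6 => by omega, fun h6 => ?_⟩
      obtain ⟨b, hb, hb'⟩ := ih1 (by omega)
      refine ⟨C, hC, hCe, b, hb, ?_⟩
      rw [ec_mul hCe hFe, hb']

/-- **The line through `p_i` and `p_j`.** -/
theorem exists_line (i j : Fin r) (hij : i ≠ j)
    (hlin : ∀ l, l ≠ i → l ≠ j → V 0 ((hcl k σ * x i * x j * x l : (MC X)ˣ) : MC X)) :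
    ∃ (C : X.IdealSheafData), IsCurve C ∧ V 1 (mc (ClSub.quotMod C)) ∧
      mc (ClSub.idealMod C) = (((hcl k σ * x i * x j)⁻¹ : (MC X)ˣ) : MC X) := by
  have hN := Neg.isNoetherian (X := X) k
  have hd := hd2 N
  set g := hcl k σ with hg
  -- the class
  have hu : g * x i * x j = g ^ (1 : ℤ) * bb x (Pi.single i 1 + Pi.single j 1) := by
    rw [bb_add, bb_single, bb_single, zpow_one, zpow_one, zpow_one, mul_assoc]
  have hchi : chi k ((g * x i * x j : (MC X)ˣ) : MC X) = 1 := by
    have h1 := two_chi_gen N 1 (Pi.single i 1 + Pi.single j 1)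
    rw [← hu] at h1
    have h2 : ∑ l, (((Pi.single i 1 + Pi.single j 1 : Fin r → ℤ) l) * ((Pi.single i 1 + Pi.single j 1 : Fin r → ℤ) l) +
        (Pi.single i 1 + Pi.single j 1 : Fin r → ℤ) l) = 4 := by
      have h3 : ∀ l : Fin r, (((Pi.single i 1 + Pi.single j 1 : Fin r → ℤ) l) *
          ((Pi.single i 1 + Pi.single j 1 : Fin r → ℤ) l) + (Pi.single i 1 + Pi.single j 1 : Fin r → ℤ) l) =
          (if l = i then 2 else 0) + (if l = j then 2 else 0) := by
        intro l
        simp only [Pi.add_apply, Pi.single_apply]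
        by_cases h4 : l = i
        · have h5 : l ≠ j := fun h => hij (h4.symm.trans h)
          simp [h4, hij]
        · by_cases h5 : l = j
          · simp [h5, hij.symm]
          · simp [h4, h5]
      rw [Finset.sum_congr rfl fun l _ => h3 l, Finset.sum_add_distrib, Finset.sum_ite_eq', Finset.sum_ite_eq']
      simp
    rw [h2] at h1
    linarith
  have hfh : form k X (g * x i * x j) g = 1 := by
    rw [hu]
    exact form_gen_h N 1 _
  have h0 : 0 < h k 0 ((g * x i * x j : (MC X)ˣ) : MC X) := by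
    have h1 := chi_eq_three k hd (g * x i * x j)
    rw [h_eq_zero k (N.v2 _ (by rw [hfh]; norm_num)), hchi] at h1
    omega
  obtain ⟨F, hF, hFu⟩ := exists_eff k h0
  obtain ⟨-, -, h3⟩ := decomp k hPc hZ σ hσk hσ N F hF
  rw [← hFu] at h3
  obtain ⟨C, hC, hCe, b, hb, hb'⟩ := h3 hfh
  -- the class of `C`
  have hinv : (ec C hCe)⁻¹ = g ^ (1 : ℤ) * bb x (Pi.single i 1 + Pi.single j 1 + b) := by
    have h4 : ec F hF = (g * x i * x j)⁻¹ := by rw [hFu, inv_inv]
    rw [h4] at hb'
    rw [bb_add, ← mul_assoc, ← hu]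
    have h5 : ec C hCe = (g * x i * x j)⁻¹ * (bb x b)⁻¹ := by
      rw [hb', mul_inv_cancel_right]
    rw [h5, mul_inv, inv_inv, inv_inv]
  set c : Fin r → ℤ := Pi.single i 1 + Pi.single j 1 + b with hc
  have hec : ec C hCe = g ^ (-1 : ℤ) * bb x (-c) := by
    rw [bb_neg, zpow_neg_one, ← mul_inv, ← zpow_one g, ← hinv, inv_inv]
  have hχ := two_chi_gen N (-1) (-c)
  rw [← hec] at hχ
  have h5 := (ses_ideal C).chi_eq k
  have h6 := chi_quot k C hC.integral hC.dim
  rw [N.chi1, h6, ← ec_val C hCe] at h5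
  have h7 : ∀ l, 0 ≤ c l * c l - c l := fun l => by
    rcases le_or_gt (c l) 0 with h8 | h8
    · nlinarith
    · nlinarith
  have h8 : ∑ l, ((-c) l * (-c) l + (-c) l) = ∑ l, (c l * c l - c l) :=
    Finset.sum_congr rfl fun l _ => by rw [Pi.neg_apply]; ring
  rw [h8] at hχ
  have h9 : 0 ≤ ∑ l, (c l * c l - c l) := Finset.sum_nonneg fun l _ => h7 l
  have h10 : (0 : ℤ) ≤ (h k 1 (mc (ClSub.quotMod C)) : ℤ) := by positivity
  have h11 : ∑ l, (c l * c l - c l) = 0 := by
    push_cast at h5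
    linarith
  have h12 : h k 1 (mc (ClSub.quotMod C)) = 0 := by
    have : (h k 1 (mc (ClSub.quotMod C)) : ℤ) = 0 := by linarith
    exact_mod_cast this
  have h13 : ∀ l, c l * c l - c l = 0 := fun l =>
    (Finset.sum_eq_zero_iff_of_nonneg fun l _ => h7 l).1 h11 l (Finset.mem_univ l)
  have h14 : ∀ l, c l = 0 ∨ c l = 1 := fun l => by
    have h15 : c l * (c l - 1) = 0 := by linarith [h13 l]
    rcases mul_eq_zero.1 h15 with h | h
    · exact Or.inl h
    · exact Or.inr (by linarith)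
  -- `b = 0`
  have hb0 : b = 0 := by
    ext l
    rw [Pi.zero_apply]
    have h15 := h14 l
    have h16 := hb l
    rw [hc, Pi.add_apply, Pi.add_apply] at h15
    by_cases hli : l = i
    · subst hli
      rw [Pi.single_eq_same, Pi.single_eq_of_ne hij] at h15
      omega
    · by_cases hlj : l = j
      · subst hlj
        rw [Pi.single_eq_same, Pi.single_eq_of_ne hli] at h15
        omega
      · rw [Pi.single_eq_of_ne hli, Pi.single_eq_of_ne hlj] at h15
        by_contra hne
        have h17 : b l = 1 := by omega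
        have h18 := h_eq_zero k (hlin l hli hlj)
        have h19 : g * x i * x j * x l = (ec C hCe)⁻¹ * bb x (-b + Pi.single l 1) := by
          rw [hinv, hu, mul_assoc, mul_assoc, ← bb_add, hc,
            show Pi.single i (1 : ℤ) + Pi.single j 1 + b + (-b + Pi.single l 1) =
              Pi.single i 1 + Pi.single j 1 + Pi.single l 1 by abel,
            bb_add x _ (Pi.single l 1), bb_single, zpow_one, zpow_one]
        have h20 : 1 ≤ h k 0 (((ec C hCe)⁻¹ : (MC X)ˣ) : MC X) := one_le_h_zero_inv k C (ec_val C hCe)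
        have h21 := h_zero_le_bb N (ec C hCe)⁻¹ (-b + Pi.single l 1) fun m => by
          rw [Pi.add_apply, Pi.neg_apply]
          have := hb m
          by_cases hm : m = l
          · subst hm
            rw [Pi.single_eq_same]
            omega
          · rw [Pi.single_eq_of_ne hm]
            omega
        rw [← h19] at h21
        omega
  refine ⟨C, hC, ?_, ?_⟩
  · rw [V_mc]
    rw [h_mc] at h12
    have hfin := HodgeSec.finite_HH' k (VarietyB.DegCartier.isCoh_quotMod C) 1
    exact Module.finrank_zero_iff.1 h12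
  · rw [← ec_val C hCe]
    congr 1
    rw [eq_comm, ← inv_inj, inv_inv, hinv, hc, hb0, add_zero, ← hu]

end K461.LineC
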