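import Groth.Agent.Surf.K461.PencilP

/-!
# `(-1)`-curves and the pencil of lines through one point

* `NC`: a `(-1)`-curve `E` with ideal class `y`.
* `V_one_inv`, `h_zero_inv`, `EV_inv`: cohomology of `O(E)`.
* `push_inv`: `π_*O(E) = O(-1)^R ⊕ O`; `push_pos`, `push_zero`: `π_*I_E`.
* `V_one_of_contains`: the vanishing of `H¹(L)` if `L - E` is effective and `L·F = E·F`.
-/

set_option autoImplicit false
universe u
open CategoryTheory CategoryTheory.Limits AlgebraicGeometry TopologicalSpace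

namespace K461.PencilE

open Groth.Agent Groth.Agent.Fga.PicMon Groth.Agent.Fga Groth.Agent.Pic13.H11 Groth.Agent.Pic13.H11.Cls
  Groth.Agent.Fga.HodgeIneq
open Groth.Agent.Fga.HodgeForm K461.Neg K461.GG K461.PlaneH K461.SerreCl K461.Plane K461.PlaneE K461.LineC
open K461.PencilR K461.PencilMain K461.PencilS K461.PencilP K461.NegTwo
open K464.Curves (IsCurve)
open K443.P1V (O)
open K700.HDim (fr)

/-- A `(-1)`-curve `E` with ideal class `y`. -/
structure NC (k : Type u) [Field k] {X : Scheme.{u}} [X.Over (Spec (CommRingCat.of k))]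
    (E : X.IdealSheafData) (y : (MC X)ˣ) : Prop where
  curve : IsCurve E
  val : (y : MC X) = mc (ClSub.idealMod E)
  h1 : V 1 (mc (ClSub.quotMod E))
  yy : form k X y y = -1

section comb

variable {ι : Type} [Fintype ι] (a : ι → ℤ)

/-- Integers `≥ -1` with `∑ (a_j + 1)⁺ = 1`. -/
theorem comb (h : ∀ j, -1 ≤ a j) (hs : ∑ j, max (a j + 1) 0 = 1) (n : ℤ) :
    ∑ j, max (a j + n + 1) 0 = (Fintype.card ι - 1 : ℤ) * max n 0 + max (n + 1) 0 := by
  classical
  have h1 : ∀ j, a j + 1 ≤ 1 := fun j => by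
    refine (le_max_left (a j + 1) 0).trans (le_of_le_of_eq ?_ hs)
    exact Finset.single_le_sum (f := fun j => max (a j + 1) 0) (fun i _ => le_max_right _ _) (Finset.mem_univ j)
  have h2 : ∀ j, max (a j + n + 1) 0 = max n 0 + max (a j + 1) 0 * (max (n + 1) 0 - max n 0) := fun j => by
    have h3 := h j
    have h4 := h1 j
    rcases (show a j = -1 ∨ a j = 0 by omega) with h5 | h5
    · rw [h5]
      simp
    · rw [h5]
      simp
  rw [Finset.sum_congr rfl fun j _ => h2 j, Finset.sum_add_distrib, ← Finset.sum_mul, hs, Finset.sum_const,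
    Finset.card_univ, nsmul_eq_mul]
  ring

/-- Growth of `∑ (a_j + n + 1)⁺`. -/
theorem comb₂ (h : ∀ j, a j < 0) {n₀ : ℤ} (h1 : ∀ n : ℤ, n₀ ≤ n → n ≤ ∑ j, max (a j + n + 1) 0)
    (h2 : ∀ n : ℤ, n₀ ≤ n → ∑ j, max (a j + n + 1) 0 ≤ n + 1) (n : ℤ) :
    ∑ j, max (a j + n + 1) 0 = max n 0 := by
  classical
  -- all the terms are positive for large `m`
  obtain ⟨m, hm0, hm⟩ : ∃ m : ℤ, n₀ ≤ m ∧ ∀ j, 0 ≤ a j + m + 1 := by
    refine ⟨|n₀| + ∑ j, |a j|, ?_, fun j => ?_⟩
    · have := le_abs_self n₀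
      have h3 : (0 : ℤ) ≤ ∑ j, |a j| := Finset.sum_nonneg fun j _ => abs_nonneg _
      omega
    · have h3 : |a j| ≤ ∑ j, |a j| := Finset.single_le_sum (f := fun j => |a j|) (fun j _ => abs_nonneg _)
        (Finset.mem_univ j)
      have h4 := neg_abs_le (a j)
      have h5 := abs_nonneg n₀
      omega
  have hS : ∀ t : ℤ, 0 ≤ t → ∑ j, max (a j + (m + t) + 1) 0 = ∑ j, (a j + 1) + Fintype.card ι * (m + t) := by
    intro t ht
    rw [Finset.sum_congr rfl (g := fun j => (a j + 1) + (m + t)) (fun j _ => by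
      rw [max_eq_left (by have := hm j; omega)]; ring), Finset.sum_add_distrib, Finset.sum_const,
      Finset.card_univ, nsmul_eq_mul]
  have e0 := hS 0 le_rfl
  have e2 := hS 2 (by norm_num)
  have hcard : (Fintype.card ι : ℤ) = 1 := by
    have i1 := h1 (m + 0) (by omega)
    have i2 := h2 (m + 0) (by omega)
    have i3 := h1 (m + 2) (by omega)
    have i4 := h2 (m + 2) (by omega)
    rw [e0] at i1 i2
    rw [e2] at i3 i4
    have i5 : (Fintype.card ι : ℤ) * (m + 2) = Fintype.card ι * (m + 0) + 2 * Fintype.card ι := by ring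
    omega
  have hc : Fintype.card ι = 1 := by exact_mod_cast hcard
  obtain ⟨j₀, hj₀⟩ := Fintype.card_eq_one_iff.1 hc
  have hu : ∀ F : ι → ℤ, ∑ j, F j = F j₀ := fun F =>
    Finset.sum_eq_single j₀ (fun j _ hj => absurd (hj₀ j) hj) fun h => absurd (Finset.mem_univ _) h
  rw [hu]
  have i1 := h1 (m + 0) (by omega)
  rw [e0, hu, hcard] at i1
  have i2 := h j₀
  rw [show a j₀ = -1 by omega]
  congr 1
  ring

end comb

section calcs

variable {k : Type u} [Field k] [IsAlgClosed k] {X : Scheme.{u}} [X.Over (Spec (CommRingCat.of k))] [IsIntegral X]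
  [IsProper (X ↘ (Spec (CommRingCat.of k)))] [Smooth (X ↘ (Spec (CommRingCat.of k)))] {r : ℕ}
  {g w : (MC X)ˣ} {F : Fin r → X.IdealSheafData} {x : Fin r → (MC X)ˣ} (N : Num k g w F x)
  {E : X.IdealSheafData} {y : (MC X)ˣ} (C : NC k E y)

omit [Smooth (X ↘ (Spec (CommRingCat.of k)))] in
include N in
theorem V_one_one : V 1 (1 : MC X) := by
  refine V_of_h_zero k 1 1 ?_
  have h3 := chi_eq_three k (hd2 N) 1
  have h4 : V 2 ((1 : (MC X)ˣ) : MC X) := N.v2 1 (by
    have h5 := form_zpow_left k X (hd2 N) 1 g 0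
    rw [one_zpow, zero_mul] at h5
    rw [h5]
    norm_num)
  rw [h_eq_zero k h4] at h3
  have h6 : Cls.h k 0 ((1 : (MC X)ˣ) : MC X) = 1 := h_zero_one k
  have h7 : chi k ((1 : (MC X)ˣ) : MC X) = 1 := N.chi1
  rw [h6, h7] at h3
  have h8 : ((h k 1 ((1 : (MC X)ˣ) : MC X) : ℕ) : ℤ) = 0 := by
    push_cast at h3 ⊢
    linarith
  exact_mod_cast h8

include N C

omit [Smooth (X ↘ (Spec (CommRingCat.of k)))] [IsAlgClosed k] [IsIntegral X] in
theorem dg_inv_self : dg k E y⁻¹ = -1 := by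
  rw [dg_inv k (hd2 N) E C.val, dg_eq_neg_form k (hd2 N) E C.val, C.yy]
  ring

omit [Smooth (X ↘ (Spec (CommRingCat.of k)))] in
theorem V_one_inv : V 1 ((y⁻¹ : (MC X)ˣ) : MC X) := by
  refine (ses_inv k E C.val).V_mid (V_one_one N) (V_one_of_dg k E C.curve.integral C.curve.dim _ ?_)
  have h1 : Module.finrank k (Coh.HH X (ClSub.quotMod E) 1) = 0 := by
    have := h_eq_zero k C.h1
    rwa [h_mc] at this
  rw [h1, dg_inv_self N C]
  norm_num

omit [Smooth (X ↘ (Spec (CommRingCat.of k)))] in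
theorem h_zero_inv : Cls.h k 0 ((y⁻¹ : (MC X)ˣ) : MC X) = 1 := by
  refine le_antisymm ?_ (one_le_h_zero_inv k E C.val)
  have h1 := (ses_inv k E C.val).h_le k 0
  rw [h_zero_one k, h_eq_zero k (V_zero_of_dg_neg k E C.curve.integral C.curve.dim y⁻¹
    (by rw [dg_inv_self N C]; norm_num))] at h1
  exact h1

section pencil

variable (j : Fin r) {M : X.Modules} (hM : PicF.IsInvertible M) (hB : BPF M) (hf : g * x j = unit hM)

include hB hf

theorem dg_nonneg : 0 ≤ dg k E (g * x j) := by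
  have h1 := form_nonneg k (hd2 N) hM hB (u := y⁻¹) (by rw [h_zero_inv N C]; exact one_pos)
  rw [← hf] at h1
  have h2 := form_zpow_left k X (hd2 N) y (g * x j) (-1)
  rw [zpow_neg_one] at h2
  rw [dg_eq_neg_form k (hd2 N) E C.val, form_comm]
  rw [h2] at h1
  linarith

theorem EV_inv : EV (g * x j) y⁻¹ := by
  have h0 := dg_nonneg N C j hM hB hf
  refine EV.add k C.curve C.val C.h1 ?_ ⟨0, fun n hn => ?_⟩
  · have h1 := EV_xj N j hM hB hf 0 (by norm_num)
    rwa [zpow_zero, ← inv_mul_cancel y] at h1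
  · rw [dg_mul k (hd2 N) E C.val, dg_zpow k (hd2 N) E C.val, dg_inv_self N C]
    have := mul_nonneg hn h0
    linarith

end pencil

section push

variable (j : Fin r) (π : X ⟶ CohB1.ProjSpace 1 k)
  (hπk : π ≫ CohB1.ProjSpace.toSpec 1 k = X ↘ (Spec (CommRingCat.of k)))
  (hf : g * x j = unit (isInvertible_pull π 1)) [HasInjectiveResolutions X.Modules]

include hπk hf

theorem R1_inv {L : X.Modules} (hL : PicF.IsInvertible L) (hLv : ((y⁻¹ : (MC X)ˣ) : MC X) = mc L) :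
    IsZero ((Coh.Rpush π 1).obj L) :=
  isZero_rpush k π hπk (by rw [hf, unit_val]) hLv 1 (HodgeSec.isCoh_of_isInvertible hL)
    (EV_inv N C j (isInvertible_pull π 1) (bpf_pull π) hf)

/-- **`π_*O(E) ≅ O(-1)^R ⊕ O`.** -/
theorem push_inv {L : X.Modules} (hL : PicF.IsInvertible L) (hLv : ((y⁻¹ : (MC X)ˣ) : MC X) = mc L) (R : ℕ)
    (hR : (R : ℤ) = dg k E (g * x j)) : Nonempty ((Coh.push π).obj L ≅
      (∐ fun _ : Fin R => Twist.twistProjSpace 1 k (-1)) ⨿ Coh.structureModule (CohB1.ProjSpace 1 k)) := by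
  have hfv : ((g * x j : (MC X)ˣ) : MC X) = mc ((Scheme.Modules.pullback π).obj (O k 1)) := by rw [hf, unit_val]
  have hR1 := R1_inv N C j π hπk hf hL hLv
  obtain ⟨ρ, a, hρ, -, e⟩ := split_push k N j π hπk hfv hL y⁻¹ hLv hR1
  have hρR : (ρ : ℤ) = R + 1 := by
    rw [hρ, hR, dg_eq_neg_form k (hd2 N) E C.val, form_comm k X (g * x j) y⁻¹]
    have h2 := form_zpow_left k X (hd2 N) y (g * x j) (-1)
    rw [zpow_neg_one] at h2
    rw [h2, form_comm k X y]
    ring
  have h1 : ∀ i, -1 ≤ a i := fun i => by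
    have h2 := h1_push k π hfv hπk hLv hL hR1 0
    rw [zpow_zero, one_mul, h_eq_zero k (V_one_inv N C)] at h2
    have := K443.P1V.ge_of_h1 e 0 h2 i
    omega
  have h2 : ∑ i, max (a i + 1) 0 = 1 := by
    rw [← K443.P1V.h0_V e, h0_push_zero k π hfv hπk hLv, h_zero_inv N C]
    rfl
  obtain ⟨e1⟩ := K443.P1V.nonempty_iso_of_h0 e (κ := Fin R ⊕ Unit) (Sum.elim (fun _ => -1) (fun _ => 0)) (by
    intro n
    rw [K443.P1V.h0_sum e, comb a h1 h2 n, Fintype.card_fin, hρR, Fintype.sum_sum_type]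
    simp)
  obtain ⟨e2⟩ := Sga67.SerreVB.nonempty_twist_zero 1 k
  refine ⟨e1 ≪≫ Sigma.mapIso (fun i => ?_) ≪≫ (K443.P1V.sumIso₁ (fun _ : Fin R => Twist.twistProjSpace 1 k (-1))
    (Twist.twistProjSpace 1 k 0)).symm ≪≫ coprod.mapIso (Iso.refl _) e2⟩
  match i with
  | Sum.inl _ => exact Iso.refl _
  | Sum.inr _ => exact Iso.refl _

end push

end calcs

end K461.PencilE
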