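import Groth.Agent.Surf.K461.LinTr
import Groth.Agent.Surf.K461.LerayAmp

/-!
# The conic bundle `π : X ⟶ P¹` of a blow-up of the plane: `R¹π_* L = 0`

`f = g x_j` the class of `π^*O(1)`.
* `EV f A`: `H¹(fⁿ A) = 0` for `n ≫ 0`.
* `EV_main`: `EV f (g^a ∏ x^n)` if `-1 ≤ n_i ≤ a - n_j` for all `i ≠ j` and `-1 ≤ a - n_j`.
* `isZero_rpush_of_EV`, `EV_of_isZero`: comparison with `R¹π_*`.
-/

set_option autoImplicit false
universe u
open CategoryTheory CategoryTheory.Limits AlgebraicGeometry TopologicalSpace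

namespace K461.PencilR

open Groth.Agent Groth.Agent.Fga.PicMon Groth.Agent.Fga Groth.Agent.Pic13.H11 Groth.Agent.Pic13.H11.Cls
  Groth.Agent.Fga.HodgeIneq
open Groth.Agent.Fga.HodgeForm K461.Neg K461.GG K461.PlaneH K461.SerreCl K461.Plane K461.PlaneE K461.LineC
open K464.Curves (IsCurve)

section EV

variable (k : Type u) [Field k] {X : Scheme.{u}} [X.Over (Spec (CommRingCat.of k))]
  [IsProper (X ↘ Spec (CommRingCat.of k))]

theorem V_of_h_zero (v : (MC X)ˣ) (i : ℕ) (h0 : h k i (v : MC X) = 0) : V i (v : MC X) := by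
  obtain ⟨L, hL, rfl⟩ := exists_unit v
  rw [unit_val, h_mc] at h0
  rw [unit_val, V_mc]
  have := HodgeSec.finite_HH k hL i
  exact Module.finrank_zero_iff.1 h0

omit [X.Over (Spec (CommRingCat.of k))] [IsProper (X ↘ Spec (CommRingCat.of k))] in
/-- `H¹(fⁿ A) = 0` for `n ≫ 0`. -/
def EV (f A : (MC X)ˣ) : Prop := ∃ n₀ : ℤ, ∀ n : ℤ, n₀ ≤ n → V 1 ((f ^ n * A : (MC X)ˣ) : MC X)

omit [X.Over (Spec (CommRingCat.of k))] [IsProper (X ↘ Spec (CommRingCat.of k))] in
theorem EV.shift {f A : (MC X)ˣ} (h : EV f A) (m : ℤ) : EV f (f ^ m * A) := by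
  obtain ⟨n₀, h⟩ := h
  refine ⟨n₀ - m, fun n hn => ?_⟩
  rw [← mul_assoc, ← zpow_add]
  exact h _ (by omega)

variable [IsAlgClosed k]

/-- Adding a curve of arithmetic genus zero. -/
theorem EV.add {f A c : (MC X)ˣ} {C : X.IdealSheafData} (hC : IsCurve C) (hc : (c : MC X) = mc (ClSub.idealMod C))
    (hC1 : V 1 (mc (ClSub.quotMod C))) (h : EV f (A * c)) (hd : ∃ n₁ : ℤ, ∀ n : ℤ, n₁ ≤ n → -1 ≤ dg k C (f ^ n * A)) :
    EV f A := by
  have := Neg.isNoetherian (X := X) k
  obtain ⟨n₀, h⟩ := h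
  obtain ⟨n₁, hd⟩ := hd
  refine ⟨max n₀ n₁, fun n hn => ?_⟩
  have hs := ses_twist_unit C hc (f ^ n * A)
  rw [mul_assoc] at hs
  refine hs.V_mid (h n ((le_max_left _ _).trans hn)) ?_
  rw [← mul_assoc] at *
  refine V_one_of_dg k C hC.integral hC.dim _ ?_
  have h1 : Module.finrank k (Coh.HH X (ClSub.quotMod C) 1) = 0 := by
    have := h_eq_zero k hC1
    rwa [h_mc] at this
  rw [h1]
  have := hd n ((le_max_right _ _).trans hn)
  simpa using this

end EV

section Pencil

variable {k : Type u} [Field k] {X : Scheme.{u}} [X.Over (Spec (CommRingCat.of k))]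
  [IsProper (X ↘ Spec (CommRingCat.of k))] {r : ℕ} {g w : (MC X)ˣ} {E : Fin r → X.IdealSheafData}
  {x : Fin r → (MC X)ˣ} (N : Num k g w E x) (j : Fin r)

include N

theorem form_zpow_mul (f A B : (MC X)ˣ) (n : ℤ) : form k X (f ^ n * A) B = n * form k X f B + form k X A B := by
  rw [form_mul_left k X (hd2 N), form_zpow_left k X (hd2 N)]

theorem f_g : form k X (g * x j) g = 1 := by
  rw [form_mul_left k X (hd2 N), N.hh, N.hx]
  rfl

theorem f_xj : form k X (g * x j) (x j) = -1 := by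
  rw [form_mul_left k X (hd2 N), form_comm k X g, N.hx, N.xx]
  rfl

theorem f_xi (i : Fin r) (hi : i ≠ j) : form k X (g * x j) (x i) = 0 := by
  rw [form_mul_left k X (hd2 N), form_comm k X g, N.hx, N.xy j i hi.symm]
  rfl

theorem f_f : form k X (g * x j) (g * x j) = 0 := by
  rw [form_mul_right k X (hd2 N), f_g N, f_xj N]
  rfl

theorem f_w : form k X (g * x j) w = -2 := by
  rw [form_mul_left k X (hd2 N), N.hw, N.xw]
  rfl

variable [IsAlgClosed k] [IsIntegral X] {M : X.Modules} (hM : PicF.IsInvertible M) (hB : BPF M)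
  (hf : g * x j = unit hM)

include hB hf in
/-- `H^i(nF - E_j) = 0` for `n ≥ 0`. -/
theorem V_base (n : ℤ) (hn : 0 ≤ n) (i : ℕ) : V i (((g * x j) ^ n * x j : (MC X)ˣ) : MC X) := by
  have hN := Neg.isNoetherian (X := X) k
  have h0 : V 0 (((g * x j) ^ n * x j : (MC X)ˣ) : MC X) := by
    refine V_zero_of_form_neg k (hd2 N) hM hB ?_
    rw [← hf, form_zpow_mul N, f_f N, form_comm k X (x j), f_xj N]
    norm_num
  have h2 : V 2 (((g * x j) ^ n * x j : (MC X)ˣ) : MC X) := by
    refine N.v2 _ ?_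
    rw [form_zpow_mul N, f_g N, N.hx]
    linarith
  have hχ : chi k (((g * x j) ^ n * x j : (MC X)ˣ) : MC X) = 0 := by
    have h3 := N.rr ((g * x j) ^ n * x j)
    have h4 : form k X ((g * x j) ^ n * x j) ((g * x j) ^ n * x j) = -2 * n - 1 := by
      rw [form_zpow_mul N, form_comm k X (g * x j), form_zpow_mul N, f_f N, form_comm k X (x j) (g * x j), f_xj N,
        form_comm k X (x j), form_zpow_mul N, f_xj N, N.xx]
      ring
    have h5 : form k X ((g * x j) ^ n * x j) w = -2 * n + 1 := by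
      rw [form_zpow_mul N, f_w N, N.xw]
      ring
    rw [h4, h5] at h3
    linarith
  rcases i with _ | _ | _ | i
  · exact h0
  · refine V_of_h_zero k _ 1 ?_
    have h3 := chi_eq_three k (hd2 N) ((g * x j) ^ n * x j)
    rw [hχ, h_eq_zero k h0, h_eq_zero k h2, Nat.cast_zero] at h3
    omega
  · exact h2
  · obtain ⟨L, hL, hL'⟩ := exists_unit ((g * x j) ^ n * x j)
    rw [hL']
    have hco : Co ((unit hL : (MC X)ˣ) : MC X) := by
      rw [unit_val, Co_mc]
      exact HodgeSec.isCoh_of_isInvertible hL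
    exact V_of_dim k hco (d := 2) ((Topology.IsInducing.subtypeVal.topologicalKrullDim_le).trans (hd2 N)) (by omega)

include hB hf in
/-- `EV f (x_j^m)` for `m ≤ 1`. -/
theorem EV_xj (m : ℤ) (hm : m ≤ 1) : EV (g * x j) (x j ^ m) := by
  obtain ⟨t, ht⟩ := Int.eq_ofNat_of_zero_le (show 0 ≤ 1 - m by omega)
  induction t generalizing m with
  | zero =>
    obtain rfl : m = 1 := by push_cast at ht; omega
    rw [zpow_one]
    exact ⟨0, fun n hn => V_base N j hM hB hf n hn 1⟩
  | succ t ih =>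
    refine EV.add k ⟨N.int j, N.dim j⟩ (N.val j) (N.h1 j) ?_ ⟨-1 - m, fun n hn => ?_⟩
    · rw [← zpow_add_one]
      exact ih (m + 1) (by omega) (by push_cast at ht ⊢; omega)
    · rw [dg_eq_neg_form k (hd2 N) _ (N.val j), form_zpow_mul N, f_xj N, form_zpow_left k X (hd2 N), N.xx]
      omega

/-- The step for the other exceptional curves. -/
theorem EV_step (i : Fin r) (hi : i ≠ j)
    {A : (MC X)ˣ} (hAx : form k X A (x i) = 0) (hA : EV (g * x j) A) (m : ℤ)
    (hm : -1 ≤ m) (hme : m ≤ form k X A (g * x j))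
    (hline : 0 < m → ∃ (C : X.IdealSheafData), IsCurve C ∧ V 1 (mc (ClSub.quotMod C)) ∧
      mc (ClSub.idealMod C) = (((g * x i * x j)⁻¹ : (MC X)ˣ) : MC X)) :
    EV (g * x j) (A * x i ^ m) := by
  rcases eq_or_lt_of_le hm with hm1 | hm1
  · -- `m = -1`
    rw [← hm1]
    refine EV.add k ⟨N.int i, N.dim i⟩ (N.val i) (N.h1 i) ?_ ⟨0, fun n _ => ?_⟩
    · rw [mul_assoc, zpow_neg_one, inv_mul_cancel, mul_one]
      exact hA
    · rw [dg_eq_neg_form k (hd2 N) _ (N.val i), form_zpow_mul N, f_xi N j i hi, form_mul_left k X (hd2 N), hAx,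
        form_zpow_left k X (hd2 N), N.xx]
      norm_num
  · rcases eq_or_lt_of_le (show 0 ≤ m by omega) with hm0 | hm0
    · rw [← hm0, zpow_zero, mul_one]
      exact hA
    · obtain ⟨C, hC, hC1, hCc⟩ := hline hm0
      have key : ∀ t : ℕ, (t : ℤ) ≤ m → EV (g * x j) (A * x i ^ (t : ℤ)) := by
        intro t
        induction t with
        | zero =>
          intro _
          rw [Nat.cast_zero, zpow_zero, mul_one]
          exact hA
        | succ t ih =>
          intro ht
          push_cast at ht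
          have hcls : (g * x i * x j)⁻¹ = (g * x j)⁻¹ * (x i)⁻¹ := by
            rw [mul_right_comm, mul_inv]
          refine EV.add k (c := (g * x i * x j)⁻¹) hC hCc.symm hC1 ?_ ⟨0, fun n _ => ?_⟩
          · have h1 := (ih (by omega)).shift (-1)
            have h2 : A * x i ^ ((t + 1 : ℕ) : ℤ) * (g * x i * x j)⁻¹ =
                (g * x j) ^ (-1 : ℤ) * (A * x i ^ (t : ℤ)) := by
              rw [hcls, zpow_neg_one, Nat.cast_succ, zpow_add_one]
              have : A * (x i ^ (t : ℤ) * x i) * ((g * x j)⁻¹ * (x i)⁻¹) =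
                  (g * x j)⁻¹ * (A * x i ^ (t : ℤ)) * (x i * (x i)⁻¹) := by
                ac_rfl
              rw [this, mul_inv_cancel, mul_one]
            rw [h2]
            exact h1
          · rw [dg_eq_neg_form k (hd2 N) _ hCc.symm, hcls]
            have h3 : form k X (x i) (g * x j) = 0 := by rw [form_comm, f_xi N j i hi]
            have h4 : ∀ B : (MC X)ˣ, form k X B ((g * x j)⁻¹ * (x i)⁻¹) =
                - form k X B (g * x j) - form k X B (x i) := by
              intro B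
              rw [form_mul_right k X (hd2 N), ← zpow_neg_one, ← zpow_neg_one, form_zpow_right k X (hd2 N),
                form_zpow_right k X (hd2 N)]
              ring
            rw [h4, form_zpow_mul N, form_zpow_mul N, f_f N, f_xi N j i hi, form_mul_left k X (hd2 N),
              form_mul_left k X (hd2 N), hAx, form_zpow_left k X (hd2 N), form_zpow_left k X (hd2 N), h3, N.xx]
            push_cast
            omega
      obtain ⟨t, ht⟩ := Int.eq_ofNat_of_zero_le hm0.le
      rw [ht]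
      exact key t ht.ge

include hB hf in
/-- **`H¹(L + nF) = 0` for `n ≫ 0`.** -/
theorem EV_main (hline : ∀ i, i ≠ j → ∃ (C : X.IdealSheafData), IsCurve C ∧ V 1 (mc (ClSub.quotMod C)) ∧
      mc (ClSub.idealMod C) = (((g * x i * x j)⁻¹ : (MC X)ˣ) : MC X)) (a : ℤ) (n : Fin r → ℤ)
    (hn : ∀ i, i ≠ j → n i + n j ≤ a ∧ -1 ≤ n i) (hnj : -1 ≤ a - n j) : EV (g * x j) (g ^ a * bb x n) := by
  classical
  set e : ℤ := a - n j with he
  have hgx : ∀ l, form k X (x l) (g * x j) = if l = j then -1 else 0 := by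
    intro l
    split_ifs with h
    · rw [h, form_comm, f_xj N]
    · rw [form_comm, f_xi N j l h]
  have key : ∀ s : Finset (Fin r), j ∉ s → EV (g * x j) (x j ^ (-e) * ∏ l ∈ s, x l ^ n l) ∧
      form k X (x j ^ (-e) * ∏ l ∈ s, x l ^ n l) (g * x j) = e ∧
      ∀ i, i ∉ s → i ≠ j → form k X (x j ^ (-e) * ∏ l ∈ s, x l ^ n l) (x i) = 0 := by
    intro s
    induction s using Finset.induction_on with
    | empty =>
      intro _
      rw [Finset.prod_empty, mul_one]
      refine ⟨EV_xj N j hM hB hf _ (by omega), ?_, fun i _ hi => ?_⟩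
      · rw [form_zpow_left k X (hd2 N), hgx, if_pos rfl]
        ring
      · rw [form_zpow_left k X (hd2 N), N.xy j i hi.symm, mul_zero]
    | insert b s hb ih =>
      intro hj
      rw [Finset.mem_insert, not_or] at hj
      obtain ⟨ih1, ih2, ih3⟩ := ih hj.2
      have hbj : b ≠ j := Ne.symm hj.1
      have e1 : x j ^ (-e) * ∏ l ∈ insert b s, x l ^ n l = x j ^ (-e) * (∏ l ∈ s, x l ^ n l) * x b ^ n b := by
        rw [Finset.prod_insert hb, mul_comm (x b ^ n b), mul_assoc]
      rw [e1]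
      refine ⟨EV_step N j b hbj (ih3 b hb hbj) ih1 (n b) (hn b hbj).2 ?_ fun _ => hline b hbj, ?_, fun i hi hij => ?_⟩
      · rw [ih2]
        have := (hn b hbj).1
        omega
      · rw [form_mul_left k X (hd2 N), ih2, form_zpow_left k X (hd2 N), hgx, if_neg hbj]
        ring
      · rw [Finset.mem_insert, not_or] at hi
        rw [form_mul_left k X (hd2 N), ih3 i hi.2 hij, form_zpow_left k X (hd2 N), N.xy b i (Ne.symm hi.1)]
        ring
  have h1 := (key (Finset.univ.erase j) (Finset.notMem_erase j _)).1.shift a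
  have h2 : (g * x j) ^ a * (x j ^ (-e) * ∏ l ∈ Finset.univ.erase j, x l ^ n l) = g ^ a * bb x n := by
    unfold bb
    rw [← Finset.mul_prod_erase Finset.univ (fun l => x l ^ n l) (Finset.mem_univ j), mul_zpow, mul_assoc, ← mul_assoc,
      mul_assoc (g ^ a), ← mul_assoc (x j ^ a), ← zpow_add]
    congr 3
    omega
  rwa [h2] at h1

end Pencil

/-! ### Direct images -/

section Push

variable (k : Type u) [Field k] {X : Scheme.{u}} [X.Over (Spec (CommRingCat.of k))]
  [IsProper (X ↘ Spec (CommRingCat.of k))] (π : X ⟶ CohB1.ProjSpace 1 k)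
  (hπk : π ≫ CohB1.ProjSpace.toSpec 1 k = X ↘ (Spec (CommRingCat.of k))) [HasInjectiveResolutions X.Modules]
  {f : (MC X)ˣ} (hf : (f : MC X) = mc ((Scheme.Modules.pullback π).obj (Twist.twistProjSpace 1 k 1)))
  {L : X.Modules} {v : (MC X)ˣ} (hv : (v : MC X) = mc L)

include hf in
omit [X.Over (Spec (CommRingCat.of k))] [IsProper (X ↘ Spec (CommRingCat.of k))]
  [HasInjectiveResolutions X.Modules] in
theorem mc_pull_pow (n : ℕ) : mc ((Scheme.Modules.pullback π).obj
    (CohB1.tensorPow (Twist.twistProjSpace 1 k 1) n)) = ((f ^ n : (MC X)ˣ) : MC X) := by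
  induction n with
  | zero =>
    rw [pow_zero, Units.val_one, ← mc_one]
    exact mc_eq (Fga.UnitRestrict.pullbackUnitIso π)
  | succ n ih =>
    rw [pow_succ, Units.val_mul, ← ih, hf, ← mc_tensor]
    exact mc_eq (Ega3B.PullTensor.pullTensorIso π
      (Fdesc.LocGen.isInvertible_tensorPow (FormalB.TwistGen.isInvertible_twistProjSpace 1 k 1) n)
      (FormalB.TwistGen.isInvertible_twistProjSpace 1 k 1))

include hf hv in
omit [X.Over (Spec (CommRingCat.of k))] [IsProper (X ↘ Spec (CommRingCat.of k))]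
  [HasInjectiveResolutions X.Modules] in
theorem V_iff (q n : ℕ) : V q ((f ^ n * v : (MC X)ˣ) : MC X) ↔
    Subsingleton (Coh.HH X (CohB1.tensorMod ((Scheme.Modules.pullback π).obj
      (CohB1.tensorPow (Twist.twistProjSpace 1 k 1) n)) L) q) := by
  rw [Units.val_mul, ← mc_pull_pow k π hf n, hv, ← mc_tensor, V_mc]

include hπk hf hv in
theorem isZero_rpush (q : ℕ) (hL : Coh.IsCoh L) (h : ∃ n₀ : ℤ, ∀ n : ℤ, n₀ ≤ n →
    V q ((f ^ n * v : (MC X)ˣ) : MC X)) : IsZero ((Coh.Rpush π q).obj L) := by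
  have hp : IsProper (CohB1.ProjSpace.toSpec 1 k) :=
    inferInstanceAs (IsProper (CohB1.ProjSpace 1 k ↘ Spec (CommRingCat.of k)))
  have hπp : IsProper π := by
    have : IsProper (π ≫ CohB1.ProjSpace.toSpec 1 k) := by rw [hπk]; infer_instance
    exact IsProper.of_comp π (CohB1.ProjSpace.toSpec 1 k)
  refine LerayAmp.isZero_rpush_of_eventually π (CohB1.ProjSpace.toSpec 1 k)
    (VarietyA.AmpleField.isAmple_twistProjSpace 1 k) hL q ?_
  obtain ⟨n₀, h⟩ := h
  refine ⟨n₀.toNat, fun n hn => (V_iff k π hf hv q n).1 ?_⟩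
  have := h n (by omega)
  rwa [zpow_natCast] at this

end Push

end K461.PencilR
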