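import Groth.Agent.Surf.K461.ExcNum
import Groth.Agent.Surf.K461.PlaneMain
import Groth.Agent.Lefpen.H705.ClosedPoint

/-!
# Numerical facts for the blow-up of the plane in a reduced finite set of points

`Num k h w E x`: on the surface `X`, `h` has `h² = 1`, the `E i` are `(-1)`-curves with ideal classes `x i`, orthogonal
to `h` and disjoint, `w` is the canonical class, `χ(O) = 1`, `(h·w) = -3`, and `H²(u) = 0` if `(u·h) ≥ -2`.
`exists_num` : the blow-up of the plane in `r` points.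
-/

set_option autoImplicit false
universe u
open CategoryTheory CategoryTheory.Limits AlgebraicGeometry TopologicalSpace

namespace K461.PlaneE

open Groth.Agent Groth.Agent.Fga.PicMon Groth.Agent.Fga Groth.Agent.Pic13.H11 Groth.Agent.Pic13.H11.Cls
  Groth.Agent.Fga.HodgeIneq
open Groth.Agent.Fga.HodgeForm K461.Neg K461.GG K461.PlaneH K461.SerreCl K461.Plane

/-- The numerical facts. -/
structure Num (k : Type u) [Field k] {X : Scheme.{u}} [X.Over (Spec (CommRingCat.of k))] {r : ℕ}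
    (h w : (MC X)ˣ) (E : Fin r → X.IdealSheafData) (x : Fin r → (MC X)ˣ) : Prop where
  hd : topologicalKrullDim X = 2
  val : ∀ i, (x i : MC X) = mc (ClSub.idealMod (E i))
  int : ∀ i, IsIntegral (E i).subscheme
  dim : ∀ i, topologicalKrullDim ((E i).support : Set X) = 1
  h1 : ∀ i, V 1 (mc (ClSub.quotMod (E i)))
  hh : form k X h h = 1
  hx : ∀ i, form k X (x i) h = 0
  xx : ∀ i, form k X (x i) (x i) = -1
  xy : ∀ i j, i ≠ j → form k X (x i) (x j) = 0
  chi1 : chi k (1 : MC X) = 1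
  rr : ∀ u : (MC X)ˣ, 2 * chi k (u : MC X) = form k X u u - form k X u w + 2
  hw : form k X h w = -3
  xw : ∀ i, form k X (x i) w = 1
  v2 : ∀ u : (MC X)ˣ, -2 ≤ form k X u h → V 2 (u : MC X)

variable (k : Type u) [Field k] [IsAlgClosed k] {r : ℕ} {P : Fin r → ↥(CohB1.ProjSpace 2 k)}
  (hP : Function.Injective P)
  (hPc : ∀ i, IsClosed ({P i} : Set ↥(CohB1.ProjSpace 2 k))) (hZ : IsClosed (Set.range P))
  {X : Scheme.{u}} [X.Over (Spec (CommRingCat.of k))] (σ : X ⟶ CohB1.ProjSpace 2 k)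
  (hσk : σ ≫ CohB1.ProjSpace.toSpec 2 k = X ↘ (Spec (CommRingCat.of k)))
  (hσ : BlowUp.IsBlowUp σ (Scheme.IdealSheafData.vanishingIdeal ⟨Set.range P, hZ⟩))
  [IsIntegral X] [IsProper (X ↘ (Spec (CommRingCat.of k)))] [Smooth (X ↘ (Spec (CommRingCat.of k)))]
  (hdim : topologicalKrullDim X = 2)

omit [IsAlgClosed k] in
theorem regular (y : ↥(CohB1.ProjSpace 2 k)) : IsRegularLocalRing ((CohB1.ProjSpace 2 k).presheaf.stalk y) :=
  Sga5.ProjReg.isRegularLocalRing_stalk 2 k y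

omit [IsAlgClosed k] in
theorem stalk_dim (y : ↥(CohB1.ProjSpace 2 k)) (hy : IsClosed ({y} : Set ↥(CohB1.ProjSpace 2 k))) :
    ringKrullDim ((CohB1.ProjSpace 2 k).presheaf.stalk y) = 2 := by
  have := Sga5.ProjSmooth.smooth_toSpec 2 k
  exact Lefpen.H705.ClosedPoint.ringKrullDim_stalk (g := CohB1.ProjSpace.toSpec 2 k) 2 y hy

/-- The ideal of the exceptional curve over `P i`. -/
noncomputable abbrev exc (i : Fin r) : X.IdealSheafData :=
  (Scheme.IdealSheafData.vanishingIdeal ⟨{P i}, hPc i⟩).comap σ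

omit [IsAlgClosed k] [IsIntegral X] [Smooth (X ↘ (Spec (CommRingCat.of k)))] in
include hPc hZ hσ in
theorem isEff_exc (i : Fin r) : BlowUp.IsEffCartierIdeal (exc k hPc σ i) := by
  refine ExcNum.isEff k σ ⟨Set.range P, hZ⟩ ?_ hσ (P i) ⟨i, rfl⟩ (hPc i)
  rintro _ ⟨l, rfl⟩
  exact hPc l

include hP hPc hZ hσk hσ hdim in
/-- **The numerical facts for the blow-up of the plane.** -/
theorem exists_num : ∃ (w : (MC X)ˣ) (x : Fin r → (MC X)ˣ), Num k (hcl k σ) w (exc k hPc σ) x := by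
  obtain ⟨hr, W, w, hW, hw⟩ := PlaneMain.exists_canonical k hdim
  have hN := Neg.isNoetherian (X := X) k
  have hT : ∀ y ∈ (SetLike.coe (⟨Set.range P, hZ⟩ : Closeds ↥(CohB1.ProjSpace 2 k)) : Set ↥(CohB1.ProjSpace 2 k)),
      IsClosed ({y} : Set ↥(CohB1.ProjSpace 2 k)) := by
    rintro _ ⟨l, rfl⟩
    exact hPc l
  have hreg := regular k
  have hover : σ ≫ (CohB1.ProjSpace 2 k ↘ Spec (CommRingCat.of k)) = X ↘ Spec (CommRingCat.of k) := hσk
  have hft : LocallyOfFiniteType (CohB1.ProjSpace 2 k ↘ Spec (CommRingCat.of k)) := by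
    have := Sga5.ProjSmooth.smooth_toSpec 2 k
    have h1 : Smooth (CohB1.ProjSpace.toSpec 2 k) := SmoothOfRelativeDimension.smooth 2 _
    change LocallyOfFiniteType (CohB1.ProjSpace.toSpec 2 k)
    infer_instance
  have hE := isEff_exc k hPc hZ σ hσ
  let x : Fin r → (MC X)ˣ := fun i => unit (Dix.IdealModCartier.isInvertible_idealMod (hE i))
  have hint : ∀ i, IsIntegral (exc k hPc σ i).subscheme := fun i =>
    ExcNum.isIntegral_exc k σ hover ⟨Set.range P, hZ⟩ hT hσ (P i) ⟨i, rfl⟩ (hPc i)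
      (stalk_dim k (P i) (hPc i)) hdim.le
  have hdm : ∀ i, topologicalKrullDim ((exc k hPc σ i).support : Set X) = 1 := fun i =>
    ExcNum.dim_exc k σ hover ⟨Set.range P, hZ⟩ hT hσ (P i) ⟨i, rfl⟩ (hPc i)
      (stalk_dim k (P i) (hPc i)) hdim.le
  have hq1 : ∀ i, V 1 (mc (ClSub.quotMod (exc k hPc σ i))) := fun i => by
    rw [V_mc]
    exact ExcNum.subsingleton_quot k σ hover ⟨Set.range P, hZ⟩ hT hσ (P i) ⟨i, rfl⟩ (hPc i)
      (stalk_dim k (P i) (hPc i)) hdim.le 1 one_pos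
  have hxx : ∀ i, form k X (x i) (x i) = -1 := fun i => by
    rw [← intNum_eq_form]
    exact ExcNum.int_self k σ hover ⟨Set.range P, hZ⟩ hT hσ (P i) ⟨i, rfl⟩ (hPc i)
      (stalk_dim k (P i) (hPc i)) hdim.le
  have hone := chi_one k hPc hZ σ hσk hσ
  have hrr : ∀ u : (MC X)ˣ, 2 * chi k (u : MC X) = form k X u u - form k X u w + 2 := fun u => by
    have h1 := two_chi k hdim.le hW w hw u
    rw [hone] at h1
    exact h1
  refine ⟨w, x, hdim, fun i => unit_val _, hint, hdm, hq1, form_h_h k hPc hZ σ hσk hσ hdim.le, fun i => ?_, hxx,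
    fun i j hij => ?_, hone, hrr, form_h_w k hPc hZ σ hσk hσ hdim.le hW w hw, fun i => ?_,
    V_two_of_ge k hPc hZ σ hσk hσ hdim.le hW w hw⟩
  · rw [hcl, ← intNum_eq_form]
    exact ExcNum.int_pull k σ hover ⟨Set.range P, hZ⟩ hT hσ (P i) ⟨i, rfl⟩ (hPc i)
      (stalk_dim k (P i) (hPc i)) hdim.le (FormalB.TwistGen.isInvertible_twistProjSpace 2 k 1)
  · rw [← intNum_eq_form]
    exact ExcNum.int_other k σ hover ⟨Set.range P, hZ⟩ hT hσ (P i) ⟨i, rfl⟩ (hPc i)
      (stalk_dim k (P i) (hPc i)) hdim.le (P j) ⟨j, rfl⟩ (hPc j) fun h => hij (hP h).symm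
  · have h1 := hrr (x i)
    have h2 := (ses_ideal (exc k hPc σ i)).chi_eq k
    have h3 := chi_quot k _ (hint i) (hdm i)
    rw [h_eq_zero k (hq1 i)] at h3
    rw [hone, h3] at h2
    have h4 : ((x i : (MC X)ˣ) : MC X) = mc (ClSub.idealMod (exc k hPc σ i)) := unit_val _
    rw [hxx i, h4] at h1
    push_cast at h2
    linarith

end K461.PlaneE
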